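import Mathlib

/-!
# Presentations and bifunctors right exact in each variable (helper19)

Namespace `Groth.Agent.Lib.Helper19.AbBifunctor`.
-/

set_option autoImplicit false
set_option linter.style.haveILetI false
set_option linter.unusedSectionVars false
universe v u
open CategoryTheory CategoryTheory.Limits

namespace Groth.Agent.Lib.Helper19.AbBifunctor

variable {𝒜 : Type u} [Category.{v} 𝒜] [Abelian 𝒜] (T : 𝒜 ⥤ 𝒜 ⥤ 𝒜)
  [∀ A, PreservesFiniteColimits (T.obj A)] [∀ B, PreservesFiniteColimits (T.flip.obj B)]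
  [∀ A, (T.obj A).PreservesZeroMorphisms] [∀ B, (T.flip.obj B).PreservesZeroMorphisms]

/-- the tensor product of two epimorphisms is an epimorphism -/
lemma epi_tensor {P A Q B : 𝒜} (p : P ⟶ A) [Epi p] (q : Q ⟶ B) [Epi q] :
    Epi ((T.map p).app Q ≫ (T.obj A).map q) := by
  haveI : Epi ((T.map p).app Q) := (T.flip.obj Q).map_epi p
  haveI : Epi ((T.obj A).map q) := (T.obj A).map_epi q
  exact epi_comp _ _

/-- a presentation of `A ⊗ B` from presentations of `A` and `B` -/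
theorem exact_tensor_presentations {P₁ P₀ A Q₁ Q₀ B : 𝒜}
    (ρA : P₁ ⟶ P₀) (pA : P₀ ⟶ A) (wA : ρA ≫ pA = 0) (hA : (ShortComplex.mk ρA pA wA).Exact)
    [Epi pA] (ρB : Q₁ ⟶ Q₀) (pB : Q₀ ⟶ B) (wB : ρB ≫ pB = 0)
    (hB : (ShortComplex.mk ρB pB wB).Exact) [Epi pB] :
    ∃ w : coprod.desc ((T.map ρA).app Q₀) ((T.obj P₀).map ρB) ≫
        ((T.map pA).app Q₀ ≫ (T.obj A).map pB) = 0,
      (ShortComplex.mk _ _ w).Exact ∧ Epi ((T.map pA).app Q₀ ≫ (T.obj A).map pB) := by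
  have hS1 : ((ShortComplex.mk ρA pA wA).map (T.flip.obj Q₀)).Exact :=
    hA.map_of_epi_of_preservesCokernel (T.flip.obj Q₀) (inferInstanceAs (Epi pA)) inferInstance
  have hS2 : ((ShortComplex.mk ρB pB wB).map (T.obj A)).Exact :=
    hB.map_of_epi_of_preservesCokernel (T.obj A) (inferInstanceAs (Epi pB)) inferInstance
  haveI e1 : Epi ((ShortComplex.mk ρA pA wA).map (T.flip.obj Q₀)).g :=
    (T.flip.obj Q₀).map_epi pA
  haveI e2 : Epi ((ShortComplex.mk ρB pB wB).map (T.obj A)).g := (T.obj A).map_epi pB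
  haveI e3 : Epi ((T.map pA).app Q₁) := (T.flip.obj Q₁).map_epi pA
  have nat : (T.obj P₀).map ρB ≫ (T.map pA).app Q₀ = (T.map pA).app Q₁ ≫ (T.obj A).map ρB :=
    (T.map pA).naturality ρB
  have w1 : (T.map ρA).app Q₀ ≫ (T.map pA).app Q₀ = 0 := by
    have h : (T.flip.obj Q₀).map ρA ≫ (T.flip.obj Q₀).map pA = 0 := by
      rw [← Functor.map_comp, wA, Functor.map_zero]
    exact h
  have w2 : (T.obj A).map ρB ≫ (T.obj A).map pB = 0 := by
    rw [← Functor.map_comp, wB, Functor.map_zero]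
  have w : coprod.desc ((T.map ρA).app Q₀) ((T.obj P₀).map ρB) ≫
      ((T.map pA).app Q₀ ≫ (T.obj A).map pB) = 0 := by
    apply coprod.hom_ext
    · rw [coprod.inl_desc_assoc, reassoc_of% w1, zero_comp, comp_zero]
    · rw [coprod.inr_desc_assoc, reassoc_of% nat, w2, comp_zero, comp_zero]
  haveI := epi_tensor T pA pB
  refine ⟨w, ?_, inferInstance⟩
  have key : ∀ {Z : 𝒜} (t : (T.obj P₀).obj Q₀ ⟶ Z),
      coprod.desc ((T.map ρA).app Q₀) ((T.obj P₀).map ρB) ≫ t = 0 →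
      ∃ t₂ : (T.obj A).obj B ⟶ Z, ((T.map pA).app Q₀ ≫ (T.obj A).map pB) ≫ t₂ = t := by
    intro Z t ht
    have h1 : (T.map ρA).app Q₀ ≫ t = 0 := by
      have := coprod.inl ≫= ht
      rwa [coprod.inl_desc_assoc, comp_zero] at this
    have h2 : (T.obj P₀).map ρB ≫ t = 0 := by
      have := coprod.inr ≫= ht
      rwa [coprod.inr_desc_assoc, comp_zero] at this
    obtain ⟨t₁, ht₁⟩ : ∃ t₁ : (T.obj A).obj Q₀ ⟶ Z, (T.map pA).app Q₀ ≫ t₁ = t :=
      ⟨hS1.desc t h1, hS1.g_desc t h1⟩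
    have h3 : (T.obj A).map ρB ≫ t₁ = 0 := by
      rw [← cancel_epi ((T.map pA).app Q₁), comp_zero, ← reassoc_of% nat, ht₁, h2]
    obtain ⟨t₂, ht₂⟩ : ∃ t₂ : (T.obj A).obj B ⟶ Z, (T.obj A).map pB ≫ t₂ = t₁ :=
      ⟨hS2.desc t₁ h3, hS2.g_desc t₁ h3⟩
    exact ⟨t₂, by rw [Category.assoc, ht₂, ht₁]⟩
  refine ShortComplex.exact_of_g_is_cokernel _ (CokernelCofork.IsColimit.ofπ _ _
    (fun t ht => (key t ht).choose)
    (fun t ht => (key t ht).choose_spec)
    (fun t ht b hb => ?_))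
  rw [← cancel_epi ((T.map pA).app Q₀ ≫ (T.obj A).map pB), (key t ht).choose_spec]
  exact hb

end Groth.Agent.Lib.Helper19.AbBifunctor
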