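import Mathlib

/-!
# Abelian-category lemmas for generators of extensions, kernels and cokernels (helper19)

Namespace `Groth.Agent.Lib.Helper19.AbGen`.
-/

set_option autoImplicit false
universe v u
open CategoryTheory CategoryTheory.Limits

namespace Groth.Agent.Lib.Helper19.AbGen

variable {𝒜 : Type u} [Category.{v} 𝒜] [Abelian 𝒜]

/-- generators of an extension -/
lemma epi_desc_of_shortExact {S : ShortComplex 𝒜} (hS : S.ShortExact) {P₁ P₃ : 𝒜}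
    (p₁ : P₁ ⟶ S.X₁) [Epi p₁] (q : P₃ ⟶ S.X₂) [Epi (q ≫ S.g)] :
    Epi (coprod.desc (p₁ ≫ S.f) q) := by
  have := hS.epi_g
  apply Preadditive.epi_of_cancel_zero
  intro Z t ht
  have h1 : (p₁ ≫ S.f) ≫ t = 0 := by
    have := coprod.inl ≫= ht
    rwa [coprod.inl_desc_assoc, comp_zero] at this
  have h2 : q ≫ t = 0 := by
    have := coprod.inr ≫= ht
    rwa [coprod.inr_desc_assoc, comp_zero] at this
  rw [Category.assoc] at h1
  have h3 : S.f ≫ t = 0 := by rwa [← cancel_epi p₁, comp_zero]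
  have h4 : S.g ≫ hS.exact.desc t h3 = t := hS.exact.g_desc t h3
  rw [← h4, ← Category.assoc] at h2
  have h5 : hS.exact.desc t h3 = 0 := by rwa [← cancel_epi (q ≫ S.g), comp_zero]
  rw [← h4, h5, comp_zero]

/-- generators of a kernel (Stacks 01BP (4)): `S : K ⟶ G ⟶ F` exact with `S.f` mono,
`T : P_m ⟶ P_n ⟶ F` exact, `α : P_n ⟶ G` a lift of `T.g`, `γ : P_r ⟶ G` epi and
`β : P_r ⟶ P_n` with `β ≫ T.g = γ ≫ S.g`. -/
lemma epi_of_kernel_data {S : ShortComplex 𝒜} [Mono S.f]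
    {Pm Pn Pr : 𝒜} (ρ : Pm ⟶ Pn) (p : Pn ⟶ S.X₃) (w : ρ ≫ p = 0)
    (hT : (ShortComplex.mk ρ p w).Exact)
    (α : Pn ⟶ S.X₂) (γ : Pr ⟶ S.X₂) [Epi γ] (β : Pr ⟶ Pn)
    (hβ : β ≫ p = γ ≫ S.g) (cm : Pm ⟶ S.X₁) (hcm : cm ≫ S.f = ρ ≫ α)
    (cr : Pr ⟶ S.X₁) (hcr : cr ≫ S.f = γ - β ≫ α) :
    Epi (coprod.desc cm cr) := by
  rw [epi_iff_surjective_up_to_refinements]
  intro T x
  obtain ⟨T₁, π₁, _, r, hr⟩ := surjective_up_to_refinements_of_epi γ (x ≫ S.f)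
  have h0 : (r ≫ β) ≫ p = 0 := by
    rw [Category.assoc, hβ, ← Category.assoc, ← hr, Category.assoc, Category.assoc, S.zero,
      comp_zero, comp_zero]
  obtain ⟨T₂, π₂, _, m, hm⟩ := hT.exact_up_to_refinements (r ≫ β) h0
  refine ⟨T₂, π₂ ≫ π₁, inferInstance, m ≫ coprod.inl + (π₂ ≫ r) ≫ coprod.inr, ?_⟩
  rw [← cancel_mono S.f]
  simp only [Category.assoc, Preadditive.add_comp, coprod.inl_desc_assoc, coprod.inr_desc_assoc,
    hcm, hcr, Preadditive.comp_sub]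
  dsimp at hm
  rw [← reassoc_of% hm, hr]
  simp

/-- presentation of a cokernel (Stacks 01BP (5)): `S : G ⟶ F ⟶ Q` exact with `S.g` epi,
`P_m ⟶ P_n ⟶ F` a presentation, `γ : P_r ⟶ G` epi and
`β : P_r ⟶ P_n` with `β ≫ p = γ ≫ S.f`. -/
noncomputable def isColimitOfCokernelData {S : ShortComplex 𝒜} (hS : S.Exact) [Epi S.g]
    {Pm Pn Pr : 𝒜} (ρ : Pm ⟶ Pn) (p : Pn ⟶ S.X₂) (w : ρ ≫ p = 0)
    (hp : IsColimit (CokernelCofork.ofπ p w))
    (γ : Pr ⟶ S.X₁) [Epi γ] (β : Pr ⟶ Pn) (hβ : β ≫ p = γ ≫ S.f)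
    (w' : coprod.desc ρ β ≫ p ≫ S.g = 0) :
    IsColimit (CokernelCofork.ofπ (p ≫ S.g) w') := by
  haveI : Epi p := epi_of_isColimit_cofork hp
  have key : ∀ {Z : 𝒜} (t : Pn ⟶ Z), coprod.desc ρ β ≫ t = 0 →
      ∃ t₂ : S.X₃ ⟶ Z, (p ≫ S.g) ≫ t₂ = t := by
    intro Z t ht
    have h1 : ρ ≫ t = 0 := by
      have := coprod.inl ≫= ht
      rwa [coprod.inl_desc_assoc, comp_zero] at this
    have h2 : β ≫ t = 0 := by
      have := coprod.inr ≫= ht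
      rwa [coprod.inr_desc_assoc, comp_zero] at this
    obtain ⟨t₁, ht₁⟩ : ∃ t₁ : S.X₂ ⟶ Z, p ≫ t₁ = t :=
      ⟨hp.desc (CokernelCofork.ofπ t h1), Cofork.IsColimit.π_desc hp⟩
    have h3 : S.f ≫ t₁ = 0 := by
      rw [← cancel_epi γ, comp_zero, ← Category.assoc, ← hβ, Category.assoc, ht₁, h2]
    exact ⟨hS.desc t₁ h3, by rw [Category.assoc, hS.g_desc, ht₁]⟩
  exact CokernelCofork.IsColimit.ofπ _ _
    (fun t ht => (key t ht).choose)
    (fun t ht => (key t ht).choose_spec)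
    (fun t ht b hb => by
      rw [← cancel_epi (p ≫ S.g), (key t ht).choose_spec, hb])

/-- exact form of `isColimitOfCokernelData` -/
lemma exact_of_cokernel_data {S : ShortComplex 𝒜} (hS : S.Exact) [Epi S.g]
    {Pm Pn Pr : 𝒜} (ρ : Pm ⟶ Pn) (p : Pn ⟶ S.X₂) (w : ρ ≫ p = 0)
    (hT : (ShortComplex.mk ρ p w).Exact) [Epi p]
    (γ : Pr ⟶ S.X₁) [Epi γ] (β : Pr ⟶ Pn) (hβ : β ≫ p = γ ≫ S.f) :
    ∃ w' : coprod.desc ρ β ≫ p ≫ S.g = 0,
      (ShortComplex.mk (coprod.desc ρ β) (p ≫ S.g) w').Exact := by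
  have w' : coprod.desc ρ β ≫ p ≫ S.g = 0 := by
    apply coprod.hom_ext
    · rw [coprod.inl_desc_assoc, reassoc_of% w, zero_comp, comp_zero]
    · rw [coprod.inr_desc_assoc, reassoc_of% hβ, S.zero, comp_zero, comp_zero]
  exact ⟨w', ShortComplex.exact_of_g_is_cokernel _
    (isColimitOfCokernelData hS ρ p w hT.gIsCokernel γ β hβ w')⟩

/-- transport of a cokernel presentation along isomorphisms -/
noncomputable def isColimitTransport {Pm Pn Pm' Pn' X X' : 𝒜} (ρ : Pm ⟶ Pn) (p : Pn ⟶ X)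
    (w : ρ ≫ p = 0) (hp : IsColimit (CokernelCofork.ofπ p w)) (ρ' : Pm' ⟶ Pn') (p' : Pn' ⟶ X')
    (w' : ρ' ≫ p' = 0) (e₁ : Pm ≅ Pm') (e₀ : Pn ≅ Pn') (e : X ≅ X')
    (h1 : ρ ≫ e₀.hom = e₁.hom ≫ ρ') (h2 : e₀.hom ≫ p' = p ≫ e.hom) :
    IsColimit (CokernelCofork.ofπ p' w') := by
  have key : ∀ {Z : 𝒜} (t : Pn' ⟶ Z), ρ' ≫ t = 0 → ρ ≫ e₀.hom ≫ t = 0 := by
    intro Z t ht
    rw [reassoc_of% h1, ht, comp_zero]
  haveI : Epi p := epi_of_isColimit_cofork hp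
  have hp' : p' = e₀.inv ≫ p ≫ e.hom := by rw [← h2, Iso.inv_hom_id_assoc]
  haveI : Epi p' := by rw [hp']; infer_instance
  exact CokernelCofork.IsColimit.ofπ _ _
    (fun t ht => e.inv ≫ hp.desc (CokernelCofork.ofπ (e₀.hom ≫ t) (key t ht)))
    (fun t ht => by
      rw [← cancel_epi e₀.hom, reassoc_of% h2, Iso.hom_inv_id_assoc]
      exact Cofork.IsColimit.π_desc hp)
    (fun t ht b hb => by
      rw [← cancel_epi p', hb, ← cancel_epi e₀.hom, reassoc_of% h2, Iso.hom_inv_id_assoc]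
      exact (Cofork.IsColimit.π_desc (t := CokernelCofork.ofπ (e₀.hom ≫ t) (key t ht)) hp).symm)

end Groth.Agent.Lib.Helper19.AbGen
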