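import Mathlib

/-!
# One-sided inverses of endomorphisms of `L^r` when `End L` is commutative (helper19)

Namespace `Groth.Agent.Lib.Helper19.AbMatrix`.
-/

set_option autoImplicit false
universe v u
open CategoryTheory CategoryTheory.Limits

namespace Groth.Agent.Lib.Helper19.AbMatrix

variable {𝒜 : Type u} [Category.{v} 𝒜] [Preadditive 𝒜] [HasFiniteBiproducts 𝒜]

open scoped Classical in
/-- a one-sided inverse of an endomorphism of `L^r` is two-sided when `End L` is commutative -/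
theorem comp_eq_id_comm_biproduct (L : 𝒜) (hcomm : ∀ f g : L ⟶ L, f ≫ g = g ≫ f) (r : ℕ)
    (ψ q : (⨁ fun _ : Fin r => L) ⟶ (⨁ fun _ : Fin r => L)) (h : q ≫ ψ = 𝟙 _) :
    ψ ≫ q = 𝟙 _ := by
  let s : Unit → 𝒜 := fun _ => L
  have o : HomOrthogonal s := fun i j hij => absurd (Subsingleton.elim i j) hij
  let _inst : CommRing (End (s ())) :=
    { (inferInstance : Ring (End L)) with mul_comm := fun f g => hcomm g f }
  let M : ((⨁ fun _ : Fin r => L) ⟶ (⨁ fun _ : Fin r => L)) →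
      Matrix (↑((fun _ : Fin r => ()) ⁻¹' {()})) (↑((fun _ : Fin r => ()) ⁻¹' {()})) (End L) :=
    fun z => o.matrixDecomposition (α := Fin r) (β := Fin r) (f := fun _ => ())
      (g := fun _ => ()) z ()
  have h1 : M (q ≫ ψ) = M ψ * M q := o.matrixDecomposition_comp (α := Fin r) (β := Fin r)
    (γ := Fin r) (f := fun _ => ()) (g := fun _ => ()) (h := fun _ => ()) q ψ ()
  have h2 : M (ψ ≫ q) = M q * M ψ := o.matrixDecomposition_comp (α := Fin r) (β := Fin r)
    (γ := Fin r) (f := fun _ => ()) (g := fun _ => ()) (h := fun _ => ()) ψ q ()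
  have h3 : M (𝟙 _) = 1 := by
    convert o.matrixDecomposition_id (α := Fin r) (f := fun _ => ()) ()
  rw [h, h3] at h1
  have h4 : M q * M ψ = 1 := mul_eq_one_comm.1 h1.symm
  rw [h4, ← h3] at h2
  apply (o.matrixDecomposition (α := Fin r) (β := Fin r) (f := fun _ => ())
    (g := fun _ => ())).injective
  funext i
  cases i
  exact h2

/-- a split epimorphism between copies of `L^r` is an isomorphism when `End L` is
commutative -/
theorem isIso_of_rightInverse (L : 𝒜) (hcomm : ∀ f g : L ⟶ L, f ≫ g = g ≫ f) (r : ℕ)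
    {P Q : 𝒜} (eP : P ≅ ⨁ fun _ : Fin r => L) (eQ : Q ≅ ⨁ fun _ : Fin r => L)
    (ψ : P ⟶ Q) (q : Q ⟶ P) (h : q ≫ ψ = 𝟙 Q) : IsIso ψ := by
  have h' := comp_eq_id_comm_biproduct L hcomm r (eP.inv ≫ ψ ≫ eQ.hom) (eQ.inv ≫ q ≫ eP.hom)
    (by simp [reassoc_of% h])
  have h'' : eP.inv ≫ (ψ ≫ q) ≫ eP.hom = 𝟙 _ := by simpa using h'
  refine ⟨q, ?_, h⟩
  calc ψ ≫ q = eP.hom ≫ (eP.inv ≫ (ψ ≫ q) ≫ eP.hom) ≫ eP.inv := by simp
    _ = 𝟙 P := by rw [h'']; simp

end Groth.Agent.Lib.Helper19.AbMatrix
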