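import Mathlib

/-!
Hom-complex of an `F`-acyclic resolution is exact when `Ext^q(M, F) = 0` (helper19).
-/

set_option autoImplicit false
universe w v u

namespace Groth.Agent.Lib.Helper19.AcyclicRes

open CategoryTheory Limits Abelian

variable {𝒜 : Type u} [Category.{v} 𝒜] [Abelian 𝒜] [HasExt.{w} 𝒜]

/-- `Z` is `F`-acyclic: `Ext^q(Z, F) = 0` for `q > 0`. -/
def Acyc (F Z : 𝒜) : Prop := ∀ q : ℕ, Subsingleton (Ext.{w} Z F (q + 1))

theorem acyc_kernel {S : ShortComplex 𝒜} (hS : S.ShortExact) (F : 𝒜)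
    (h2 : Acyc.{w} F S.X₂) (h3 : Acyc.{w} F S.X₃) : Acyc.{w} F S.X₁ := by
  intro q
  refine subsingleton_of_forall_eq 0 fun x => ?_
  have := h3 (q + 1)
  have := h2 q
  obtain ⟨x₂, hx₂⟩ := Ext.contravariant_sequence_exact₁ hS F x
    (show 1 + (q + 1) = q + 1 + 1 by omega) (Subsingleton.elim _ _)
  rw [← hx₂, Subsingleton.elim x₂ 0, Ext.comp_zero]

theorem extend_of_ext_one {S : ShortComplex 𝒜} (hS : S.ShortExact) (F : 𝒜)
    (h : Subsingleton (Ext.{w} S.X₃ F 1)) (ψ : S.X₁ ⟶ F) : ∃ χ : S.X₂ ⟶ F, S.f ≫ χ = ψ := by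
  obtain ⟨x₂, hx₂⟩ := Ext.contravariant_sequence_exact₁ hS F (Ext.mk₀ ψ)
    (show 1 + 0 = 1 by omega) (Subsingleton.elim _ _)
  obtain ⟨χ, rfl⟩ := (Ext.mk₀_bijective _ _).2 x₂
  refine ⟨χ, ?_⟩
  rw [Ext.mk₀_comp_mk₀] at hx₂
  exact (Ext.mk₀_bijective _ _).1 hx₂

theorem acyc_of_iso {F Z Z' : 𝒜} (e : Z ≅ Z') (h : Acyc.{w} F Z) : Acyc.{w} F Z' := by
  intro q
  have := h q
  refine subsingleton_of_forall_eq 0 fun x => ?_
  have h1 : (Ext.mk₀ e.inv).comp ((Ext.mk₀ e.hom).comp x (zero_add _)) (zero_add _) = x := by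
    rw [← Ext.comp_assoc_of_second_deg_zero, Ext.mk₀_comp_mk₀, e.inv_hom_id, Ext.mk₀_id_comp]
  rw [← h1, Subsingleton.elim ((Ext.mk₀ e.hom).comp x (zero_add _)) 0, Ext.comp_zero]

section Syzygy

omit [HasExt.{w} 𝒜]

variable {X Y Z : 𝒜} (f : X ⟶ Y) (g : Y ⟶ Z) (w : f ≫ g = 0)

/-- for an exact `X → Y → Z`, the sequence `0 → coker f → Z → coker g → 0`. -/
noncomputable def cosyz : ShortComplex 𝒜 :=
  ShortComplex.mk (cokernel.desc f g w) (cokernel.π g) (by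
    rw [← cancel_epi (cokernel.π f), cokernel.π_desc_assoc, cokernel.condition, comp_zero])

theorem cosyz_shortExact (hex : (ShortComplex.mk f g w).Exact) : (cosyz f g w).ShortExact := by
  have hmono : Mono (cokernel.desc f g w) :=
    (ShortComplex.exact_iff_mono_cokernel_desc (ShortComplex.mk f g w)).mp hex
  refine ShortComplex.ShortExact.mk' ?_ hmono (by dsimp [cosyz]; infer_instance)
  apply ShortComplex.exact_of_g_is_cokernel
  exact isCokernelOfComp (cokernel.π f) g (cokernelIsCokernel g) _ (cokernel.π_desc _ _ _)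

end Syzygy

section Complex

variable (P : ChainComplex 𝒜 ℕ) (F : 𝒜)

/-- the n-th cokernel syzygy. -/
noncomputable abbrev Zc (n : ℕ) : 𝒜 := cokernel (P.d (n + 1) n)

/-- the short exact sequence `0 → Zc (n+1) → P_n → Zc n → 0`. -/
noncomputable abbrev sesC (n : ℕ) : ShortComplex 𝒜 :=
  cosyz (P.d (n + 2) (n + 1)) (P.d (n + 1) n) (P.d_comp_d _ _ _)

variable {P}

theorem sesC_shortExact (hP : ∀ n, P.ExactAt (n + 1)) (n : ℕ) : (sesC P n).ShortExact := by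
  apply cosyz_shortExact
  have := (HomologicalComplex.exactAt_iff' P (n + 2) (n + 1) n (by simp) (by simp)).mp (hP n)
  exact this

theorem acyc_Zc (hP : ∀ n, P.ExactAt (n + 1)) (hX : ∀ n, Acyc.{w} F (P.X n))
    (h0 : Acyc.{w} F (Zc P 0)) : ∀ n, Acyc.{w} F (Zc P n)
  | 0 => h0
  | n + 1 => acyc_kernel (sesC_shortExact hP n) F (hX n) (acyc_Zc hP hX h0 n)

/-- **Hom-exactness**: for an exact complex `P` (in positive degrees) of `F`-acyclic objects with
`F`-acyclic `H_0`, the complex `Hom(P, F)` is exact in positive degrees. -/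
theorem hom_exact (hP : ∀ n, P.ExactAt (n + 1)) (hX : ∀ n, Acyc.{w} F (P.X n))
    (h0 : Acyc.{w} F (Zc P 0)) (n : ℕ) (x : P.X (n + 1) ⟶ F)
    (hx : P.d (n + 2) (n + 1) ≫ x = 0) : ∃ y : P.X n ⟶ F, P.d (n + 1) n ≫ y = x := by
  obtain ⟨χ, hχ⟩ := extend_of_ext_one (sesC_shortExact hP n) F (acyc_Zc F hP hX h0 n 0)
    (cokernel.desc _ x hx)
  let χ' : P.X n ⟶ F := χ
  have hχ' : cokernel.desc (P.d (n + 2) (n + 1)) (P.d (n + 1) n) (P.d_comp_d _ _ _) ≫ χ' =
      cokernel.desc _ x hx := hχ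
  refine ⟨χ', ?_⟩
  have h1 : P.d (n + 1) n = cokernel.π (P.d (n + 2) (n + 1)) ≫
      cokernel.desc (P.d (n + 2) (n + 1)) (P.d (n + 1) n) (P.d_comp_d _ _ _) :=
    (cokernel.π_desc _ _ _).symm
  rw [h1, Category.assoc, hχ', cokernel.π_desc]

end Complex

section Resolution

variable {P : ChainComplex 𝒜 ℕ} {M : 𝒜} (π : P ⟶ (ChainComplex.single₀ 𝒜).obj M)

omit [HasExt.{w} 𝒜] in
theorem exactAt_succ_of_quasiIso [QuasiIso π] (n : ℕ) : P.ExactAt (n + 1) := by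
  rw [← quasiIsoAt_iff_exactAt' π (n + 1) (ChainComplex.exactAt_succ_single_obj _ _)]
  infer_instance

omit [HasExt.{w} 𝒜] in
theorem exact_and_epi_of_quasiIso [QuasiIso π] :
    (ShortComplex.mk (P.d 1 0) (π.f 0) (by
      have := π.comm 1 0
      have h0 : ((ChainComplex.single₀ 𝒜).obj M).d 1 0 = 0 := rfl
      rw [← this, h0, comp_zero])).Exact ∧ Epi (π.f 0) := by
  have h : QuasiIsoAt π 0 := inferInstance
  rw [ChainComplex.quasiIsoAt₀_iff, ShortComplex.quasiIso_iff_of_zeros' _ (P.shape 0 0 (by simp)) rfl rfl] at h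
  exact h

/-- `H_0` of a resolution. -/
noncomputable def cokerIso [QuasiIso π] : cokernel (P.d 1 0) ≅ M :=
  have h := exact_and_epi_of_quasiIso π
  have : Epi (π.f 0) := h.2
  IsColimit.coconePointUniqueUpToIso (colimit.isColimit _) h.1.gIsCokernel

/-- **Hom-exactness for resolutions**. -/
theorem hom_exact_of_quasiIso [QuasiIso π] (F : 𝒜) (hX : ∀ n, Acyc.{w} F (P.X n))
    (hM : Acyc.{w} F M) (n : ℕ) (x : P.X (n + 1) ⟶ F)
    (hx : P.d (n + 2) (n + 1) ≫ x = 0) : ∃ y : P.X n ⟶ F, P.d (n + 1) n ≫ y = x :=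
  hom_exact F (exactAt_succ_of_quasiIso π) hX (acyc_of_iso (cokerIso π).symm hM) n x hx

end Resolution

end Groth.Agent.Lib.Helper19.AcyclicRes
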