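import Mathlib
import Groth.Prelude.Def_CohCx

set_option autoImplicit false

namespace Groth.Agent.Lib.Helper19.CechNerve

open CategoryTheory Limits AlgebraicTopology Opposite Simplicial

universe v₁ v₂ u₁ u₂

section EpsMap

variable {A : Type u₁} [Category.{v₁} A] {B : Type u₂} [Category.{v₂} B]
  [Preadditive A] [Preadditive B]

theorem altMap_eq (F : A ⥤ B) [F.Additive] (X : SimplicialObject A) :
    (alternatingFaceMapComplex B).obj (((SimplicialObject.whiskering A B).obj F).obj X) =
      (F.mapHomologicalComplex _).obj ((alternatingFaceMapComplex A).obj X) :=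
  (Functor.congr_obj (map_alternatingFaceMapComplex F) X).symm

theorem altMap_eq' (F : A ⥤ B) [F.Additive] (X : SimplicialObject.Augmented A) :
    (SimplicialObject.Augmented.drop ⋙ alternatingFaceMapComplex B).obj
      (((SimplicialObject.Augmented.whiskering A B).obj F).obj X) =
      (F.mapHomologicalComplex _).obj
        ((SimplicialObject.Augmented.drop ⋙ alternatingFaceMapComplex A).obj X) :=
  altMap_eq F X.left

variable [HasZeroObject A] [HasZeroObject B]

theorem eps_comm (F : A ⥤ B) [F.Additive] (X : SimplicialObject.Augmented A) :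
    eqToHom (altMap_eq' F X) ≫
      (F.mapHomologicalComplex _).map (AlternatingFaceMapComplex.ε.app X) ≫
        (HomologicalComplex.singleMapHomologicalComplex F _ 0).hom.app _ =
    AlternatingFaceMapComplex.ε.app
      (((SimplicialObject.Augmented.whiskering A B).obj F).obj X) := by
  apply HomologicalComplex.to_single_hom_ext
  rw [HomologicalComplex.comp_f, HomologicalComplex.comp_f, HomologicalComplex.eqToHom_f,
    HomologicalComplex.singleMapHomologicalComplex_hom_app_self,
    Functor.mapHomologicalComplex_map_f, AlternatingFaceMapComplex.ε_app_f_zero,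
    AlternatingFaceMapComplex.ε_app_f_zero]
  simp only [HomologicalComplex.singleObjXSelf, HomologicalComplex.singleObjXIsoOfEq,
    eqToIso.hom, eqToIso.inv, eqToHom_map]
  show 𝟙 _ ≫ F.map (X.hom.app (op ⦋0⦌)) ≫ 𝟙 _ ≫ 𝟙 _ = F.map (X.hom.app (op ⦋0⦌)) ≫ 𝟙 _
  simp

/-- `ε` commutes with additive functors, as an isomorphism of arrows. -/
noncomputable def epsMapIso (F : A ⥤ B) [F.Additive] (X : SimplicialObject.Augmented A) :
    Arrow.mk (AlternatingFaceMapComplex.ε.app
      (((SimplicialObject.Augmented.whiskering A B).obj F).obj X)) ≅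
    Arrow.mk ((F.mapHomologicalComplex _).map (AlternatingFaceMapComplex.ε.app X)) :=
  Arrow.isoMk (eqToIso (altMap_eq' F X))
    ((HomologicalComplex.singleMapHomologicalComplex F _ 0).app _).symm
    ((Iso.eq_comp_inv ((HomologicalComplex.singleMapHomologicalComplex F _ 0).app
      (SimplicialObject.Augmented.point.obj X))).mpr
      ((Category.assoc _ _ _).trans (eps_comm F X)))

end EpsMap

end Groth.Agent.Lib.Helper19.CechNerve
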