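import Mathlib
import Groth.Agent.Lib.Helper19.CechNerveA

set_option autoImplicit false

namespace Groth.Agent.Lib.Helper19.CechNerve

open CategoryTheory Limits AlgebraicTopology Opposite Simplicial

universe w v₁ v₂ u₁ u₂

section WP

variable {C : Type u₁} [Category.{v₁} C] {D : Type u₂} [Category.{v₂} D] (F : C ⥤ D)
  {J : Type w} {B : C} {objs : J → C} (arrows : ∀ j, objs j ⟶ B)
  [HasWidePullback B objs arrows]
  [HasWidePullback (F.obj B) (fun j => F.obj (objs j)) (fun j => F.map (arrows j))]
  [PreservesLimit (WidePullbackShape.wideCospan B objs arrows) F]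

/-- the diagram iso -/
noncomputable def wpDiagIso :
    WidePullbackShape.wideCospan B objs arrows ⋙ F ≅
      WidePullbackShape.wideCospan (F.obj B) (fun j => F.obj (objs j)) (fun j => F.map (arrows j)) :=
  WidePullbackShape.diagramIsoWideCospan _

omit [HasWidePullback B objs arrows]
  [HasWidePullback (F.obj B) (fun j => F.obj (objs j)) (fun j => F.map (arrows j))]
  [PreservesLimit (WidePullbackShape.wideCospan B objs arrows) F] in
theorem wpDiagIso_hom_app (x : WidePullbackShape J) :
    (wpDiagIso F arrows).hom.app x = eqToHom (by cases x <;> rfl) := by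
  cases x <;> simp [wpDiagIso, WidePullbackShape.diagramIsoWideCospan] <;> rfl

/-- A functor preserving a wide pullback maps it to the wide pullback. -/
noncomputable def wpIso :
    F.obj (widePullback B objs arrows) ≅
      widePullback (F.obj B) (fun j => F.obj (objs j)) (fun j => F.map (arrows j)) :=
  IsLimit.conePointsIsoOfNatIso
    (isLimitOfPreserves F (limit.isLimit (WidePullbackShape.wideCospan B objs arrows)))
    (limit.isLimit (WidePullbackShape.wideCospan (F.obj B) (fun j => F.obj (objs j))
      (fun j => F.map (arrows j)))) (wpDiagIso F arrows)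

@[reassoc (attr := simp)]
theorem wpIso_hom_π (j : J) :
    (wpIso F arrows).hom ≫ WidePullback.π _ j = F.map (WidePullback.π arrows j) := by
  have := IsLimit.conePointsIsoOfNatIso_hom_comp
    (isLimitOfPreserves F (limit.isLimit (WidePullbackShape.wideCospan B objs arrows)))
    (limit.isLimit (WidePullbackShape.wideCospan (F.obj B) (fun j => F.obj (objs j))
      (fun j => F.map (arrows j)))) (wpDiagIso F arrows) (some j)
  rw [wpDiagIso_hom_app] at this
  exact this.trans (Category.comp_id _)

@[reassoc (attr := simp)]
theorem wpIso_hom_base :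
    (wpIso F arrows).hom ≫ WidePullback.base _ = F.map (WidePullback.base arrows) := by
  have := IsLimit.conePointsIsoOfNatIso_hom_comp
    (isLimitOfPreserves F (limit.isLimit (WidePullbackShape.wideCospan B objs arrows)))
    (limit.isLimit (WidePullbackShape.wideCospan (F.obj B) (fun j => F.obj (objs j))
      (fun j => F.map (arrows j)))) (wpDiagIso F arrows) none
  rw [wpDiagIso_hom_app] at this
  exact this.trans (Category.comp_id _)

end WP

section CechMap

variable {C : Type u₁} [Category.{v₁} C] {D : Type u₂} [Category.{v₂} D] (F : C ⥤ D)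
  (f : Arrow C)
  [∀ n : ℕ, HasWidePullback f.right (fun _ : Fin (n + 1) => f.left) fun _ => f.hom]
  [∀ n : ℕ, HasLimitsOfShape (WidePullbackShape (Fin (n + 1))) D]
  [∀ n : ℕ, PreservesLimit (WidePullbackShape.wideCospan f.right
    (fun _ : Fin (n + 1) => f.left) fun _ => f.hom) F]

/-- componentwise iso -/
noncomputable def cechMapIsoApp (n : SimplexCategoryᵒᵖ) :
    (((SimplicialObject.whiskering C D).obj F).obj f.cechNerve).obj n ≅
      (F.mapArrow.obj f).cechNerve.obj n :=
  wpIso F (fun _ : Fin (n.unop.len + 1) => f.hom)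

theorem cechMapIsoApp_hom_π (n : SimplexCategoryᵒᵖ) (j : Fin (n.unop.len + 1)) :
    (cechMapIsoApp F f n).hom ≫ WidePullback.π (fun _ => (F.mapArrow.obj f).hom) j =
      F.map (WidePullback.π (fun _ => f.hom) j) :=
  wpIso_hom_π F _ j

theorem cechMapIsoApp_hom_base (n : SimplexCategoryᵒᵖ) :
    (cechMapIsoApp F f n).hom ≫
      WidePullback.base (fun _ : Fin (n.unop.len + 1) => (F.mapArrow.obj f).hom) =
      F.map (WidePullback.base (fun _ : Fin (n.unop.len + 1) => f.hom)) :=
  wpIso_hom_base F _

omit [∀ n : ℕ, HasLimitsOfShape (WidePullbackShape (Fin (n + 1))) D]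
  [∀ n : ℕ, PreservesLimit (WidePullbackShape.wideCospan f.right
    (fun _ : Fin (n + 1) => f.left) fun _ => f.hom) F] in
theorem cechNerve_map_π {m n : SimplexCategoryᵒᵖ} (g : m ⟶ n) (j : Fin (n.unop.len + 1)) :
    f.cechNerve.map g ≫ WidePullback.π (fun _ => f.hom) j =
      WidePullback.π (fun _ => f.hom) (g.unop.toOrderHom j) :=
  WidePullback.lift_π _ _ _ _ _

omit [∀ n : ℕ, HasLimitsOfShape (WidePullbackShape (Fin (n + 1))) D]
  [∀ n : ℕ, PreservesLimit (WidePullbackShape.wideCospan f.right
    (fun _ : Fin (n + 1) => f.left) fun _ => f.hom) F] in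
theorem cechNerve_map_base {m n : SimplexCategoryᵒᵖ} (g : m ⟶ n) :
    f.cechNerve.map g ≫ WidePullback.base (fun _ : Fin (n.unop.len + 1) => f.hom) =
      WidePullback.base (fun _ => f.hom) :=
  WidePullback.lift_base _ _ _ _

/-- A functor preserving the relevant wide pullbacks commutes with the Čech nerve. -/
noncomputable def cechMapIsoLeft :
    ((SimplicialObject.whiskering C D).obj F).obj f.cechNerve ≅ (F.mapArrow.obj f).cechNerve :=
  NatIso.ofComponents (fun n => cechMapIsoApp F f n) (by
    intro m n g
    apply WidePullback.hom_ext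
    · intro j
      simp only [Category.assoc]
      rw [cechMapIsoApp_hom_π, cechNerve_map_π, cechMapIsoApp_hom_π]
      change F.map (f.cechNerve.map g) ≫ F.map _ = _
      rw [← F.map_comp, cechNerve_map_π]
    · simp only [Category.assoc]
      rw [cechMapIsoApp_hom_base, cechNerve_map_base, cechMapIsoApp_hom_base]
      change F.map (f.cechNerve.map g) ≫ F.map _ = _
      rw [← F.map_comp, cechNerve_map_base])

/-- A functor preserving the relevant wide pullbacks commutes with the augmented Čech nerve. -/
noncomputable def cechMapIso :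
    ((SimplicialObject.Augmented.whiskering C D).obj F).obj f.augmentedCechNerve ≅
      (F.mapArrow.obj f).augmentedCechNerve :=
  Comma.isoMk (cechMapIsoLeft F f) (Iso.refl _) (by
    ext n
    change (cechMapIsoApp F f n).hom ≫
      WidePullback.base (fun _ : Fin (n.unop.len + 1) => (F.mapArrow.obj f).hom) =
      (F.map (WidePullback.base (fun _ : Fin (n.unop.len + 1) => f.hom)) ≫ 𝟙 _) ≫ 𝟙 _
    rw [cechMapIsoApp_hom_base, Category.comp_id, Category.comp_id])

end CechMap

end Groth.Agent.Lib.Helper19.CechNerve
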