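import Mathlib
import Groth.Agent.Lib.Helper19.CechNerveB

set_option autoImplicit false

namespace Groth.Agent.Lib.Helper19.CechNerve

open CategoryTheory Limits AlgebraicTopology Opposite Simplicial

universe w v₁ v₂ u₁ u₂

section MonoBase

variable {C : Type u₁} [Category.{v₁} C] {f g : Arrow C}
  [∀ n : ℕ, HasWidePullback f.right (fun _ : Fin (n + 1) => f.left) fun _ => f.hom]
  [∀ n : ℕ, HasWidePullback g.right (fun _ : Fin (n + 1) => g.left) fun _ => g.hom]
  (φ : f ⟶ g) [IsIso φ.left] [Mono φ.right]

/-- the inverse of `mapCechNerve φ` in degree `n`. -/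
noncomputable def mapCechNerveInvApp (n : SimplexCategoryᵒᵖ) :
    g.cechNerve.obj n ⟶ f.cechNerve.obj n :=
  WidePullback.lift (WidePullback.π (fun _ => g.hom) 0 ≫ inv φ.left ≫ f.hom)
    (fun i => WidePullback.π (fun _ => g.hom) i ≫ inv φ.left) (by
      intro j
      rw [← cancel_mono φ.right]
      have h : f.hom ≫ φ.right = φ.left ≫ g.hom := φ.w.symm
      simp only [Category.assoc, h, IsIso.inv_hom_id_assoc, WidePullback.π_arrow])

omit [IsIso φ.left] [Mono φ.right] in
theorem mapCechNerve_app_π (n : SimplexCategoryᵒᵖ) (j : Fin (n.unop.len + 1)) :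
    (Arrow.mapCechNerve φ).app n ≫ WidePullback.π (fun _ => g.hom) j =
      WidePullback.π (fun _ => f.hom) j ≫ φ.left :=
  WidePullback.lift_π _ _ _ _ _

omit [IsIso φ.left] [Mono φ.right] in
theorem mapCechNerve_app_base (n : SimplexCategoryᵒᵖ) :
    (Arrow.mapCechNerve φ).app n ≫ WidePullback.base (fun _ : Fin (n.unop.len + 1) => g.hom) =
      WidePullback.base (fun _ : Fin (n.unop.len + 1) => f.hom) ≫ φ.right :=
  WidePullback.lift_base _ _ _ _

theorem mapCechNerveInvApp_π (n : SimplexCategoryᵒᵖ) (j : Fin (n.unop.len + 1)) :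
    mapCechNerveInvApp φ n ≫ WidePullback.π (fun _ => f.hom) j =
      WidePullback.π (fun _ => g.hom) j ≫ inv φ.left :=
  WidePullback.lift_π _ _ _ _ _

theorem mapCechNerveInvApp_base (n : SimplexCategoryᵒᵖ) :
    mapCechNerveInvApp φ n ≫ WidePullback.base (fun _ : Fin (n.unop.len + 1) => f.hom) =
      WidePullback.π (fun _ => g.hom) 0 ≫ inv φ.left ≫ f.hom :=
  WidePullback.lift_base _ _ _ _

instance isIso_mapCechNerve_app (n : SimplexCategoryᵒᵖ) :
    IsIso ((Arrow.mapCechNerve φ).app n) := by
  have h : f.hom ≫ φ.right = φ.left ≫ g.hom := φ.w.symm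
  refine ⟨mapCechNerveInvApp φ n, ?_, ?_⟩
  · apply WidePullback.hom_ext
    · intro j
      rw [Category.assoc, mapCechNerveInvApp_π, ← Category.assoc, mapCechNerve_app_π,
        Category.assoc, IsIso.hom_inv_id, Category.comp_id, Category.id_comp]
    · rw [Category.assoc, mapCechNerveInvApp_base, ← Category.assoc, mapCechNerve_app_π,
        Category.assoc, IsIso.hom_inv_id_assoc, Category.id_comp, WidePullback.π_arrow]
  · apply WidePullback.hom_ext
    · intro j
      rw [Category.assoc, mapCechNerve_app_π, ← Category.assoc, mapCechNerveInvApp_π,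
        Category.assoc, IsIso.inv_hom_id, Category.comp_id, Category.id_comp]
    · rw [Category.assoc, mapCechNerve_app_base, ← Category.assoc, mapCechNerveInvApp_base,
        Category.assoc, Category.assoc, h, IsIso.inv_hom_id_assoc, Category.id_comp,
        WidePullback.π_arrow]

instance isIso_mapCechNerve : IsIso (Arrow.mapCechNerve φ) :=
  NatIso.isIso_of_isIso_app _

end MonoBase

end Groth.Agent.Lib.Helper19.CechNerve
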