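import Mathlib
import Groth.Agent.Lib.Helper19.CechNerveC

set_option autoImplicit false

namespace Groth.Agent.Lib.Helper19.CechNerve

open CategoryTheory Limits AlgebraicTopology Opposite Simplicial

universe u

section General

variable {A : Type*} [Category A] [Abelian A]

/-- quasi-isomorphism of the augmentation is invariant under isomorphisms (on both parts). -/
theorem quasiIso_eps_iff_of_isIso {X Y : SimplicialObject.Augmented A} (ψ : X ⟶ Y)
    [IsIso ψ.left] [IsIso ψ.right] :
    QuasiIso (AlternatingFaceMapComplex.ε.app X) ↔ QuasiIso (AlternatingFaceMapComplex.ε.app Y) := by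
  have h1 : IsIso ((SimplicialObject.Augmented.drop ⋙ alternatingFaceMapComplex A).map ψ) := by
    have : IsIso (SimplicialObject.Augmented.drop.map ψ) := (inferInstance : IsIso ψ.left)
    change IsIso ((alternatingFaceMapComplex A).map (SimplicialObject.Augmented.drop.map ψ))
    infer_instance
  have h2 : IsIso ((SimplicialObject.Augmented.point ⋙ ChainComplex.single₀ A).map ψ) := by
    have : IsIso (SimplicialObject.Augmented.point.map ψ) := (inferInstance : IsIso ψ.right)
    change IsIso ((ChainComplex.single₀ A).map (SimplicialObject.Augmented.point.map ψ))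
    infer_instance
  exact _root_.quasiIso_iff_of_arrow_mk_iso (AlternatingFaceMapComplex.ε.app X)
    (AlternatingFaceMapComplex.ε.app Y)
    (Arrow.isoMk (@asIso _ _ _ _ _ h1) (@asIso _ _ _ _ _ h2)
      (AlternatingFaceMapComplex.ε.naturality ψ))

theorem quasiIso_eps_of_extraDegeneracy {X : SimplicialObject.Augmented A}
    (ed : SimplicialObject.Augmented.ExtraDegeneracy X) :
    QuasiIso (AlternatingFaceMapComplex.ε.app X) :=
  ed.homotopyEquiv.quasiIso_hom

end General

section Presheaf

variable {C : Type u} [SmallCategory C]

/-- split epi from surjectivity in `Type`. -/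
noncomputable def splitEpiOfSurjective {X Y : Type u} (g : X ⟶ Y) (hg : Function.Surjective g) :
    SplitEpi g where
  section_ := ↾(Function.surjInv hg)
  id := by
    ext y
    exact Function.surjInv_eq hg y

/-- the extra degeneracy objectwise. -/
noncomputable def extraDegeneracyEval {Q' Q : Cᵒᵖ ⥤ Type u} (p : Q' ⟶ Q)
    (hp : ∀ U, Function.Surjective (p.app U)) (U : Cᵒᵖ) :
    SimplicialObject.Augmented.ExtraDegeneracy
      (((SimplicialObject.Augmented.whiskering _ _).obj ((evaluation Cᵒᵖ (Type u)).obj U)).obj
        (Arrow.mk p).augmentedCechNerve) :=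
  SimplicialObject.Augmented.ExtraDegeneracy.ofIso
    (cechMapIso ((evaluation Cᵒᵖ (Type u)).obj U) (Arrow.mk p)).symm
    (Arrow.AugmentedCechNerve.extraDegeneracy _ (splitEpiOfSurjective _ (hp U)))

/-- objectwise surjective map of presheaves of sets: the free Čech nerve complex is a
resolution at the presheaf level. -/
theorem quasiIso_eps_presheaf {Q' Q : Cᵒᵖ ⥤ Type u} (p : Q' ⟶ Q)
    (hp : ∀ U, Function.Surjective (p.app U)) :
    QuasiIso (AlternatingFaceMapComplex.ε.app
      (((SimplicialObject.Augmented.whiskering _ _).obj
        ((Functor.whiskeringRight Cᵒᵖ (Type u) AddCommGrpCat.{u}).obj AddCommGrpCat.free.{u})).obj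
        (Arrow.mk p).augmentedCechNerve)) := by
  rw [HomologicalComplex.quasiIso_iff_evaluation]
  intro U
  rw [← _root_.quasiIso_iff_of_arrow_mk_iso _ _
    (epsMapIso ((evaluation Cᵒᵖ AddCommGrpCat.{u}).obj U) _)]
  exact quasiIso_eps_of_extraDegeneracy ((extraDegeneracyEval p hp U).map AddCommGrpCat.free.{u})

end Presheaf

section Sheaf

variable {C : Type u} [SmallCategory C] (J : GrothendieckTopology C)

/-- the inclusion of the image presheaf of a locally surjective map is inverted by
`free` followed by sheafification. -/
theorem isIso_sheafify_free_range_ι {Q' Q : Cᵒᵖ ⥤ Type u} (p : Q' ⟶ Q)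
    [Presheaf.IsLocallySurjective J p] :
    IsIso ((presheafToSheaf J AddCommGrpCat.{u}).map
      (Functor.whiskerRight (Subfunctor.range p).ι AddCommGrpCat.free.{u})) := by
  have h1 : Presheaf.IsLocallySurjective J (Subfunctor.range p).ι :=
    Presheaf.isLocallySurjective_of_isLocallySurjective_fac J (Subfunctor.toRange_ι p)
  have h2 : Presheaf.IsLocallyInjective J (Subfunctor.range p).ι := by
    apply Presheaf.isLocallyInjective_of_injective
    intro U
    exact (mono_iff_injective _).mp inferInstance
  have hW : J.W (Subfunctor.range p).ι := J.W_of_isLocallyBijective _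
  exact GrothendieckTopology.W_isInvertedBy_whiskeringRight_presheafToSheaf J
    AddCommGrpCat.free.{u} _ hW

/-- **Čech nerve resolution**: for an epimorphism `f : K' ⟶ K` of sheaves of sets, the
alternating face map complex of the free abelian sheaves on the Čech nerve resolves `ℤ[K]`. -/
theorem quasiIso_eps_cechNerve {K' K : Sheaf J (Type u)} (f : K' ⟶ K) [Epi f] :
    QuasiIso (AlternatingFaceMapComplex.ε.app
      (((SimplicialObject.Augmented.whiskering _ _).obj
        (Sheaf.composeAndSheafify J AddCommGrpCat.free.{u})).obj
        (Arrow.mk f).augmentedCechNerve)) := by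
  let P := sheafToPresheaf J (Type u)
  let W := (Functor.whiskeringRight Cᵒᵖ (Type u) AddCommGrpCat.{u}).obj AddCommGrpCat.free.{u}
  let a := presheafToSheaf J AddCommGrpCat.{u}
  let T := W ⋙ a
  let p := P.map f
  have i0 : Presheaf.IsLocallySurjective J p :=
    (Sheaf.isLocallySurjective_iff_epi (φ := f)).mpr inferInstance
  let r := Subfunctor.toRange p
  let φ : Arrow.mk r ⟶ P.mapArrow.obj (Arrow.mk f) :=
    Arrow.homMk (𝟙 _) (Subfunctor.range p).ι (by simp [r, p]; rfl)
  have i1 : IsIso φ.left := by change IsIso (𝟙 _); infer_instance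
  have i2 : Mono φ.right := by change Mono (Subfunctor.range p).ι; infer_instance
  let ψ := Arrow.mapAugmentedCechNerve φ
  let e1 := cechMapIso P (Arrow.mk f)
  -- presheaf level
  have hr : ∀ U, Function.Surjective (r.app U) := by
    intro U
    rintro ⟨_, y, rfl⟩
    exact ⟨y, Subtype.ext (Subfunctor.toRange_app_val p y)⟩
  have h0 := quasiIso_eps_presheaf r hr
  have h1 : QuasiIso (AlternatingFaceMapComplex.ε.app
      (((SimplicialObject.Augmented.whiskering _ _).obj T).obj
        (Arrow.mk r).augmentedCechNerve)) := by
    change QuasiIso (AlternatingFaceMapComplex.ε.app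
      (((SimplicialObject.Augmented.whiskering _ _).obj a).obj
        (((SimplicialObject.Augmented.whiskering _ _).obj W).obj
          (Arrow.mk r).augmentedCechNerve)))
    rw [_root_.quasiIso_iff_of_arrow_mk_iso _ _ (epsMapIso a _)]
    infer_instance
  have h2 : QuasiIso (AlternatingFaceMapComplex.ε.app
      (((SimplicialObject.Augmented.whiskering _ _).obj T).obj
        (P.mapArrow.obj (Arrow.mk f)).augmentedCechNerve)) := by
    let ψ' := ((SimplicialObject.Augmented.whiskering _ _).obj T).map ψ
    have j1 : IsIso ψ'.left := by
      change IsIso (Functor.whiskerRight (Arrow.mapCechNerve φ) T)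
      infer_instance
    have j2 : IsIso ψ'.right := by
      change IsIso (a.map (Functor.whiskerRight (Subfunctor.range p).ι AddCommGrpCat.free.{u}))
      exact isIso_sheafify_free_range_ι J p
    exact (quasiIso_eps_iff_of_isIso ψ').mp h1
  have h3 : QuasiIso (AlternatingFaceMapComplex.ε.app
      (((SimplicialObject.Augmented.whiskering _ _).obj T).obj
        (((SimplicialObject.Augmented.whiskering _ _).obj P).obj
          (Arrow.mk f).augmentedCechNerve))) := by
    let e' := ((SimplicialObject.Augmented.whiskering _ _).obj T).mapIso e1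
    have j1 : IsIso e'.hom.left := inferInstance
    have j2 : IsIso e'.hom.right := inferInstance
    exact (quasiIso_eps_iff_of_isIso e'.hom).mpr h2
  exact h3

end Sheaf

end Groth.Agent.Lib.Helper19.CechNerve
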