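import Mathlib
import Groth.Prelude.Def_CohCx
import Groth.Agent.Lib.Helper19.CechNerveD
import Groth.Agent.Lib.Helper19.AcyclicRes

set_option autoImplicit false

namespace Groth.Agent.Lib.Helper19.CechHom

open CategoryTheory Limits AlgebraicTopology Opposite Simplicial

universe u

variable {C : Type u} [SmallCategory C] {J : GrothendieckTopology C}

/-- the free abelian sheaf functor on sheaves of sets. -/
noncomputable abbrev G (J : GrothendieckTopology C) : Sheaf J (Type u) ⥤ Sheaf J AddCommGrpCat.{u} :=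
  Sheaf.composeAndSheafify J AddCommGrpCat.free.{u}

/-- the complex of free abelian sheaves on the Čech nerve of `f`. -/
noncomputable abbrev freeCx {K' K : Sheaf J (Type u)} (f : K' ⟶ K) :
    ChainComplex (Sheaf J AddCommGrpCat.{u}) ℕ :=
  (alternatingFaceMapComplex _).obj
    (((SimplicialObject.whiskering _ _).obj (G J)).obj (Arrow.mk f).cechNerve)

theorem ab_sum_apply {M N : AddCommGrpCat.{u}} {ι : Type*} (s : Finset ι) (φ : ι → (M ⟶ N))
    (x : M) : (∑ i ∈ s, φ i) x = ∑ i ∈ s, (φ i) x := by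
  classical
  induction s using Finset.induction_on with
  | empty => simp
  | insert a s ha ih =>
    rw [Finset.sum_insert ha, Finset.sum_insert ha, AddCommGrpCat.hom_add_apply, ih]

theorem ab_zsmul_apply {M N : AddCommGrpCat.{u}} (k : ℤ) (φ : M ⟶ N) (x : M) :
    (k • φ) x = k • φ x := rfl

theorem altCoface_d (Y : CosimplicialObject AddCommGrpCat.{u}) (n : ℕ) :
    ((alternatingCofaceMapComplex AddCommGrpCat.{u}).obj Y).d n (n + 1) =
      ∑ i : Fin (n + 2), (-1 : ℤ) ^ (i : ℕ) • Y.δ i := by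
  exact CochainComplex.of_d (fun n => Y.obj ⦋n⦌) (AlternatingCofaceMapComplex.objD Y) n

theorem altCoface_d_apply (Y : CosimplicialObject AddCommGrpCat.{u}) (n : ℕ)
    (x : ((alternatingCofaceMapComplex AddCommGrpCat.{u}).obj Y).X n) :
    ((alternatingCofaceMapComplex AddCommGrpCat.{u}).obj Y).d n (n + 1) x =
      ∑ i : Fin (n + 2), (-1 : ℤ) ^ (i : ℕ) • (Y.δ i) x := by
  rw [altCoface_d]
  exact ab_sum_apply Finset.univ (fun i : Fin (n + 2) => (-1 : ℤ) ^ (i : ℕ) • Y.δ i) x

theorem cechNerveCx_d_apply (F : Sheaf J AddCommGrpCat.{u}) {K' K : Sheaf J (Type u)}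
    (f : K' ⟶ K) (n : ℕ) (x : (freeCx f).X n ⟶ F) :
    (CohCx.cechNerveCx F f).d n (n + 1) x = ((freeCx f).d (n + 1) n ≫ x : (freeCx f).X (n + 1) ⟶ F) := by
  rw [alternatingFaceMapComplex_obj_d]
  simp only [AlternatingFaceMapComplex.objD, Preadditive.sum_comp, Preadditive.zsmul_comp]
  exact altCoface_d_apply ((Arrow.mk f).cechNerve.rightOp ⋙ CohCx.HK0Functor J F) n x

/-- Hom-exactness of the free Čech complex against `F` in degree `q + 1`. -/
def HomExactAt (F : Sheaf J AddCommGrpCat.{u}) {K' K : Sheaf J (Type u)} (f : K' ⟶ K) (q : ℕ) :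
    Prop :=
  ∀ x : (freeCx f).X (q + 1) ⟶ F, (freeCx f).d (q + 2) (q + 1) ≫ x = 0 →
    ∃ y : (freeCx f).X q ⟶ F, (freeCx f).d (q + 1) q ≫ y = x

theorem isZero_homology_iff (F : Sheaf J AddCommGrpCat.{u}) {K' K : Sheaf J (Type u)}
    (f : K' ⟶ K) (q : ℕ) :
    IsZero ((CohCx.cechNerveCx F f).homology (q + 1)) ↔ HomExactAt F f q := by
  rw [← HomologicalComplex.exactAt_iff_isZero_homology,
    HomologicalComplex.exactAt_iff' _ q (q + 1) (q + 2) (by simp) (by simp),
    ShortComplex.ab_exact_iff]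
  constructor
  · intro h x hx
    obtain ⟨y, hy⟩ := h x ((cechNerveCx_d_apply F f (q + 1) x).trans hx)
    exact ⟨y, (cechNerveCx_d_apply F f q y).symm.trans hy⟩
  · intro h x hx
    obtain ⟨y, hy⟩ := h x ((cechNerveCx_d_apply F f (q + 1) x).symm.trans hx)
    exact ⟨y, (cechNerveCx_d_apply F f q y).trans hy⟩

/-- the augmentation of the free Čech complex. -/
noncomputable abbrev freeAug {K' K : Sheaf J (Type u)} (f : K' ⟶ K) :
    freeCx f ⟶ (ChainComplex.single₀ _).obj ((G J).obj K) :=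
  AlternatingFaceMapComplex.ε.app
    (((SimplicialObject.Augmented.whiskering _ _).obj (G J)).obj (Arrow.mk f).augmentedCechNerve)

instance quasiIso_freeAug {K' K : Sheaf J (Type u)} (f : K' ⟶ K) [Epi f] :
    QuasiIso (freeAug f) :=
  CechNerve.quasiIso_eps_cechNerve J f

theorem acyc_of_totallyAcyclic (F : Sheaf J AddCommGrpCat.{u}) (hF : CohCx.IsTotallyAcyclic F)
    (K : Sheaf J (Type u)) : AcyclicRes.Acyc.{u} F ((G J).obj K) :=
  fun q => hF K q

/-- **S6151**: totally acyclic sheaves are Čech-acyclic for epimorphisms. -/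
theorem homExactAt_of_totallyAcyclic (F : Sheaf J AddCommGrpCat.{u})
    (hF : CohCx.IsTotallyAcyclic F) {K' K : Sheaf J (Type u)} (f : K' ⟶ K) [Epi f] (q : ℕ) :
    HomExactAt F f q := fun x hx =>
  AcyclicRes.hom_exact_of_quasiIso (freeAug f) F
    (fun _ => acyc_of_totallyAcyclic F hF _) (acyc_of_totallyAcyclic F hF K) q x hx

end Groth.Agent.Lib.Helper19.CechHom
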