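import Mathlib
import Groth.Agent.Lib.Helper19.CechHom

set_option autoImplicit false

namespace Groth.Agent.Lib.Helper19.CechTop

open CategoryTheory Limits Opposite

universe u

variable {C : Type u} [SmallCategory C] {J : GrothendieckTopology C}

/-- the forgetful functor from abelian sheaves to sheaves of sets. -/
noncomputable abbrev U (J : GrothendieckTopology C) :
    Sheaf J AddCommGrpCat.{u} ⥤ Sheaf J (Type u) :=
  sheafCompose J (forget AddCommGrpCat.{u})

/-- the free-forgetful adjunction on sheaves. -/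
noncomputable def adjG (J : GrothendieckTopology C) : CechHom.G J ⊣ U J :=
  Sheaf.adjunction J AddCommGrpCat.adj

theorem epi_pullback_fst {K B E : Sheaf J (Type u)} (a : K ⟶ B) (b : E ⟶ B) [Epi b] :
    Epi (pullback.fst a b) := by
  rw [← Sheaf.isLocallySurjective_iff_epi]
  have hb : Sheaf.IsLocallySurjective b := (Sheaf.isLocallySurjective_iff_epi b).mpr inferInstance
  refine ⟨fun {V} k => ?_⟩
  refine J.superset_covering ?_ (Presheaf.imageSieve_mem J b.hom (a.hom.app (op V) k))
  intro W i hi
  obtain ⟨e, he⟩ := hi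
  let F := sheafToPresheaf J (Type u) ⋙ (evaluation Cᵒᵖ (Type u)).obj (op W)
  have hpb := (IsPullback.of_hasPullback a b).map F
  have hr := Types.range_fst_of_isPullback hpb
  have hmem : K.obj.map i.op k ∈ (F.map a) ⁻¹' Set.range (F.map b) := by
    refine ⟨e, ?_⟩
    exact he.trans (NatTrans.naturality_apply a.hom i.op k).symm
  rw [← hr] at hmem
  obtain ⟨x, hx⟩ := hmem
  exact ⟨x, hx⟩

theorem epi_U_map {I Q : Sheaf J AddCommGrpCat.{u}} (g : I ⟶ Q) [Epi g] : Epi ((U J).map g) := by
  rw [← Sheaf.isLocallySurjective_iff_epi]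
  have hg : Sheaf.IsLocallySurjective g := (Sheaf.isLocallySurjective_iff_epi' (φ := g)).mpr inferInstance
  exact (Presheaf.isLocallySurjective_iff_whisker_forget J g.hom).mp hg

/-- a section of a quotient lifts after an epimorphic base change. -/
theorem exists_epi_lift {I Q : Sheaf J AddCommGrpCat.{u}} (g : I ⟶ Q) [Epi g]
    {K : Sheaf J (Type u)} (s : (CechHom.G J).obj K ⟶ Q) :
    ∃ (K' : Sheaf J (Type u)) (f : K' ⟶ K) (_ : Epi f) (t : (CechHom.G J).obj K' ⟶ I),
      t ≫ g = (CechHom.G J).map f ≫ s := by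
  have := epi_U_map g
  let s' : K ⟶ (U J).obj Q := (adjG J).homEquiv K Q s
  refine ⟨pullback s' ((U J).map g), pullback.fst _ _, epi_pullback_fst _ _,
    ((adjG J).homEquiv _ I).symm (pullback.snd _ _), ?_⟩
  apply ((adjG J).homEquiv _ Q).injective
  rw [Adjunction.homEquiv_naturality_right, Equiv.apply_symm_apply,
    Adjunction.homEquiv_naturality_left]
  exact pullback.condition.symm

end Groth.Agent.Lib.Helper19.CechTop
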