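import Mathlib.Algebra.Homology.DerivedCategory.Ext.ExactSequences
import Mathlib.Algebra.Homology.DerivedCategory.Ext.EnoughInjectives
import Mathlib.CategoryTheory.Preadditive.Injective.Basic

/-!
Dimension shifting for `Abelian.Ext` along a short exact sequence with injective middle term
(helper19).
-/

set_option autoImplicit false
universe w v u

namespace Groth.Agent.Lib.Helper19.ExtShift

open CategoryTheory Limits Abelian

variable {𝒜 : Type u} [Category.{v} 𝒜] [Abelian 𝒜] [HasExt.{w} 𝒜]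

/-- `Ext^1(A, X₁) = 0` if every map `A ⟶ X₃` lifts to `X₂` (middle term injective). -/
theorem ext_one_subsingleton_of_lift (A : 𝒜) {S : ShortComplex 𝒜} (hS : S.ShortExact)
    [Injective S.X₂]
    (hlift : ∀ φ : A ⟶ S.X₃, ∃ ψ : A ⟶ S.X₂, ψ ≫ S.g = φ) :
    Subsingleton (Ext.{w} A S.X₁ 1) := by
  refine subsingleton_of_forall_eq 0 fun x => ?_
  obtain ⟨x₃, hx₃⟩ := Ext.covariant_sequence_exact₁ A hS x
    (Ext.eq_zero_of_injective _) (zero_add 1)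
  obtain ⟨φ, rfl⟩ := (Ext.mk₀_bijective A S.X₃).2 x₃
  obtain ⟨ψ, rfl⟩ := hlift φ
  rw [← hx₃, ← Ext.mk₀_comp_mk₀, Ext.comp_assoc_of_second_deg_zero,
    hS.comp_extClass, Ext.comp_zero]

/-- If `Ext^1(A, X₁) = 0` then every map `A ⟶ X₃` lifts to `X₂`. -/
theorem lift_of_ext_one_subsingleton (A : 𝒜) {S : ShortComplex 𝒜} (hS : S.ShortExact)
    (h : Subsingleton (Ext.{w} A S.X₁ 1)) (φ : A ⟶ S.X₃) :
    ∃ ψ : A ⟶ S.X₂, ψ ≫ S.g = φ := by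
  obtain ⟨x₂, hx₂⟩ := Ext.covariant_sequence_exact₃ A hS (Ext.mk₀ φ) (zero_add 1)
    (Subsingleton.elim _ _)
  obtain ⟨ψ, rfl⟩ := (Ext.mk₀_bijective A S.X₂).2 x₂
  refine ⟨ψ, ?_⟩
  rw [Ext.mk₀_comp_mk₀] at hx₂
  exact (Ext.mk₀_bijective A S.X₃).1 hx₂

/-- `Ext^{n+1}(A, X₃) = 0 ⇒ Ext^{n+2}(A, X₁) = 0` (middle term injective). -/
theorem ext_succ_succ_subsingleton (A : 𝒜) {S : ShortComplex 𝒜} (hS : S.ShortExact)
    [Injective S.X₂] (n : ℕ) (h : Subsingleton (Ext.{w} A S.X₃ (n + 1))) :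
    Subsingleton (Ext.{w} A S.X₁ (n + 2)) := by
  refine subsingleton_of_forall_eq 0 fun x => ?_
  obtain ⟨x₃, hx₃⟩ := Ext.covariant_sequence_exact₁ A hS x
    (Ext.eq_zero_of_injective _) (rfl : n + 1 + 1 = n + 2)
  rw [← hx₃, Subsingleton.elim x₃ 0, Ext.zero_comp]

/-- `Ext^{n+2}(A, X₁) = 0 ⇒ Ext^{n+1}(A, X₃) = 0` (middle term injective). -/
theorem ext_succ_subsingleton_of_succ_succ (A : 𝒜) {S : ShortComplex 𝒜} (hS : S.ShortExact)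
    [Injective S.X₂] (n : ℕ) (h : Subsingleton (Ext.{w} A S.X₁ (n + 2))) :
    Subsingleton (Ext.{w} A S.X₃ (n + 1)) := by
  refine subsingleton_of_forall_eq 0 fun x => ?_
  obtain ⟨x₂, hx₂⟩ := Ext.covariant_sequence_exact₃ A hS x (rfl : n + 1 + 1 = n + 2)
    (Subsingleton.elim _ _)
  rw [← hx₂, Ext.eq_zero_of_injective x₂, Ext.zero_comp]

/-- `Ext^1(A, X₁) = 0` if `Ext^1(A, X₂) = 0` and every map `A ⟶ X₃` lifts to `X₂`. -/
theorem ext_one_subsingleton_of_lift' (A : 𝒜) {S : ShortComplex 𝒜} (hS : S.ShortExact)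
    (h2 : Subsingleton (Ext.{w} A S.X₂ 1))
    (hlift : ∀ φ : A ⟶ S.X₃, ∃ ψ : A ⟶ S.X₂, ψ ≫ S.g = φ) :
    Subsingleton (Ext.{w} A S.X₁ 1) := by
  refine subsingleton_of_forall_eq 0 fun x => ?_
  obtain ⟨x₃, hx₃⟩ := Ext.covariant_sequence_exact₁ A hS x
    (Subsingleton.elim _ _) (zero_add 1)
  obtain ⟨φ, rfl⟩ := (Ext.mk₀_bijective A S.X₃).2 x₃
  obtain ⟨ψ, rfl⟩ := hlift φ
  rw [← hx₃, ← Ext.mk₀_comp_mk₀, Ext.comp_assoc_of_second_deg_zero,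
    hS.comp_extClass, Ext.comp_zero]

/-- `Ext^{n+2}(A, X₂) = 0` and `Ext^{n+1}(A, X₃) = 0` imply `Ext^{n+2}(A, X₁) = 0`. -/
theorem ext_succ_succ_subsingleton' (A : 𝒜) {S : ShortComplex 𝒜} (hS : S.ShortExact)
    (n : ℕ) (h2 : Subsingleton (Ext.{w} A S.X₂ (n + 2)))
    (h3 : Subsingleton (Ext.{w} A S.X₃ (n + 1))) :
    Subsingleton (Ext.{w} A S.X₁ (n + 2)) := by
  refine subsingleton_of_forall_eq 0 fun x => ?_
  obtain ⟨x₃, hx₃⟩ := Ext.covariant_sequence_exact₁ A hS x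
    (Subsingleton.elim _ _) (rfl : n + 1 + 1 = n + 2)
  rw [← hx₃, Subsingleton.elim x₃ 0, Ext.zero_comp]

end Groth.Agent.Lib.Helper19.ExtShift
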