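import Mathlib
import Groth.Agent.Lib.Helper19.CechTop
import Groth.Agent.Lib.Helper19.ExtShift

set_option autoImplicit false

namespace Groth.Agent.Lib.Helper19.CechAcyclic

open CategoryTheory Limits Opposite Abelian
open Groth.Agent.Lib.Helper19.CechHom

universe u

variable {C : Type u} [SmallCategory C] {J : GrothendieckTopology C}

/-- `F` is Čech-acyclic for all epimorphisms of sheaves of sets. -/
def CechAcyc (F : Sheaf J AddCommGrpCat.{u}) : Prop :=
  ∀ (K' K : Sheaf J (Type u)) (f : K' ⟶ K), Epi f → ∀ q : ℕ, HomExactAt F f q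

/-- The short exact sequence `F ⟶ I(F) ⟶ I(F)/F` with `I(F)` injective. -/
noncomputable abbrev injSeq (F : Sheaf J AddCommGrpCat.{u}) :
    ShortComplex (Sheaf J AddCommGrpCat.{u}) :=
  ShortComplex.mk _ _ (cokernel.condition (Injective.ι F))

theorem injSeq_shortExact (F : Sheaf J AddCommGrpCat.{u}) : (injSeq F).ShortExact :=
  { exact := ShortComplex.exact_of_g_is_cokernel _ (cokernelIsCokernel (injSeq F).f) }

instance (F : Sheaf J AddCommGrpCat.{u}) : Injective (injSeq F).X₂ :=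
  inferInstanceAs (Injective (Injective.under F))

theorem acyc_of_injective (I : Sheaf J AddCommGrpCat.{u}) [Injective I]
    (Z : Sheaf J AddCommGrpCat.{u}) : AcyclicRes.Acyc.{u} I Z :=
  fun _ => subsingleton_of_forall_eq 0 fun e => Ext.eq_zero_of_injective e

theorem homExactAt_of_injective (I : Sheaf J AddCommGrpCat.{u}) [Injective I]
    {K' K : Sheaf J (Type u)} (f : K' ⟶ K) [Epi f] (q : ℕ) : HomExactAt I f q := fun x hx =>
  AcyclicRes.hom_exact_of_quasiIso (freeAug f) I (fun _ => acyc_of_injective I _)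
    (acyc_of_injective I _) q x hx

/-- Step 2: the quotient of a Čech-acyclic sheaf (with vanishing `H^1`) in an injective one is
Čech-acyclic. -/
theorem cechAcyc_X₃ {S : ShortComplex (Sheaf J AddCommGrpCat.{u})} (hS : S.ShortExact)
    [Injective S.X₂] (hF : CechAcyc S.X₁)
    (h1 : ∀ K : Sheaf J (Type u), Subsingleton (Ext.{u} ((G J).obj K) S.X₁ 1)) :
    CechAcyc S.X₃ := by
  intro K' K f hf q x hx
  have := hS.mono_f
  -- (a) lift x to y
  obtain ⟨y, hy⟩ := ExtShift.lift_of_ext_one_subsingleton ((freeCx f).X (q + 1)) hS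
    (h1 _) x
  -- (b) d ≫ y factors through S.f
  have hdy : ((freeCx f).d (q + 2) (q + 1) ≫ y) ≫ S.g = 0 := by
    rw [Category.assoc, hy, hx]
  let z : (freeCx f).X (q + 2) ⟶ S.X₁ := hS.exact.lift _ hdy
  have hz : z ≫ S.f = (freeCx f).d (q + 2) (q + 1) ≫ y := hS.exact.lift_f _ hdy
  -- (c)
  have hdz : (freeCx f).d (q + 3) (q + 2) ≫ z = 0 := by
    rw [← cancel_mono S.f, Category.assoc, hz, HomologicalComplex.d_comp_d_assoc, zero_comp,
      zero_comp]
  -- (d)
  obtain ⟨w, hw⟩ := hF K' K f hf (q + 1) z hdz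
  -- (e)
  have hy'1 : (freeCx f).d (q + 2) (q + 1) ≫ (y - w ≫ S.f) = 0 := by
    rw [Preadditive.comp_sub, ← Category.assoc, hw, hz, sub_self]
  have hy'2 : (y - w ≫ S.f) ≫ S.g = x := by
    rw [Preadditive.sub_comp, Category.assoc, S.zero, comp_zero, sub_zero, hy]
  -- (f)
  obtain ⟨v, hv⟩ := homExactAt_of_injective S.X₂ f q (y - w ≫ S.f) hy'1
  exact ⟨v ≫ S.g, by rw [← Category.assoc, hv, hy'2]⟩

/-- the degree-0 augmentation with clean types. -/
noncomputable def aug0 {K' K : Sheaf J (Type u)} (f : K' ⟶ K) :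
    (freeCx f).X 0 ⟶ (G J).obj K :=
  (freeAug f).f 0

/-- the projection `P_0 = ℤ[K'_0] ⟶ ℤ[K']`. -/
noncomputable def p0 {K' K : Sheaf J (Type u)} (f : K' ⟶ K) :
    (freeCx f).X 0 ⟶ (G J).obj K' :=
  (G J).map (WidePullback.π (fun _ : Fin (0 + 1) => (Arrow.mk f).hom) 0)

theorem p0_comp {K' K : Sheaf J (Type u)} (f : K' ⟶ K) :
    p0 f ≫ (G J).map f = aug0 f := by
  have h1 : aug0 f =
      (G J).map (WidePullback.base (fun _ : Fin (0 + 1) => (Arrow.mk f).hom)) := by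
    unfold aug0
    rw [AlgebraicTopology.AlternatingFaceMapComplex.ε_app_f_zero]
    exact Category.comp_id _
  rw [h1, ← WidePullback.π_arrow (fun _ : Fin (0 + 1) => (Arrow.mk f).hom) 0, Functor.map_comp]
  rfl

theorem d_comp_aug0 {K' K : Sheaf J (Type u)} (f : K' ⟶ K) :
    (freeCx f).d 1 0 ≫ aug0 f = 0 := by
  have h0 : ((ChainComplex.single₀ (Sheaf J AddCommGrpCat.{u})).obj ((G J).obj K)).d 1 0 = 0 := rfl
  have : (freeCx f).d 1 0 ≫ (freeAug f).f 0 = 0 :=
    ((freeAug f).comm 1 0).symm.trans (by rw [h0, comp_zero])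
  exact this

theorem aug0_exact {K' K : Sheaf J (Type u)} (f : K' ⟶ K) [Epi f] :
    (ShortComplex.mk ((freeCx f).d 1 0) (aug0 f) (d_comp_aug0 f)).Exact :=
  (AcyclicRes.exact_and_epi_of_quasiIso (freeAug f)).1

instance epi_aug0 {K' K : Sheaf J (Type u)} (f : K' ⟶ K) [Epi f] : Epi (aug0 f) :=
  (AcyclicRes.exact_and_epi_of_quasiIso (freeAug f)).2

/-- Step 1: a Čech-acyclic sheaf has vanishing `H^1(K, -)` for all sheaves of sets `K`. -/
theorem ext_one_subsingleton (F : Sheaf J AddCommGrpCat.{u}) (hF : CechAcyc F)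
    (K : Sheaf J (Type u)) : Subsingleton (Ext.{u} ((G J).obj K) F 1) := by
  have hS := injSeq_shortExact F
  apply ExtShift.ext_one_subsingleton_of_lift ((G J).obj K) hS
  intro s
  have := hS.mono_f
  have := hS.epi_g
  obtain ⟨K', f, hf, t', ht'⟩ := CechTop.exists_epi_lift (injSeq F).g s
  obtain ⟨t, ht_def⟩ : ∃ t : (freeCx f).X 0 ⟶ (injSeq F).X₂, t = p0 f ≫ t' := ⟨_, rfl⟩
  have ht : t ≫ (injSeq F).g = aug0 f ≫ s := by
    rw [ht_def, ← p0_comp, Category.assoc, Category.assoc, ht']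
  have hdt : ((freeCx f).d 1 0 ≫ t) ≫ (injSeq F).g = 0 := by
    rw [Category.assoc, ht, ← Category.assoc, d_comp_aug0, zero_comp]
  obtain ⟨z, hz⟩ : ∃ z : (freeCx f).X 1 ⟶ F, z ≫ (injSeq F).f = (freeCx f).d 1 0 ≫ t :=
    ⟨_, hS.exact.lift_f _ hdt⟩
  have hdz : (freeCx f).d 2 1 ≫ z = 0 := by
    rw [← cancel_mono (injSeq F).f, Category.assoc, hz, HomologicalComplex.d_comp_d_assoc,
      zero_comp, zero_comp]
  obtain ⟨w, hw0⟩ := hF K' K f hf 0 z hdz
  have hw : (freeCx f).d 1 0 ≫ w = z := hw0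
  have ht1 : (freeCx f).d 1 0 ≫ (t - w ≫ (injSeq F).f) = 0 := by
    rw [Preadditive.comp_sub, ← Category.assoc, hw, hz, sub_self]
  have ht2 : (t - w ≫ (injSeq F).f) ≫ (injSeq F).g = aug0 f ≫ s := by
    rw [Preadditive.sub_comp, Category.assoc, (injSeq F).zero, comp_zero, sub_zero, ht]
  obtain ⟨b, hb⟩ : ∃ b : (G J).obj K ⟶ (injSeq F).X₂, aug0 f ≫ b = t - w ≫ (injSeq F).f :=
    ⟨_, (aug0_exact f).g_desc _ ht1⟩
  refine ⟨b, ?_⟩
  rw [← cancel_epi (aug0 f), ← Category.assoc, hb, ht2]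

/-- Step 3: Čech-acyclic for all epimorphisms implies vanishing of all higher `H^q(K, -)`. -/
theorem ext_subsingleton_of_cechAcyc : ∀ (q : ℕ) (F : Sheaf J AddCommGrpCat.{u}), CechAcyc F →
    ∀ K : Sheaf J (Type u), Subsingleton (Ext.{u} ((G J).obj K) F (q + 1))
  | 0, F, hF, K => ext_one_subsingleton F hF K
  | q + 1, F, hF, K =>
    ExtShift.ext_succ_succ_subsingleton ((G J).obj K) (injSeq_shortExact F) q
      (ext_subsingleton_of_cechAcyc q (injSeq F).X₃
        (cechAcyc_X₃ (injSeq_shortExact F) hF (ext_one_subsingleton F hF)) K)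

/-- **S12106**. -/
theorem isTotallyAcyclic_of_cechAcyc (F : Sheaf J AddCommGrpCat.{u}) (hF : CechAcyc F) :
    CohCx.IsTotallyAcyclic F :=
  fun K q => ext_subsingleton_of_cechAcyc q F hF K

theorem cechAcyc_of_isTotallyAcyclic (F : Sheaf J AddCommGrpCat.{u})
    (hF : CohCx.IsTotallyAcyclic F) : CechAcyc F :=
  fun _ _ f _ q => homExactAt_of_totallyAcyclic F hF f q

theorem cechAcyc_of_homology (F : Sheaf J AddCommGrpCat.{u})
    (h : ∀ (K' K : Sheaf J (Type u)) (f : K' ⟶ K), Epi f →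
      ∀ q : ℕ, IsZero ((CohCx.cechNerveCx F f).homology (q + 1))) : CechAcyc F :=
  fun K' K f hf q => (isZero_homology_iff F f q).mp (h K' K f hf q)

end Groth.Agent.Lib.Helper19.CechAcyclic
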