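import Groth.Agent.Lib.Cohomology.helper5_Leray

/-!
# Čech cohomology of a pairwise disjoint family vanishes (helper19)
-/

set_option autoImplicit false
universe u
open CategoryTheory CategoryTheory.Limits TopologicalSpace Opposite

namespace Groth.Agent.Lib.Helper19.CechDisjoint

open Groth.Agent.Lib.Cohomology.Cech Groth.Agent.Lib.Cohomology.Leray

variable {X : TopCat.{u}} {ι : Type u} (U : ι → Opens X) (P : (Opens X)ᵒᵖ ⥤ AddCommGrpCat.{u})

lemma ev_self (n : ℕ) (i : Fin (n + 1) → ι) (c : (cx P U).X n) :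
    ev U P n i (inter U i) le_rfl c = proj P U n i c := by
  rw [ev_apply]
  have : (homOfLE (le_refl (inter U i))).op = 𝟙 (op (inter U i)) := rfl
  rw [this, P.map_id]
  rfl

lemma map_ev (n : ℕ) (i : Fin (n + 1) → ι) (V V' : Opens X) (hV : V ≤ inter U i) (h : V' ≤ V)
    (c : (cx P U).X n) :
    P.map (homOfLE h).op (ev U P n i V hV c) = ev U P n i V' (h.trans hV) c := by
  rw [ev_apply, ev_apply, ← ConcreteCategory.comp_apply, ← P.map_comp]
  rfl

lemma le_inter_cons {m : ℕ} (j : ι) (i : Fin (m + 1) → ι) (V : Opens X) (hj : V ≤ U j)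
    (hV : V ≤ inter U i) : V ≤ inter U (Fin.cons j i : Fin (m + 2) → ι) := by
  apply le_inter
  intro a
  refine Fin.cases ?_ (fun a' => ?_) a
  · simpa using hj
  · simpa using hV.trans (inter_le U i a')

theorem isZero_cechH_of_pairwise_disjoint (hP : Subsingleton (P.obj (op ⊥)))
    (hU : Pairwise (fun i j => Disjoint (U i) (U j))) (n : ℕ) :
    IsZero (CohTop.cechH P U (n + 1)) := by
  rw [isZero_cechH_succ_iff]
  intro c hc
  let b : Coch P U n := fun i => ev U P (n + 1) (Fin.cons (i 0) i) (inter U i)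
    (le_inter_cons U (i 0) i _ (inter_le U i 0) le_rfl) c
  refine ⟨(cochEquiv P U n).symm b, ?_⟩
  apply cx_ext
  intro i
  by_cases h01 : i 0 = i 1
  · rw [← ev_self, ← ev_self, ev_d]
    have hb : ∀ k : Fin (n + 2), ev U P n (i ∘ k.succAbove) (inter U i)
        ((le_refl _).trans (inter_succAbove_le U i k)) ((cochEquiv P U n).symm b) =
        ev U P (n + 1) (Fin.cons (i 0) (i ∘ k.succAbove)) (inter U i)
          (le_inter_cons U (i 0) _ _ (inter_le U i 0) (inter_succAbove_le U i k)) c := by
      intro k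
      rw [ev_apply, proj_cochEquiv_symm]
      change P.map _ (ev U P (n + 1) (Fin.cons ((i ∘ k.succAbove) 0) (i ∘ k.succAbove)) _ _ c) = _
      rw [map_ev]
      have hk0 : (i ∘ k.succAbove) 0 = i 0 := by
        refine Fin.cases ?_ (fun k' => ?_) k
        · simpa using h01.symm
        · simp
      exact ev_congr U P (n + 1) (by rw [hk0]) _ _ c
    simp only [hb]
    have hcoc := congrArg (ev U P (n + 2) (Fin.cons (i 0) i) (inter U i)
      (le_inter_cons U (i 0) i _ (inter_le U i 0) le_rfl)) hc
    rw [ev_d, map_zero, Fin.sum_univ_succ] at hcoc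
    have h0 : ev U P (n + 1) ((Fin.cons (i 0) i : Fin (n + 3) → ι) ∘ (0 : Fin (n + 3)).succAbove)
        (inter U i) ((le_inter_cons U (i 0) i _ (inter_le U i 0) le_rfl).trans
          (inter_succAbove_le U _ 0)) c = ev U P (n + 1) i (inter U i) le_rfl c :=
      ev_congr U P (n + 1) (cons_comp_succAbove_zero (i 0) i) _ _ c
    have hk : ∀ k : Fin (n + 2),
        ev U P (n + 1) ((Fin.cons (i 0) i : Fin (n + 3) → ι) ∘ k.succ.succAbove) (inter U i)
          ((le_inter_cons U (i 0) i _ (inter_le U i 0) le_rfl).trans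
            (inter_succAbove_le U _ k.succ)) c =
        ev U P (n + 1) (Fin.cons (i 0) (i ∘ k.succAbove)) (inter U i)
          (le_inter_cons U (i 0) _ _ (inter_le U i 0) (inter_succAbove_le U i k)) c := fun k =>
      ev_congr U P (n + 1) (cons_comp_succAbove_succ (i 0) i k) _ _ c
    rw [h0] at hcoc
    simp only [hk, Fin.val_succ, pow_succ, Fin.val_zero, pow_zero, one_smul] at hcoc
    simp only [mul_neg, mul_one, neg_smul, Finset.sum_neg_distrib] at hcoc
    exact (eq_of_sub_eq_zero (by rw [← hcoc]; abel)).symm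
  · have hbot : inter U i = ⊥ := by
      apply le_antisymm _ bot_le
      have hd : Disjoint (U (i 0)) (U (i 1)) := hU h01
      rw [disjoint_iff] at hd
      rw [← hd]
      exact le_inf (inter_le U i 0) (inter_le U i 1)
    have hs : Subsingleton (P.obj (op (inter U i))) := by
      rw [hbot]
      exact hP
    exact Subsingleton.elim _ _

end Groth.Agent.Lib.Helper19.CechDisjoint
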