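import Mathlib
import Groth.Agent.Lib.Helper19.CechNerveD

set_option autoImplicit false

namespace Groth.Agent.Lib.Helper19.CechNerve

open CategoryTheory Limits AlgebraicTopology Opposite Simplicial

universe u

section SheafGen

variable {C : Type u} [SmallCategory C] (J : GrothendieckTopology C)

/-- **Čech nerve resolution, general coefficients**: let `W` be a functor from presheaves of sets
to abelian presheaves which turns Čech nerves of objectwise surjective maps into resolutions
and such that `W` followed by sheafification inverts inclusions of images of locally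
surjective maps.  Then for an epimorphism `f : K' ⟶ K` of sheaves of sets, the alternating
face map complex of `a W (Čech nerve)` resolves `a W K`. -/
theorem quasiIso_eps_cechNerve_gen
    (W : (Cᵒᵖ ⥤ Type u) ⥤ (Cᵒᵖ ⥤ AddCommGrpCat.{u}))
    (hW1 : ∀ {Q' Q : Cᵒᵖ ⥤ Type u} (r : Q' ⟶ Q), (∀ U, Function.Surjective (r.app U)) →
      QuasiIso (AlternatingFaceMapComplex.ε.app
        (((SimplicialObject.Augmented.whiskering _ _).obj W).obj
          (Arrow.mk r).augmentedCechNerve)))
    (hW2 : ∀ {Q' Q : Cᵒᵖ ⥤ Type u} (p : Q' ⟶ Q), Presheaf.IsLocallySurjective J p →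
      IsIso ((presheafToSheaf J AddCommGrpCat.{u}).map (W.map (Subfunctor.range p).ι)))
    {K' K : Sheaf J (Type u)} (f : K' ⟶ K) [Epi f] :
    QuasiIso (AlternatingFaceMapComplex.ε.app
      (((SimplicialObject.Augmented.whiskering _ _).obj
        (sheafToPresheaf J (Type u) ⋙ W ⋙ presheafToSheaf J AddCommGrpCat.{u})).obj
        (Arrow.mk f).augmentedCechNerve)) := by
  let P := sheafToPresheaf J (Type u)
  let a := presheafToSheaf J AddCommGrpCat.{u}
  let T := W ⋙ a
  let p := P.map f
  have i0 : Presheaf.IsLocallySurjective J p :=
    (Sheaf.isLocallySurjective_iff_epi (φ := f)).mpr inferInstance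
  let r := Subfunctor.toRange p
  let φ : Arrow.mk r ⟶ P.mapArrow.obj (Arrow.mk f) :=
    Arrow.homMk (𝟙 _) (Subfunctor.range p).ι (by simp [r, p]; rfl)
  have i1 : IsIso φ.left := by change IsIso (𝟙 _); infer_instance
  have i2 : Mono φ.right := by change Mono (Subfunctor.range p).ι; infer_instance
  let ψ := Arrow.mapAugmentedCechNerve φ
  let e1 := cechMapIso P (Arrow.mk f)
  -- presheaf level
  have hr : ∀ U, Function.Surjective (r.app U) := by
    intro U
    rintro ⟨_, y, rfl⟩
    exact ⟨y, Subtype.ext (Subfunctor.toRange_app_val p y)⟩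
  have h0 := hW1 r hr
  have h1 : QuasiIso (AlternatingFaceMapComplex.ε.app
      (((SimplicialObject.Augmented.whiskering _ _).obj T).obj
        (Arrow.mk r).augmentedCechNerve)) := by
    change QuasiIso (AlternatingFaceMapComplex.ε.app
      (((SimplicialObject.Augmented.whiskering _ _).obj a).obj
        (((SimplicialObject.Augmented.whiskering _ _).obj W).obj
          (Arrow.mk r).augmentedCechNerve)))
    rw [_root_.quasiIso_iff_of_arrow_mk_iso _ _ (epsMapIso a _)]
    infer_instance
  have h2 : QuasiIso (AlternatingFaceMapComplex.ε.app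
      (((SimplicialObject.Augmented.whiskering _ _).obj T).obj
        (P.mapArrow.obj (Arrow.mk f)).augmentedCechNerve)) := by
    let ψ' := ((SimplicialObject.Augmented.whiskering _ _).obj T).map ψ
    have j1 : IsIso ψ'.left := by
      change IsIso (Functor.whiskerRight (Arrow.mapCechNerve φ) T)
      infer_instance
    have j2 : IsIso ψ'.right := by
      change IsIso (a.map (W.map (Subfunctor.range p).ι))
      exact hW2 p i0
    exact (quasiIso_eps_iff_of_isIso ψ').mp h1
  have h3 : QuasiIso (AlternatingFaceMapComplex.ε.app
      (((SimplicialObject.Augmented.whiskering _ _).obj T).obj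
        (((SimplicialObject.Augmented.whiskering _ _).obj P).obj
          (Arrow.mk f).augmentedCechNerve))) := by
    let e' := ((SimplicialObject.Augmented.whiskering _ _).obj T).mapIso e1
    have j1 : IsIso e'.hom.left := inferInstance
    have j2 : IsIso e'.hom.right := inferInstance
    exact (quasiIso_eps_iff_of_isIso e'.hom).mpr h2
  exact h3

end SheafGen

end Groth.Agent.Lib.Helper19.CechNerve
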