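import Mathlib
import Groth.Prelude.Def_CohSite
import Groth.Agent.Lib.Helper19.CechAcyclic

set_option autoImplicit false

namespace Groth.Agent.Lib.Helper19.CechPush

open CategoryTheory Limits Opposite Abelian AlgebraicTopology
open Groth.Agent.Lib.Helper19.CechHom Groth.Agent.Lib.Helper19.CechAcyclic
  Groth.Agent.Lib.Helper19.CechTop

universe u

variable {C D : Type u} [SmallCategory C] [SmallCategory D]
  (J : GrothendieckTopology C) (K : GrothendieckTopology D) (u : D ⥤ C) [u.IsContinuous K J]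

/-- pullback of sheaves of sets. -/
noncomputable abbrev uT : Sheaf K (Type u) ⥤ Sheaf J (Type u) := u.sheafPullback (Type u) K J

/-- pullback of abelian sheaves. -/
noncomputable abbrev uA : Sheaf K AddCommGrpCat.{u} ⥤ Sheaf J AddCommGrpCat.{u} :=
  u.sheafPullback AddCommGrpCat.{u} K J

noncomputable def adjT : uT J K u ⊣ u.sheafPushforwardContinuous (Type u) K J :=
  u.sheafAdjunctionContinuous (Type u) K J

noncomputable def adjA : uA J K u ⊣ CohSite.push J K u :=
  u.sheafAdjunctionContinuous AddCommGrpCat.{u} K J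

/-- the free abelian sheaf functor commutes with pullback. -/
noncomputable def GuIso : G K ⋙ uA J K u ≅ uT J K u ⋙ G J :=
  Adjunction.leftAdjointUniq ((adjG K).comp (adjA J K u)) ((adjT J K u).comp (adjG J))

section Abstract

variable {𝒜 ℬ : Type*} [Category 𝒜] [Category ℬ] [Preadditive 𝒜] [Preadditive ℬ]

/-- Hom-exactness of a chain complex against an object. -/
def HomExact (P : ChainComplex 𝒜 ℕ) (F : 𝒜) (q : ℕ) : Prop :=
  ∀ x : P.X (q + 1) ⟶ F, P.d (q + 2) (q + 1) ≫ x = 0 → ∃ y : P.X q ⟶ F, P.d (q + 1) q ≫ y = x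

theorem homExact_of_iso {P P' : ChainComplex 𝒜 ℕ} (e : P ≅ P') (F : 𝒜) (q : ℕ)
    (h : HomExact P' F q) : HomExact P F q := by
  intro x hx
  obtain ⟨y', hy'⟩ := h (e.inv.f (q + 1) ≫ x) (by
    rw [← Category.assoc, ← e.inv.comm, Category.assoc, hx, comp_zero])
  refine ⟨e.hom.f q ≫ y', ?_⟩
  rw [← Category.assoc, ← e.hom.comm, Category.assoc, hy', ← Category.assoc,
    ← HomologicalComplex.comp_f, e.hom_inv_id, HomologicalComplex.id_f, Category.id_comp]

theorem homExact_of_adjunction {L : 𝒜 ⥤ ℬ} {R : ℬ ⥤ 𝒜} (adj : L ⊣ R) [L.Additive]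
    (P : ChainComplex 𝒜 ℕ) (F : ℬ) (q : ℕ)
    (h : HomExact ((L.mapHomologicalComplex _).obj P) F q) : HomExact P (R.obj F) q := by
  intro x hx
  obtain ⟨y', hy'⟩ := h ((adj.homEquiv _ _).symm x) (by
    change L.map (P.d (q + 2) (q + 1)) ≫ _ = 0
    rw [← Adjunction.homEquiv_naturality_left_symm, hx]
    simp [Adjunction.homEquiv_symm_apply])
  obtain ⟨y'', hy''⟩ : ∃ y'' : L.obj (P.X q) ⟶ F,
      L.map (P.d (q + 1) q) ≫ y'' = (adj.homEquiv _ _).symm x := ⟨y', hy'⟩
  refine ⟨adj.homEquiv _ _ y'', ?_⟩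
  rw [← Adjunction.homEquiv_naturality_left, hy'', Equiv.apply_symm_apply]

end Abstract

section KeyLemma

instance : (uA J K u).Additive := (adjA J K u).left_adjoint_additive

variable [PreservesFiniteLimits (uT J K u)]

/-- the pullback of the free Čech complex of `f` is the free Čech complex of the pullback. -/
noncomputable def freeCxPullbackIso {L' L : Sheaf K (Type u)} (f : L' ⟶ L) :
    ((uA J K u).mapHomologicalComplex _).obj (freeCx f) ≅ freeCx ((uT J K u).map f) :=
  eqToIso (CechNerve.altMap_eq (uA J K u) _).symm ≪≫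
    (alternatingFaceMapComplex _).mapIso
      (Functor.isoWhiskerLeft (Arrow.mk f).cechNerve (GuIso J K u) ≪≫
        Functor.isoWhiskerRight (CechNerve.cechMapIsoLeft (uT J K u) (Arrow.mk f)) (G J))

/-- **Key lemma**: the direct image of a Čech-acyclic sheaf along a continuous functor whose
pullback on sheaves of sets is exact is Čech-acyclic. -/
theorem cechAcyc_push (F : Sheaf J AddCommGrpCat.{u}) (hF : CechAcyc F) :
    CechAcyc ((CohSite.push J K u).obj F) := by
  intro L' L f hf q
  have : (uT J K u).PreservesEpimorphisms :=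
    Functor.preservesEpimorphisms_of_adjunction (adjT J K u)
  have : Epi ((uT J K u).map f) := (uT J K u).map_epi f
  exact homExact_of_adjunction (adjA J K u) (freeCx f) F q
    (homExact_of_iso (freeCxPullbackIso J K u f) F q (hF _ _ ((uT J K u).map f) this q))

end KeyLemma

end Groth.Agent.Lib.Helper19.CechPush
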