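import Mathlib
import Groth.Prelude.Def_CohCx
import Groth.Agent.Lib.Helper19.CechNerveE
import Groth.Agent.Lib.Helper19.CechPush
import Groth.Agent.Lib.Helper94.ModSiteBasic

set_option autoImplicit false

namespace Groth.Agent.Lib.Helper19.CechMod

open CategoryTheory Limits AlgebraicTopology Opposite Simplicial
open Groth.Agent.Lib.Helper19.CechNerve Groth.Agent.Lib.Helper19.CechHom
  Groth.Agent.Lib.Helper19.CechAcyclic

universe u

variable {C : Type u} [SmallCategory C]

/-- the free presheaf of modules on a presheaf of sets, as an abelian presheaf. -/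
noncomputable abbrev W' (R₀ : Cᵒᵖ ⥤ RingCat.{u}) :
    (Cᵒᵖ ⥤ Type u) ⥤ (Cᵒᵖ ⥤ AddCommGrpCat.{u}) :=
  PresheafOfModules.free R₀ ⋙ PresheafOfModules.toPresheaf R₀

/-- evaluation of the free module presheaf. -/
noncomputable def evalIso (R₀ : Cᵒᵖ ⥤ RingCat.{u}) (U : Cᵒᵖ) :
    (evaluation Cᵒᵖ (Type u)).obj U ⋙ ModuleCat.free (R₀.obj U) ⋙
      forget₂ (ModuleCat (R₀.obj U)) AddCommGrpCat.{u} ≅
    W' R₀ ⋙ (evaluation Cᵒᵖ AddCommGrpCat.{u}).obj U :=
  NatIso.ofComponents (fun Q => Iso.refl _) (by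
    intro Q Q' φ
    erw [Category.comp_id])

/-- the Čech nerve of an objectwise surjective map of presheaves of sets gives a resolution
by free presheaves of modules. -/
theorem quasiIso_eps_presheaf_mod (R₀ : Cᵒᵖ ⥤ RingCat.{u}) {Q' Q : Cᵒᵖ ⥤ Type u} (p : Q' ⟶ Q)
    (hp : ∀ U, Function.Surjective (p.app U)) :
    QuasiIso (AlternatingFaceMapComplex.ε.app
      (((SimplicialObject.Augmented.whiskering _ _).obj (W' R₀)).obj
        (Arrow.mk p).augmentedCechNerve)) := by
  rw [HomologicalComplex.quasiIso_iff_evaluation]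
  intro U
  rw [← _root_.quasiIso_iff_of_arrow_mk_iso _ _
    (epsMapIso ((evaluation Cᵒᵖ AddCommGrpCat.{u}).obj U) _)]
  refine quasiIso_eps_of_extraDegeneracy ?_
  refine SimplicialObject.Augmented.ExtraDegeneracy.ofIso
    (((SimplicialObject.Augmented.whiskering _ _).mapIso (evalIso R₀ U)).app
      (Arrow.mk p).augmentedCechNerve) ?_
  exact (extraDegeneracyEval p hp U).map
    (ModuleCat.free (R₀.obj U) ⋙ forget₂ (ModuleCat (R₀.obj U)) AddCommGrpCat.{u})

section Abstract

/-- a left adjoint on presheaves of sets whose right adjoint takes values in sheaves inverts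
the class `J.W`. -/
theorem isIso_map_of_W (J : GrothendieckTopology C) {𝒟 : Type*} [Category 𝒟]
    {L : (Cᵒᵖ ⥤ Type u) ⥤ 𝒟} {Rr : 𝒟 ⥤ (Cᵒᵖ ⥤ Type u)} (adj : L ⊣ Rr)
    (hR : ∀ M, Presheaf.IsSheaf J (Rr.obj M)) {P P' : Cᵒᵖ ⥤ Type u} (w : P ⟶ P')
    (hw : J.W w) : IsIso (L.map w) := by
  rw [isIso_iff_coyoneda_map_bijective]
  intro T
  have h : Function.Bijective (fun g : P' ⟶ Rr.obj T => w ≫ g) := hw (Rr.obj T) (hR T)
  have e : (fun x : L.obj P' ⟶ T => L.map w ≫ x) =
      (adj.homEquiv P T).symm ∘ (fun g : P' ⟶ Rr.obj T => w ≫ g) ∘ (adj.homEquiv P' T) := by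
    funext x
    simp only [Function.comp]
    rw [Adjunction.homEquiv_naturality_left_symm, Equiv.symm_apply_apply]
  rw [e]
  exact (Equiv.bijective _).comp (h.comp (Equiv.bijective _))

variable {𝒜 ℬ : Type*} [Category 𝒜] [Category ℬ] [Preadditive 𝒜] [Preadditive ℬ]

/-- transfer of Hom-exactness along a comparison of complexes which induces bijections on
Hom sets. -/
theorem homExact_transfer (T : ℬ ⥤ 𝒜) [T.Additive] (P₁ : ChainComplex 𝒜 ℕ)
    (P₂ : ChainComplex ℬ ℕ) (g : ∀ n, P₁.X n ⟶ T.obj (P₂.X n))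
    (hg : ∀ n, g (n + 1) ≫ T.map (P₂.d (n + 1) n) = P₁.d (n + 1) n ≫ g n) (M : ℬ)
    (hγ : ∀ n, Function.Bijective (fun φ : P₂.X n ⟶ M => g n ≫ T.map φ)) (q : ℕ)
    (h : CechPush.HomExact P₂ M q) : CechPush.HomExact P₁ (T.obj M) q := by
  intro x hx
  obtain ⟨x', hx'⟩ := (hγ (q + 1)).2 x
  have hx'' : g (q + 1) ≫ T.map x' = x := hx'
  have h0 : P₂.d (q + 2) (q + 1) ≫ x' = 0 := by
    apply (hγ (q + 2)).1
    show g (q + 2) ≫ T.map (P₂.d (q + 2) (q + 1) ≫ x') = g (q + 2) ≫ T.map 0
    rw [T.map_comp, T.map_zero, comp_zero, ← Category.assoc, hg (q + 1), Category.assoc, hx'', hx]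
  obtain ⟨y', hy'⟩ := h x' h0
  refine ⟨g q ≫ T.map y', ?_⟩
  rw [← Category.assoc, ← hg q, Category.assoc, ← T.map_comp, hy', hx'']

/-- a natural transformation `G₁ ⟶ G₂ ⋙ T` with `T` additive is compatible with the
alternating face map differentials. -/
theorem alt_comm {𝒮 : Type*} [Category 𝒮] (N : SimplicialObject 𝒮) (G₁ : 𝒮 ⥤ 𝒜) (G₂ : 𝒮 ⥤ ℬ)
    (T : ℬ ⥤ 𝒜) [T.Additive] (c : G₁ ⟶ G₂ ⋙ T) (n : ℕ) :
    c.app (N.obj (op ⦋n + 1⦌)) ≫ T.map (((alternatingFaceMapComplex ℬ).obj
        (((SimplicialObject.whiskering _ _).obj G₂).obj N)).d (n + 1) n) =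
      ((alternatingFaceMapComplex 𝒜).obj
        (((SimplicialObject.whiskering _ _).obj G₁).obj N)).d (n + 1) n ≫
        c.app (N.obj (op ⦋n⦌)) := by
  rw [alternatingFaceMapComplex_obj_d, alternatingFaceMapComplex_obj_d]
  simp only [AlternatingFaceMapComplex.objD]
  let a : G₁.obj (N.obj (op ⦋n + 1⦌)) ⟶ T.obj (G₂.obj (N.obj (op ⦋n + 1⦌))) :=
    c.app (N.obj (op ⦋n + 1⦌))
  let b : G₁.obj (N.obj (op ⦋n⦌)) ⟶ T.obj (G₂.obj (N.obj (op ⦋n⦌))) := c.app (N.obj (op ⦋n⦌))
  have e1 : T.map (∑ i : Fin (n + 2), (-1 : ℤ) ^ (i : ℕ) • G₂.map (N.δ i)) =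
      ∑ i : Fin (n + 2), (-1 : ℤ) ^ (i : ℕ) • T.map (G₂.map (N.δ i)) := by
    rw [Functor.map_sum]
    refine Finset.sum_congr rfl fun i _ => ?_
    rw [Functor.map_zsmul]
  have e2 : a ≫ (∑ i : Fin (n + 2), (-1 : ℤ) ^ (i : ℕ) • T.map (G₂.map (N.δ i))) =
      (∑ i : Fin (n + 2), (-1 : ℤ) ^ (i : ℕ) • G₁.map (N.δ i)) ≫ b := by
    rw [Preadditive.comp_sum, Preadditive.sum_comp]
    refine Finset.sum_congr rfl fun i _ => ?_
    rw [Preadditive.comp_zsmul, Preadditive.zsmul_comp]
    congr 1
    exact (c.naturality (N.δ i)).symm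
  exact (congrArg (fun t => a ≫ t) e1).trans e2

/-- an exact complex is Hom-exact against injective objects. -/
theorem homExact_of_exactAt_of_injective {ℰ : Type*} [Category ℰ] [Abelian ℰ]
    (P : ChainComplex ℰ ℕ) (I : ℰ) [Injective I] (q : ℕ) (hP : P.ExactAt (q + 1)) :
    CechPush.HomExact P I q := by
  intro x hx
  rw [HomologicalComplex.exactAt_iff' P (q + 2) (q + 1) q (by simp) (by simp)] at hP
  exact ⟨hP.descToInjective x hx, hP.comp_descToInjective x hx⟩

end Abstract

section Sheaf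

variable {J : GrothendieckTopology C} (R : Sheaf J RingCat.{u})

/-- sheafified free module functor on presheaves of sets. -/
noncomputable abbrev LO : (Cᵒᵖ ⥤ Type u) ⥤ SheafOfModules.{u} R :=
  PresheafOfModules.free R.obj ⋙ PresheafOfModules.sheafification.{u} (𝟙 R.obj)

/-- its right adjoint. -/
noncomputable abbrev RO : SheafOfModules.{u} R ⥤ (Cᵒᵖ ⥤ Type u) :=
  (SheafOfModules.forget R ⋙ PresheafOfModules.restrictScalars (𝟙 R.obj)) ⋙
    (PresheafOfModules.toPresheaf R.obj ⋙
      (Functor.whiskeringRight _ _ _).obj (forget AddCommGrpCat.{u}))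

/-- the adjunction. -/
noncomputable def adjLO : LO R ⊣ RO R :=
  (PresheafOfModules.freeAdjunction R.obj).comp
    (PresheafOfModules.sheafificationAdjunction (𝟙 R.obj))

/-- the forgetful functor from sheaves of modules to sheaves of sets. -/
noncomputable abbrev UO : SheafOfModules.{u} R ⥤ Sheaf J (Type u) :=
  SheafOfModules.toSheaf R ⋙ CechTop.U J

theorem isSheaf_RO (M : SheafOfModules.{u} R) : Presheaf.IsSheaf J ((RO R).obj M) :=
  ((UO R).obj M).property

theorem isIso_sheafify_free_range_ι_mod {Q' Q : Cᵒᵖ ⥤ Type u} (p : Q' ⟶ Q)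
    (hp : Presheaf.IsLocallySurjective J p) :
    IsIso ((presheafToSheaf J AddCommGrpCat.{u}).map
      ((W' R.obj).map (Subfunctor.range p).ι)) := by
  have h1 : Presheaf.IsLocallySurjective J (Subfunctor.range p).ι :=
    Presheaf.isLocallySurjective_of_isLocallySurjective_fac J (Subfunctor.toRange_ι p)
  have h2 : Presheaf.IsLocallyInjective J (Subfunctor.range p).ι := by
    apply Presheaf.isLocallyInjective_of_injective
    intro U
    exact (mono_iff_injective _).mp inferInstance
  have hW : J.W (Subfunctor.range p).ι := J.W_of_isLocallyBijective _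
  have h : IsIso ((LO R).map (Subfunctor.range p).ι) :=
    isIso_map_of_W J (adjLO R) (isSheaf_RO R) _ hW
  exact (inferInstance : IsIso ((SheafOfModules.toSheaf R).map
    ((LO R).map (Subfunctor.range p).ι)))

/-- the free sheaf of modules on a sheaf of sets. -/
noncomputable abbrev GO : Sheaf J (Type u) ⥤ SheafOfModules.{u} R :=
  sheafToPresheaf J (Type u) ⋙ LO R

/-- the free-forgetful adjunction. -/
noncomputable def adjGO : GO R ⊣ UO R :=
  Adjunction.restrictFullyFaithful (iC := sheafToPresheaf J (Type u))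
    (iD := 𝟭 (SheafOfModules.{u} R)) (adjLO R)
    (fullyFaithfulSheafToPresheaf J (Type u)) (Functor.FullyFaithful.id _)
    (Functor.rightUnitor _).symm
    (Functor.leftUnitor _)

/-- the complex of free sheaves of modules on the Čech nerve of `f`. -/
noncomputable abbrev freeCxO {K' K : Sheaf J (Type u)} (f : K' ⟶ K) :
    ChainComplex (SheafOfModules.{u} R) ℕ :=
  (alternatingFaceMapComplex _).obj
    (((SimplicialObject.whiskering _ _).obj (GO R)).obj (Arrow.mk f).cechNerve)

/-- the augmentation of the free Čech complex of modules. -/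
noncomputable abbrev freeAugO {K' K : Sheaf J (Type u)} (f : K' ⟶ K) :
    freeCxO R f ⟶ (ChainComplex.single₀ _).obj ((GO R).obj K) :=
  AlternatingFaceMapComplex.ε.app
    (((SimplicialObject.Augmented.whiskering _ _).obj (GO R)).obj (Arrow.mk f).augmentedCechNerve)

instance : (SheafOfModules.toSheaf.{u} R).PreservesHomology :=
  haveI := Groth.Agent.Lib.Helper94.ModSiteBasic.toSheaf_preservesFiniteColimits R
  Functor.preservesHomologyOfExact _

/-- **module-level Čech nerve resolution**. -/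
instance quasiIso_freeAugO {K' K : Sheaf J (Type u)} (f : K' ⟶ K) [Epi f] :
    QuasiIso (freeAugO R f) := by
  rw [← HomologicalComplex.quasiIso_map_iff_of_preservesHomology _ (SheafOfModules.toSheaf.{u} R)]
  have h := quasiIso_eps_cechNerve_gen J (W' R.obj) (quasiIso_eps_presheaf_mod R.obj)
    (isIso_sheafify_free_range_ι_mod R) f
  exact (_root_.quasiIso_iff_of_arrow_mk_iso _ _ (epsMapIso (SheafOfModules.toSheaf.{u} R)
    (((SimplicialObject.Augmented.whiskering _ _).obj (GO R)).obj
      (Arrow.mk f).augmentedCechNerve))).mp h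

theorem homExact_freeCxO_of_injective (I : SheafOfModules.{u} R) [Injective I]
    {K' K : Sheaf J (Type u)} (f : K' ⟶ K) [Epi f] (q : ℕ) :
    CechPush.HomExact (freeCxO R f) I q :=
  homExact_of_exactAt_of_injective _ I q (AcyclicRes.exactAt_succ_of_quasiIso (freeAugO R f) q)

/-- the comparison from the free abelian sheaf to the free sheaf of modules. -/
noncomputable def cmp : CechHom.G J ⟶ GO R ⋙ SheafOfModules.toSheaf R where
  app K := ((CechTop.adjG J).homEquiv K ((SheafOfModules.toSheaf R).obj ((GO R).obj K))).symm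
    ((adjGO R).unit.app K)
  naturality K K' g := by
    apply ((CechTop.adjG J).homEquiv _ _).injective
    rw [Adjunction.homEquiv_naturality_left, Adjunction.homEquiv_naturality_right]
    erw [Equiv.apply_symm_apply, Equiv.apply_symm_apply]
    exact (adjGO R).unit.naturality g

theorem cmp_bijective (K : Sheaf J (Type u)) (M : SheafOfModules.{u} R) :
    Function.Bijective (fun φ : (GO R).obj K ⟶ M =>
      (cmp R).app K ≫ (SheafOfModules.toSheaf R).map φ) := by
  have e : (fun φ : (GO R).obj K ⟶ M => (cmp R).app K ≫ (SheafOfModules.toSheaf R).map φ) =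
      ((CechTop.adjG J).homEquiv K ((SheafOfModules.toSheaf R).obj M)).symm ∘
        ((adjGO R).homEquiv K M) := by
    funext φ
    simp only [Function.comp, cmp]
    erw [← Adjunction.homEquiv_naturality_right_symm]
    rw [Adjunction.homEquiv_unit]
    rfl
  rw [e]
  exact (Equiv.bijective _).comp (Equiv.bijective _)

/-- **Key lemma**: the abelian sheaf underlying an injective sheaf of modules is
Čech-acyclic. -/
theorem cechAcyc_toSheaf_of_injective (I : SheafOfModules.{u} R) [Injective I] :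
    CechAcyc ((SheafOfModules.toSheaf R).obj I) := by
  intro K' K f hf q
  exact homExact_transfer (SheafOfModules.toSheaf R) (freeCx f) (freeCxO R f)
    (fun n => (cmp R).app ((Arrow.mk f).cechNerve.obj (op ⦋n⦌)))
    (fun n => alt_comm (Arrow.mk f).cechNerve (CechHom.G J) (GO R) (SheafOfModules.toSheaf R)
      (cmp R) n) I
    (fun n => cmp_bijective R _ I) q (homExact_freeCxO_of_injective R I f q)

/-- the abelian sheaf underlying an injective sheaf of modules is totally acyclic. -/
theorem isTotallyAcyclic_toSheaf_of_injective (I : SheafOfModules.{u} R) [Injective I] :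
    CohCx.IsTotallyAcyclic ((SheafOfModules.toSheaf R).obj I) :=
  isTotallyAcyclic_of_cechAcyc _ (cechAcyc_toSheaf_of_injective R I)

end Sheaf

end Groth.Agent.Lib.Helper19.CechMod
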