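import Mathlib
import Groth.Agent.Lib.Helper19.CechMod
import Groth.Agent.Lib.Cohomology.Helper4_ExtCompare
import Groth.Agent.S0485

set_option autoImplicit false

namespace Groth.Agent.Lib.Helper19.CechModExt

open CategoryTheory Limits Abelian
open Groth.Agent.Lib.Helper19.CechMod Groth.Agent.Lib.Helper19.CechHom

universe u

variable {C : Type u} [SmallCategory C] {J : GrothendieckTopology C} (R : Sheaf J RingCat.{u})

/-- the additive bijection `Hom_O(O[K], M) ≃+ Hom(ℤ[K], M)`. -/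
noncomputable def cmpAddEquiv (K : Sheaf J (Type u)) (M : SheafOfModules.{u} R) :
    ((GO R).obj K ⟶ M) ≃+ ((G J).obj K ⟶ (SheafOfModules.toSheaf R).obj M) :=
  AddEquiv.ofBijective
    (AddMonoidHom.mk' (fun φ => (cmp R).app K ≫ (SheafOfModules.toSheaf R).map φ)
      (fun a b => by rw [Functor.map_add, Preadditive.comp_add]))
    (cmp_bijective R K M)

theorem cmpAddEquiv_apply (K : Sheaf J (Type u)) (M : SheafOfModules.{u} R)
    (φ : (GO R).obj K ⟶ M) :
    cmpAddEquiv R K M φ = (cmp R).app K ≫ (SheafOfModules.toSheaf R).map φ := rfl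

variable [HasExt.{u} (SheafOfModules.{u} R)]

/-- degree zero comparison. -/
noncomputable def e0 (K : Sheaf J (Type u)) (F : SheafOfModules.{u} R) :
    Ext.{u} ((GO R).obj K) F 0 ≃+
      Ext.{u} ((G J).obj K) ((SheafOfModules.toSheaf R).obj F) 0 :=
  Ext.addEquiv₀.trans ((cmpAddEquiv R K F).trans Ext.addEquiv₀.symm)

theorem addEquiv₀_mk₀ {𝒜 : Type*} [Category 𝒜] [Abelian 𝒜] [HasExt.{u} 𝒜] {X Y : 𝒜}
    (ψ : X ⟶ Y) : Ext.addEquiv₀ (Ext.mk₀ ψ) = ψ :=
  Ext.addEquiv₀.apply_symm_apply ψ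

theorem e0_mk₀ (K : Sheaf J (Type u)) (F : SheafOfModules.{u} R) (φ : (GO R).obj K ⟶ F) :
    e0 R K F (Ext.mk₀ φ) = Ext.mk₀ ((cmp R).app K ≫ (SheafOfModules.toSheaf R).map φ) := by
  simp only [e0, AddEquiv.trans_apply]
  rw [addEquiv₀_mk₀, cmpAddEquiv_apply]
  rfl

theorem e0_comp (K : Sheaf J (Type u)) {F G' : SheafOfModules.{u} R} (g : F ⟶ G')
    (x : Ext.{u} ((GO R).obj K) F 0) :
    e0 R K G' (x.comp (Ext.mk₀ g) (add_zero 0)) =
      (e0 R K F x).comp (Ext.mk₀ ((SheafOfModules.toSheaf R).map g)) (add_zero 0) := by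
  obtain ⟨φ, rfl⟩ := (Ext.mk₀_bijective _ _).2 x
  rw [Ext.mk₀_comp_mk₀, e0_mk₀, e0_mk₀, Ext.mk₀_comp_mk₀, Functor.map_comp, Category.assoc]

/-- **S9048**: `Ext` out of the free `O`-module on `K` computes `H^p(K, -)` of the underlying
abelian sheaf. -/
theorem ext_GO_equiv (K : Sheaf J (Type u)) (F : SheafOfModules.{u} R) (p : ℕ) :
    Nonempty (Ext.{u} ((GO R).obj K) F p ≃+
      CohCx.HK K ((SheafOfModules.toSheaf R).obj F) p) := by
  have : EnoughInjectives (SheafOfModules.{u} R) := Groth.Agent.S0485.result J R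
  have := Groth.Agent.Lib.Helper94.ModSiteBasic.toSheaf_preservesFiniteColimits R
  have hR : ∀ S : ShortComplex (SheafOfModules.{u} R), S.ShortExact →
      (S.map (SheafOfModules.toSheaf R)).ShortExact := fun S hS => hS.map_of_exact _
  have hacyc : ∀ (I : SheafOfModules.{u} R) [Injective I] (n : ℕ),
      Subsingleton (Ext.{u} ((G J).obj K) ((SheafOfModules.toSheaf R).obj I) (n + 1)) :=
    fun I _ n => isTotallyAcyclic_toSheaf_of_injective R I K n
  exact Groth.Agent.Lib.Cohomology.ext_comparison.{u, u, u, u, u + 1, u + 1}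
    (𝒜 := SheafOfModules.{u} R) (ℬ := Sheaf J AddCommGrpCat.{u}) (SheafOfModules.toSheaf R)
    hR ((GO R).obj K) ((G J).obj K) (e0 R K)
    (fun g x => e0_comp R K g x) hacyc p F

end Groth.Agent.Lib.Helper19.CechModExt
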