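import Mathlib
import Groth.Agent.Lib.Helper19.CechModExt

set_option autoImplicit false

namespace Groth.Agent.Lib.Helper19.CechModUnit

open CategoryTheory Limits Abelian Opposite
open Groth.Agent.Lib.Helper19.CechMod Groth.Agent.Lib.Helper19.CechHom

universe u

variable {C : Type u} [SmallCategory C] (J : GrothendieckTopology C)

/-- the terminal sheaf of sets. -/
noncomputable def K₀ : Sheaf J (Type u) :=
  ⟨(Functor.const Cᵒᵖ).obj PUnit.{u + 1}, Presheaf.isSheaf_of_isTerminal J Types.isTerminalPUnit⟩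

/-- `ℤ[pt] ≅ ℤ`. -/
noncomputable def ιZ : AddCommGrpCat.free.obj PUnit.{u + 1} ≅ AddCommGrpCat.of (ULift.{u} ℤ) :=
  ((FreeAbelianGroup.uniqueEquiv PUnit.{u + 1}).trans AddEquiv.ulift.symm).toAddCommGrpIso

/-- the constant sheaf `ℤ`. -/
noncomputable abbrev constZ : Sheaf J AddCommGrpCat.{u} :=
  (constantSheaf J AddCommGrpCat.{u}).obj (AddCommGrpCat.of (ULift.{u} ℤ))

/-- the free abelian sheaf on the terminal sheaf is the constant sheaf `ℤ`. -/
noncomputable def constIso : (G J).obj (K₀ J) ≅ constZ J :=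
  (presheafToSheaf J AddCommGrpCat.{u}).mapIso
    (Functor.constComp Cᵒᵖ PUnit.{u + 1} AddCommGrpCat.free ≪≫ (Functor.const Cᵒᵖ).mapIso ιZ)

variable {J}

theorem const_hom_ext {P : Cᵒᵖ ⥤ AddCommGrpCat.{u}}
    (t t' : (Functor.const Cᵒᵖ).obj (AddCommGrpCat.of (ULift.{u} ℤ)) ⟶ P)
    (h : ∀ X, t.app X (ULift.up 1) = t'.app X (ULift.up 1)) : t = t' := by
  ext X ⟨n⟩
  have e : (ULift.up n : ULift.{u} ℤ) = n • (ULift.up 1 : ULift.{u} ℤ) := by
    apply ULift.ext
    simp
  have h1 : ∀ s : (Functor.const Cᵒᵖ).obj (AddCommGrpCat.of (ULift.{u} ℤ)) ⟶ P,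
      s.app X (ULift.up n) = n • s.app X (ULift.up 1) := by
    intro s
    rw [e]
    exact map_zsmul (s.app X).hom n _
  exact (h1 t).trans ((congrArg (fun y => n • y) (h X)).trans (h1 t').symm)

variable (R : Sheaf J RingCat.{u})

/-- `1 : ℤ ⟶ O` at the presheaf level. -/
noncomputable def c₀ : (Functor.const Cᵒᵖ).obj (AddCommGrpCat.of (ULift.{u} ℤ)) ⟶
    ((SheafOfModules.toSheaf R).obj (SheafOfModules.unit R)).obj where
  app X := AddCommGrpCat.ofHom
    (((zmultiplesHom (R.obj.obj X)) (1 : R.obj.obj X)).comp AddEquiv.ulift.toAddMonoidHom)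
  naturality X Y f := by
    ext ⟨n⟩
    show n • (1 : R.obj.obj Y) = (R.obj.map f).hom (n • (1 : R.obj.obj X))
    rw [map_zsmul, map_one]

theorem c₀_app_one (X : Cᵒᵖ) : (c₀ R).app X (ULift.up 1) = (1 : R.obj.obj X) :=
  one_zsmul _

/-- `1 : ℤ ⟶ O`. -/
noncomputable def c : constZ J ⟶ (SheafOfModules.toSheaf R).obj (SheafOfModules.unit R) :=
  ((sheafificationAdjunction J AddCommGrpCat.{u}).homEquiv _ _).symm (c₀ R)

/-- evaluation of a morphism out of the constant sheaf at `1`. -/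
noncomputable def ev {G' : Sheaf J AddCommGrpCat.{u}} (g : constZ J ⟶ G') (X : Cᵒᵖ) :
    G'.obj.obj X :=
  (((sheafificationAdjunction J AddCommGrpCat.{u}).homEquiv
    ((Functor.const Cᵒᵖ).obj (AddCommGrpCat.of (ULift.{u} ℤ))) G') g).app X (ULift.up 1)

theorem ev_injective {G' : Sheaf J AddCommGrpCat.{u}} (g g' : constZ J ⟶ G')
    (h : ∀ X, ev g X = ev g' X) : g = g' := by
  apply ((sheafificationAdjunction J AddCommGrpCat.{u}).homEquiv _ _).injective
  exact const_hom_ext _ _ h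

theorem ev_comp {G' G'' : Sheaf J AddCommGrpCat.{u}} (g : constZ J ⟶ G') (p : G' ⟶ G'')
    (X : Cᵒᵖ) : ev (g ≫ p) X = p.hom.app X (ev g X) := by
  have h1 := Adjunction.homEquiv_naturality_right (sheafificationAdjunction J AddCommGrpCat.{u})
    g p
  exact congrArg (fun t : (Functor.const Cᵒᵖ).obj (AddCommGrpCat.of (ULift.{u} ℤ)) ⟶ G''.obj =>
    t.app X (ULift.up 1)) h1

theorem ev_c (X : Cᵒᵖ) : ev (c R) X = (1 : R.obj.obj X) := by
  have h2 : ((sheafificationAdjunction J AddCommGrpCat.{u}).homEquiv _ _) (c R) = c₀ R :=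
    Equiv.apply_symm_apply _ _
  exact (congrArg (fun t : (Functor.const Cᵒᵖ).obj (AddCommGrpCat.of (ULift.{u} ℤ)) ⟶
    ((SheafOfModules.toSheaf R).obj (SheafOfModules.unit R)).obj =>
    t.app X (ULift.up 1)) h2).trans (c₀_app_one R X)

theorem ev_c_comp {M : SheafOfModules.{u} R} (f : SheafOfModules.unit R ⟶ M) (X : Cᵒᵖ) :
    ev (c R ≫ (SheafOfModules.toSheaf R).map f) X = f.val.app X (1 : R.obj.obj X) := by
  rw [ev_comp, ev_c]
  rfl

theorem c_bijective (M : SheafOfModules.{u} R) :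
    Function.Bijective (fun f : SheafOfModules.unit R ⟶ M =>
      c R ≫ (SheafOfModules.toSheaf R).map f) := by
  constructor
  · intro f f' h
    apply M.unitHomEquiv.injective
    ext X
    rw [SheafOfModules.unitHomEquiv_apply_coe, SheafOfModules.unitHomEquiv_apply_coe,
      ← ev_c_comp, ← ev_c_comp]
    exact congrArg (fun g => ev g X) h
  · intro t'
    let s : M.sections := PresheafOfModules.sectionsMk (fun X => ev t' X) (by
      intro X Y g
      have := NatTrans.naturality_apply (((sheafificationAdjunction J AddCommGrpCat.{u}).homEquiv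
        ((Functor.const Cᵒᵖ).obj (AddCommGrpCat.of (ULift.{u} ℤ)))
        ((SheafOfModules.toSheaf R).obj M)) t') g (ULift.up 1)
      exact this.symm)
    refine ⟨M.unitHomEquiv.symm s, ?_⟩
    apply ev_injective
    intro X
    show ev (c R ≫ (SheafOfModules.toSheaf R).map (M.unitHomEquiv.symm s)) X = ev t' X
    rw [ev_c_comp, ← SheafOfModules.unitHomEquiv_apply_coe, Equiv.apply_symm_apply]
    rfl

/-- the additive bijection `Hom_O(O, M) ≃+ Hom(ℤ, M)`. -/
noncomputable def cAddEquiv (M : SheafOfModules.{u} R) :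
    (SheafOfModules.unit R ⟶ M) ≃+ (constZ J ⟶ (SheafOfModules.toSheaf R).obj M) :=
  AddEquiv.ofBijective
    (AddMonoidHom.mk' (fun φ => c R ≫ (SheafOfModules.toSheaf R).map φ)
      (fun a b => by rw [Functor.map_add, Preadditive.comp_add]))
    (c_bijective R M)

theorem cAddEquiv_apply (M : SheafOfModules.{u} R) (φ : SheafOfModules.unit R ⟶ M) :
    cAddEquiv R M φ = c R ≫ (SheafOfModules.toSheaf R).map φ := rfl

variable [HasExt.{u} (SheafOfModules.{u} R)]

/-- degree zero comparison. -/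
noncomputable def e0 (F : SheafOfModules.{u} R) :
    Ext.{u} (SheafOfModules.unit R) F 0 ≃+
      Ext.{u} (constZ J) ((SheafOfModules.toSheaf R).obj F) 0 :=
  Ext.addEquiv₀.trans ((cAddEquiv R F).trans Ext.addEquiv₀.symm)

theorem e0_mk₀ (F : SheafOfModules.{u} R) (φ : SheafOfModules.unit R ⟶ F) :
    e0 R F (Ext.mk₀ φ) = Ext.mk₀ (c R ≫ (SheafOfModules.toSheaf R).map φ) := by
  simp only [e0, AddEquiv.trans_apply]
  rw [Groth.Agent.Lib.Helper19.CechModExt.addEquiv₀_mk₀, cAddEquiv_apply]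
  rfl

theorem e0_comp {F G' : SheafOfModules.{u} R} (g : F ⟶ G')
    (x : Ext.{u} (SheafOfModules.unit R) F 0) :
    e0 R G' (x.comp (Ext.mk₀ g) (add_zero 0)) =
      (e0 R F x).comp (Ext.mk₀ ((SheafOfModules.toSheaf R).map g)) (add_zero 0) := by
  obtain ⟨φ, rfl⟩ := (Ext.mk₀_bijective _ _).2 x
  rw [Ext.mk₀_comp_mk₀, e0_mk₀, e0_mk₀, Ext.mk₀_comp_mk₀, Functor.map_comp, Category.assoc]

/-- **S0491**: `Ext_O(O, M) ≃ H^n` of the underlying abelian sheaf. -/
theorem ext_unit_equiv (M : SheafOfModules.{u} R) (n : ℕ) :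
    Nonempty (Ext.{u} (SheafOfModules.unit R) M n ≃+
      Sheaf.H.{u} ((SheafOfModules.toSheaf R).obj M) n) := by
  have : EnoughInjectives (SheafOfModules.{u} R) := Groth.Agent.S0485.result J R
  have := Groth.Agent.Lib.Helper94.ModSiteBasic.toSheaf_preservesFiniteColimits R
  have hR : ∀ S : ShortComplex (SheafOfModules.{u} R), S.ShortExact →
      (S.map (SheafOfModules.toSheaf R)).ShortExact := fun S hS => hS.map_of_exact _
  have hacyc : ∀ (I : SheafOfModules.{u} R) [Injective I] (n : ℕ),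
      Subsingleton (Ext.{u} (constZ J) ((SheafOfModules.toSheaf R).obj I) (n + 1)) :=
    fun I _ n => Groth.Agent.Lib.Helper19.AcyclicRes.acyc_of_iso (constIso J)
      (fun q => isTotallyAcyclic_toSheaf_of_injective R I (K₀ J) q) n
  exact Groth.Agent.Lib.Cohomology.ext_comparison.{u, u, u, u, u + 1, u + 1}
    (𝒜 := SheafOfModules.{u} R) (ℬ := Sheaf J AddCommGrpCat.{u}) (SheafOfModules.toSheaf R)
    hR (SheafOfModules.unit R) (constZ J) (e0 R)
    (fun g x => e0_comp R g x) hacyc n M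

end Groth.Agent.Lib.Helper19.CechModUnit
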