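import Mathlib
import Groth.Agent.Lib.Helper19.CechAcyclic

set_option autoImplicit false

namespace Groth.Agent.Lib.Helper19.CechMono

open CategoryTheory Limits Opposite Abelian
open Groth.Agent.Lib.Helper19.CechHom Groth.Agent.Lib.Helper19.CechAcyclic
  Groth.Agent.Lib.Helper19.CechTop

universe w v u'  u

section Retract

variable {𝒜 : Type u'} [Category.{v} 𝒜] [Abelian 𝒜] [HasExt.{w} 𝒜]

theorem acyc_of_retract {F Z Z' : 𝒜} (i : Z' ⟶ Z) (r : Z ⟶ Z') (h : i ≫ r = 𝟙 Z')
    (hZ : AcyclicRes.Acyc.{w} F Z) : AcyclicRes.Acyc.{w} F Z' := by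
  intro q
  have := hZ q
  refine subsingleton_of_forall_eq 0 fun x => ?_
  have h1 : (Ext.mk₀ i).comp ((Ext.mk₀ r).comp x (zero_add _)) (zero_add _) = x := by
    rw [← Ext.comp_assoc_of_second_deg_zero, Ext.mk₀_comp_mk₀, h, Ext.mk₀_id_comp]
  rw [← h1, Subsingleton.elim ((Ext.mk₀ r).comp x (zero_add _)) 0, Ext.comp_zero]

end Retract

section Mono

variable {C : Type u} [SmallCategory C] {J : GrothendieckTopology C}

instance mono_G_map {Y X : Sheaf J (Type u)} (ι : Y ⟶ X) [Mono ι] : Mono ((G J).map ι) := by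
  have h1 : Mono ((sheafToPresheaf J (Type u)).map ι) := inferInstance
  have h2 : Mono (((Functor.whiskeringRight Cᵒᵖ (Type u) AddCommGrpCat.{u}).obj
      AddCommGrpCat.free.{u}).map ((sheafToPresheaf J (Type u)).map ι)) := by
    rw [NatTrans.mono_iff_mono_app] at h1 ⊢
    intro U
    have := h1 U
    exact AddCommGrpCat.free.{u}.map_mono _
  exact (presheafToSheaf J AddCommGrpCat.{u}).map_mono _

/-- `ℤ[X]/ℤ[Y]` is a retract of `ℤ[X/Y]`, hence acyclic for totally acyclic sheaves. -/
theorem acyc_cokernel_G_map (F : Sheaf J AddCommGrpCat.{u}) (hF : CohCx.IsTotallyAcyclic F)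
    {Y X : Sheaf J (Type u)} (ι : Y ⟶ X) [Mono ι] :
    AcyclicRes.Acyc.{u} F (cokernel ((G J).map ι)) := by
  have : PreservesColimitsOfSize.{0, 0} (G J) := (adjG J).leftAdjoint_preservesColimits
  let tY := terminal.from Y
  have sq : IsPushout ι tY (pushout.inl ι tY) (pushout.inr ι tY) := IsPushout.of_hasPushout _ _
  have Gsq := sq.map (G J)
  let π := cokernel.π ((G J).map ι)
  let r : (G J).obj (pushout ι tY) ⟶ cokernel ((G J).map ι) :=
    Gsq.desc π 0 (by rw [cokernel.condition, comp_zero])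
  have hr1 : (G J).map (pushout.inl ι tY) ≫ r = π := Gsq.inl_desc _ _ _
  have hr2 : (G J).map (pushout.inr ι tY) ≫ r = 0 := Gsq.inr_desc _ _ _
  let c : (G J).obj X ⟶ (G J).obj (pushout ι tY) :=
    (G J).map (pushout.inl ι tY) - (G J).map (terminal.from X) ≫ (G J).map (pushout.inr ι tY)
  have hc : (G J).map ι ≫ c = 0 := by
    dsimp only [c]
    rw [Preadditive.comp_sub, ← Functor.map_comp, ← Functor.map_comp_assoc,
      ← Functor.map_comp, sq.w, sub_eq_zero]
    congr 2
    exact Subsingleton.elim _ _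
  let i : cokernel ((G J).map ι) ⟶ (G J).obj (pushout ι tY) := cokernel.desc _ c hc
  have hi : i ≫ r = 𝟙 _ := by
    rw [← cancel_epi (cokernel.π ((G J).map ι)), cokernel.π_desc_assoc, Category.comp_id]
    dsimp only [c]
    rw [Preadditive.sub_comp, Category.assoc, hr1, hr2, comp_zero, sub_zero]
  exact acyc_of_retract i r hi (acyc_of_totallyAcyclic F hF _)

/-- **S3089**: restriction along a monomorphism of sheaves of sets is surjective on `H^0`
for totally acyclic sheaves. -/
theorem exists_extension (F : Sheaf J AddCommGrpCat.{u}) (hF : CohCx.IsTotallyAcyclic F)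
    {Y X : Sheaf J (Type u)} (ι : Y ⟶ X) [Mono ι] (s : (G J).obj Y ⟶ F) :
    ∃ t : (G J).obj X ⟶ F, (G J).map ι ≫ t = s := by
  have hS : (ShortComplex.mk ((G J).map ι) (cokernel.π ((G J).map ι))
      (cokernel.condition _)).ShortExact :=
    { exact := ShortComplex.exact_of_g_is_cokernel _ (cokernelIsCokernel _) }
  exact AcyclicRes.extend_of_ext_one hS F (acyc_cokernel_G_map F hF ι 0) s

end Mono

end Groth.Agent.Lib.Helper19.CechMono
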