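import Mathlib

set_option autoImplicit false

namespace Groth.Agent.Lib.Helper19.WidePB

open CategoryTheory Limits WithTerminal

universe w w' v₁ v₂ u₁ u₂

variable {C : Type u₁} [Category.{v₁} C] {D : Type u₂} [Category.{v₂} D]
variable {J : Type w} [Category.{w'} J] (F : C ⥤ D)

/-- converse of `PreservesLimitsOfShape.overPost` for a single diagram. -/
theorem preservesLimit_liftFromOver {X : C} (K : J ⥤ Over X)
    [PreservesLimit K (Over.post F (X := X))] :
    PreservesLimit (liftFromOver.obj K) F where
  preserves {c} hc := by
    let t : Cone K := coneEquiv.inverse.obj c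
    have ht : IsLimit t := isLimitEquiv (hc.ofIsoLimit (coneEquiv.counitIso.app c).symm)
    have h1 : IsLimit ((Over.post F).mapCone t) := isLimitOfPreserves _ ht
    have h2 : IsLimit (coneEquiv.functor.obj ((Over.post F).mapCone t)) := isLimitEquiv.symm h1
    have h3 := (IsLimit.postcomposeHomEquiv (liftFromOverComp (K := K) (F := F)) _).symm h2
    refine ⟨h3.ofIsoLimit (Cone.ext (Iso.refl _) ?_)⟩
    rintro (_|_)
    · exact (Category.comp_id _).trans (Category.id_comp _).symm
    · exact (Category.comp_id _).trans (Category.id_comp _).symm

/-- any diagram on `WithTerminal J` comes from a diagram in an over category. -/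
@[simps]
def toOver (G : WithTerminal J ⥤ C) : J ⥤ Over (G.obj star) where
  obj a := Over.mk (G.map (homFrom a))
  map {a b} f := Over.homMk (G.map (incl.map f)) (by
    dsimp
    rw [← G.map_comp]
    congr 1)
  map_id a := by
    apply Over.OverMorphism.ext
    show G.map (incl.map (𝟙 a)) = 𝟙 _
    rw [incl.map_id, G.map_id]
  map_comp f g := by
    apply Over.OverMorphism.ext
    show G.map (incl.map (f ≫ g)) = G.map (incl.map f) ≫ G.map (incl.map g)
    rw [incl.map_comp, G.map_comp]

/-- the comparison. -/
def liftToOverIso (G : WithTerminal J ⥤ C) : liftFromOver.obj (toOver G) ≅ G :=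
  NatIso.ofComponents (fun
    | WithTerminal.star => Iso.refl _
    | WithTerminal.of a => Iso.refl _) (by
    rintro (a|_) (b|_) f
    · dsimp
      erw [Category.comp_id, Category.id_comp]
      rfl
    · dsimp
      erw [Category.comp_id, Category.id_comp]
      rfl
    · exact f.elim
    · dsimp
      erw [Category.comp_id, Category.id_comp]
      exact (G.map_id _).symm)

/-- if all the functors `Over.post F` preserve limits of shape `J`, then `F` preserves limits
of shape `WithTerminal J`. -/
theorem preservesLimitsOfShape_withTerminal
    [∀ X : C, PreservesLimitsOfShape J (Over.post F (X := X))] :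
    PreservesLimitsOfShape (WithTerminal J) F where
  preservesLimit {G} := by
    have := preservesLimit_liftFromOver F (toOver G)
    exact preservesLimit_of_iso_diagram F (liftToOverIso G)

section Main

variable [HasFiniteWidePullbacks C] [PreservesLimitsOfShape WalkingCospan F]

omit [HasFiniteWidePullbacks C] [PreservesLimitsOfShape WalkingCospan F] in
theorem overPost_preservesTerminal (X : C) :
    PreservesLimitsOfShape (Discrete.{0} PEmpty) (Over.post F (X := X)) := by
  have hT : IsTerminal (Over.mk (𝟙 X)) := Over.mkIdTerminal
  have hT' : IsTerminal ((Over.post F (X := X)).obj (Over.mk (𝟙 X))) :=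
    IsTerminal.ofIso Over.mkIdTerminal (Over.isoMk (Iso.refl _) (by
      show 𝟙 (F.obj X) ≫ F.map (𝟙 X) = 𝟙 (F.obj X)
      rw [F.map_id, Category.comp_id]))
  have : PreservesLimit (Functor.empty.{0} (Over X)) (Over.post F (X := X)) :=
    preservesLimit_of_preserves_limit_cone hT
      ((isLimitMapConeEmptyConeEquiv (Over.post F (X := X)) (Over.mk (𝟙 X))).symm hT')
  exact preservesLimitsOfShape_pempty_of_preservesTerminal _

theorem overPost_preservesFiniteProducts (X : C) :
    PreservesFiniteProducts (Over.post F (X := X)) := by
  have : HasFiniteProducts (Over X) :=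
    Over.ConstructProducts.over_finiteProducts_of_finiteWidePullbacks
  have h0 : PreservesLimitsOfShape (WidePullbackShape WalkingPair) F :=
    (inferInstance : PreservesLimitsOfShape WalkingCospan F)
  have : PreservesLimitsOfShape (WithTerminal (Discrete WalkingPair)) F :=
    PreservesLimitsOfShape.ofWidePullbacks
  have : PreservesLimitsOfShape (Discrete WalkingPair) (Over.post F (X := X)) := inferInstance
  have := overPost_preservesTerminal F X
  exact PreservesFiniteProducts.of_preserves_binary_and_terminal _

/-- a functor preserving pullbacks preserves finite wide pullbacks. -/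
theorem preservesWidePullbacks (n : ℕ) : PreservesLimitsOfShape (WidePullbackShape (Fin n)) F := by
  have : ∀ X : C, PreservesLimitsOfShape (Discrete (Fin n)) (Over.post F (X := X)) :=
    fun X => (overPost_preservesFiniteProducts F X).preserves n
  have := preservesLimitsOfShape_withTerminal (J := Discrete (Fin n)) F
  exact preservesLimitsOfShape_of_equiv WithTerminal.widePullbackShapeEquiv.symm F

end Main

end Groth.Agent.Lib.Helper19.WidePB
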