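import Mathlib
import Groth.Prelude.Def_CohSite
import Groth.Agent.Lib.Helper19.CechPush
import Groth.Agent.Lib.Helper19.WidePB

set_option autoImplicit false

namespace Groth.Agent.Lib.Helper19.CechPush

open CategoryTheory Limits Opposite Abelian AlgebraicTopology
open Groth.Agent.Lib.Helper19.CechHom Groth.Agent.Lib.Helper19.CechAcyclic
  Groth.Agent.Lib.Helper19.CechTop

universe u

variable {C D : Type u} [SmallCategory C] [SmallCategory D]
  (J : GrothendieckTopology C) (K : GrothendieckTopology D) (u : D ⥤ C) [u.IsContinuous K J]

section KeyLemma2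

variable [∀ n : ℕ, PreservesLimitsOfShape (WidePullbackShape (Fin (n + 1))) (uT J K u)]

/-- the pullback of the free Čech complex of `f` is the free Čech complex of the pullback
(only wide pullbacks need to be preserved). -/
noncomputable def freeCxPullbackIso' {L' L : Sheaf K (Type u)} (f : L' ⟶ L) :
    ((uA J K u).mapHomologicalComplex _).obj (freeCx f) ≅ freeCx ((uT J K u).map f) :=
  eqToIso (CechNerve.altMap_eq (uA J K u) _).symm ≪≫
    (alternatingFaceMapComplex _).mapIso
      (Functor.isoWhiskerLeft (Arrow.mk f).cechNerve (GuIso J K u) ≪≫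
        Functor.isoWhiskerRight (CechNerve.cechMapIsoLeft (uT J K u) (Arrow.mk f)) (G J))

/-- the direct image of a Čech-acyclic sheaf along a continuous functor whose
pullback on sheaves of sets preserves finite wide pullbacks is Čech-acyclic. -/
theorem cechAcyc_push' (F : Sheaf J AddCommGrpCat.{u}) (hF : CechAcyc F) :
    CechAcyc ((CohSite.push J K u).obj F) := by
  intro L' L f hf q
  have : (uT J K u).PreservesEpimorphisms :=
    Functor.preservesEpimorphisms_of_adjunction (adjT J K u)
  have : Epi ((uT J K u).map f) := (uT J K u).map_epi f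
  exact homExact_of_adjunction (adjA J K u) (freeCx f) F q
    (homExact_of_iso (freeCxPullbackIso' J K u f) F q (hF _ _ ((uT J K u).map f) this q))

end KeyLemma2

/-- version assuming only that the pullback on sheaves of sets preserves pullbacks. -/
theorem cechAcyc_push_of_preservesPullbacks
    [PreservesLimitsOfShape WalkingCospan (uT J K u)]
    (F : Sheaf J AddCommGrpCat.{u}) (hF : CechAcyc F) :
    CechAcyc ((CohSite.push J K u).obj F) := by
  have : ∀ n : ℕ, PreservesLimitsOfShape (WidePullbackShape (Fin (n + 1))) (uT J K u) :=
    fun n => WidePB.preservesWidePullbacks (uT J K u) (n + 1)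
  exact cechAcyc_push' J K u F hF

end Groth.Agent.Lib.Helper19.CechPush
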