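import Mathlib
import Groth.Prelude.Def_CohSite
import Groth.Agent.Lib.Helper19.CechPush
import Groth.Agent.S6178

set_option autoImplicit false

namespace Groth.Agent.Lib.Helper19.CechPushHU

open CategoryTheory Limits Opposite Abelian
open Groth.Agent.Lib.Helper19.CechHom Groth.Agent.Lib.Helper19.CechAcyclic
  Groth.Agent.Lib.Helper19.CechTop Groth.Agent.Lib.Helper19.CechPush

universe u

section HU

variable {C : Type u} [SmallCategory C] (J : GrothendieckTopology C)

/-- the free sheaf on an object is the free sheaf on the sheafified representable. -/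
noncomputable def freeSheafIso (U : C) :
    CohCx.freeSheaf J U ≅ (G J).obj ((presheafToSheaf J (Type u)).obj (yoneda.obj U)) :=
  ((presheafToSheafCompComposeAndSheafifyIso J AddCommGrpCat.free.{u}).app (yoneda.obj U)).symm

variable {J}

/-- totally acyclic sheaves are acyclic on objects. -/
theorem hu_subsingleton_of_isTotallyAcyclic (F : Sheaf J AddCommGrpCat.{u})
    (hF : CohCx.IsTotallyAcyclic F) (U : C) (q : ℕ) :
    Subsingleton (Ext.{u} (CohCx.freeSheaf J U) F (q + 1)) :=
  AcyclicRes.acyc_of_iso (freeSheafIso J U).symm (acyc_of_totallyAcyclic F hF _) q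

end HU

section Push

variable {C D : Type u} [SmallCategory C] [SmallCategory D]
  (J : GrothendieckTopology C) (K : GrothendieckTopology D) (u : D ⥤ C) [u.IsContinuous K J]

/-- acyclic on all objects of the site. -/
def ObjAcyc {C : Type u} [SmallCategory C] (J : GrothendieckTopology C)
    (F : Sheaf J AddCommGrpCat.{u}) : Prop :=
  ∀ (U : C) (q : ℕ), Subsingleton (Ext.{u} (CohCx.freeSheaf J U) F (q + 1))

theorem isTotallyAcyclic_of_injective (I : Sheaf J AddCommGrpCat.{u}) [Injective I] :
    CohCx.IsTotallyAcyclic I :=
  fun _ _ => subsingleton_of_forall_eq 0 fun e => Ext.eq_zero_of_injective e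

theorem push_injective_objAcyc [PreservesFiniteLimits (uT J K u)]
    (I : Sheaf J AddCommGrpCat.{u}) [Injective I] :
    ObjAcyc K ((CohSite.push J K u).obj I) := fun V q =>
  hu_subsingleton_of_isTotallyAcyclic _
    (isTotallyAcyclic_of_cechAcyc _ (cechAcyc_push J K u I
      (cechAcyc_of_isTotallyAcyclic I (isTotallyAcyclic_of_injective J I)))) V q

variable {J}

theorem sections_surjective (F : Sheaf J AddCommGrpCat.{u}) (hF : ObjAcyc J F) (U : C) :
    Function.Surjective ((injSeq F).g.hom.app (op U)).hom :=
  (Groth.Agent.S6178.freeSheaf_lift_iff_surjective J U (injSeq F).g).mp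
    (ExtShift.lift_of_ext_one_subsingleton (CohCx.freeSheaf J U) (injSeq_shortExact F) (hF U 0))

theorem objAcyc_quotient (F : Sheaf J AddCommGrpCat.{u}) (hF : ObjAcyc J F) :
    ObjAcyc J (injSeq F).X₃ := fun U q =>
  ExtShift.ext_succ_subsingleton_of_succ_succ (CohCx.freeSheaf J U) (injSeq_shortExact F) q
    (hF U (q + 1))

variable (J)

theorem push_shortExact (F : Sheaf J AddCommGrpCat.{u}) (hF : ObjAcyc J F) :
    ((injSeq F).map (CohSite.push J K u)).ShortExact := by
  have hS := injSeq_shortExact F
  have := hS.mono_f
  have hlim : PreservesLimitsOfSize.{0, 0} (CohSite.push J K u) :=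
    (adjA J K u).rightAdjoint_preservesLimits
  have hmono : (CohSite.push J K u).PreservesMonomorphisms :=
    Functor.preservesMonomorphisms_of_adjunction (adjA J K u)
  have hex : ((injSeq F).map (CohSite.push J K u)).Exact :=
    hS.exact.map_of_mono_of_preservesKernel _ hS.mono_f inferInstance
  have hm : Mono ((injSeq F).map (CohSite.push J K u)).f :=
    (CohSite.push J K u).map_mono _
  have he : Epi ((injSeq F).map (CohSite.push J K u)).g := by
    rw [← Sheaf.isLocallySurjective_iff_epi']
    apply Presheaf.isLocallySurjective_of_surjective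
    intro V
    exact sections_surjective F hF (u.obj V.unop)
  exact ShortComplex.ShortExact.mk' hex hm he

/-- **S6166**: direct image preserves acyclicity on objects. -/
theorem push_objAcyc [PreservesFiniteLimits (uT J K u)] : ∀ (q : ℕ)
    (F : Sheaf J AddCommGrpCat.{u}), ObjAcyc J F → ∀ V : D,
    Subsingleton (Ext.{u} (CohCx.freeSheaf K V) ((CohSite.push J K u).obj F) (q + 1))
  | 0, F, hF, V => by
    refine ExtShift.ext_one_subsingleton_of_lift' (CohCx.freeSheaf K V)
      (push_shortExact J K u F hF) (push_injective_objAcyc J K u _ V 0) ?_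
    exact (Groth.Agent.S6178.freeSheaf_lift_iff_surjective K V
      ((injSeq F).map (CohSite.push J K u)).g).mpr (sections_surjective F hF (u.obj V))
  | q + 1, F, hF, V =>
    ExtShift.ext_succ_succ_subsingleton' (CohCx.freeSheaf K V)
      (push_shortExact J K u F hF) q (push_injective_objAcyc J K u _ V (q + 1))
      (push_objAcyc q (injSeq F).X₃ (objAcyc_quotient F hF) V)

end Push

end Groth.Agent.Lib.Helper19.CechPushHU
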