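import Mathlib
import Groth.Prelude.Def_CohSite
import Groth.Agent.Lib.Helper19.CechPush
import Groth.Agent.Lib.Helper68.JShriekSheaf

set_option autoImplicit false

namespace Groth.Agent.Lib.Helper19.CechRestr

open CategoryTheory Limits Opposite Abelian
open Groth.Agent.Lib.Helper19.CechHom Groth.Agent.Lib.Helper19.CechAcyclic
  Groth.Agent.Lib.Helper19.CechTop Groth.Agent.Lib.Helper19.CechPush

universe u

variable {C : Type u} [SmallCategory C] (J : GrothendieckTopology C) (X : C)

/-- restriction to the slice site. -/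
noncomputable abbrev r : Sheaf J AddCommGrpCat.{u} ⥤ Sheaf (J.over X) AddCommGrpCat.{u} :=
  CohSite.push J (J.over X) (Over.forget X)

instance r_injective (I : Sheaf J AddCommGrpCat.{u}) [Injective I] : Injective ((r J X).obj I) :=
  Injective.injective_of_adjoint (Groth.Agent.Lib.Helper68.JShriek.adj J X AddCommGrpCat.{u}) I

theorem isTotallyAcyclic_quotient (F : Sheaf J AddCommGrpCat.{u})
    (hF : CohCx.IsTotallyAcyclic F) : CohCx.IsTotallyAcyclic (injSeq F).X₃ := fun K q =>
  ExtShift.ext_succ_subsingleton_of_succ_succ ((G J).obj K) (injSeq_shortExact F) q (hF K (q + 1))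

theorem r_shortExact (F : Sheaf J AddCommGrpCat.{u}) :
    ((injSeq F).map (r J X)).ShortExact := by
  have hS := injSeq_shortExact F
  have h1 : PreservesLimitsOfSize.{0, 0} (r J X) :=
    (adjA J (J.over X) (Over.forget X)).rightAdjoint_preservesLimits
  have h2 : PreservesColimitsOfSize.{0, 0} (r J X) :=
    ((Over.forget X).sheafAdjunctionCocontinuous AddCommGrpCat.{u} (J.over X)
      J).leftAdjoint_preservesColimits
  have h3 : PreservesFiniteLimits (r J X) := PreservesLimitsOfSize.preservesFiniteLimits _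
  have h4 : PreservesFiniteColimits (r J X) := PreservesColimitsOfSize.preservesFiniteColimits _
  exact hS.map_of_exact (r J X)

/-- restriction of totally acyclic sheaves to a slice site. -/
theorem restr_ext_subsingleton : ∀ (q : ℕ) (F : Sheaf J AddCommGrpCat.{u}),
    CohCx.IsTotallyAcyclic F → ∀ L : Sheaf (J.over X) (Type u),
    Subsingleton (Ext.{u} ((G (J.over X)).obj L) ((r J X).obj F) (q + 1))
  | 0, F, hF, L => by
    have hS' := r_shortExact J X F
    have : Injective ((injSeq F).map (r J X)).X₂ :=
      inferInstanceAs (Injective ((r J X).obj (injSeq F).X₂))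
    refine ExtShift.ext_one_subsingleton_of_lift ((G (J.over X)).obj L) hS' ?_
    intro φ
    let adj := adjA J (J.over X) (Over.forget X)
    let e := (GuIso J (J.over X) (Over.forget X)).app L
    let φ' : (G J).obj ((uT J (J.over X) (Over.forget X)).obj L) ⟶ (injSeq F).X₃ :=
      e.inv ≫ (adj.homEquiv _ _).symm φ
    obtain ⟨ψ', hψ'⟩ := ExtShift.lift_of_ext_one_subsingleton
      ((G J).obj ((uT J (J.over X) (Over.forget X)).obj L)) (injSeq_shortExact F) (hF _ 0) φ'
    refine ⟨adj.homEquiv _ _ (e.hom ≫ ψ'), ?_⟩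
    have h1 : adj.homEquiv _ _ (e.hom ≫ ψ') ≫ (r J X).map (injSeq F).g =
        adj.homEquiv _ _ ((e.hom ≫ ψ') ≫ (injSeq F).g) :=
      (Adjunction.homEquiv_naturality_right adj _ _).symm
    have h2 : (e.hom ≫ ψ') ≫ (injSeq F).g = (adj.homEquiv _ _).symm φ := by
      rw [Category.assoc, hψ', Iso.hom_inv_id_assoc]
    exact h1.trans ((congrArg (adj.homEquiv _ _) h2).trans (Equiv.apply_symm_apply _ _))
  | q + 1, F, hF, L => by
    have hS' := r_shortExact J X F
    have : Injective ((injSeq F).map (r J X)).X₂ :=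
      inferInstanceAs (Injective ((r J X).obj (injSeq F).X₂))
    exact ExtShift.ext_succ_succ_subsingleton ((G (J.over X)).obj L) hS' q
      (restr_ext_subsingleton q (injSeq F).X₃ (isTotallyAcyclic_quotient J F hF) L)

/-- **S3094**. -/
theorem isTotallyAcyclic_restr (F : Sheaf J AddCommGrpCat.{u}) (hF : CohCx.IsTotallyAcyclic F) :
    CohCx.IsTotallyAcyclic ((r J X).obj F) :=
  fun L q => restr_ext_subsingleton J X q F hF L

end Groth.Agent.Lib.Helper19.CechRestr
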