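import Mathlib
import Groth.Agent.Lib.Helper19.CechRestr
import Groth.Agent.Lib.Cohomology.Helper4_ExtCompare
import Groth.Agent.Lib.Cohomology.helper5_SiteH

set_option autoImplicit false

namespace Groth.Agent.Lib.Helper19.CechRestr

open CategoryTheory Limits Opposite Abelian
open Groth.Agent.Lib.Helper19.CechPush

universe u

variable {C : Type u} [SmallCategory C] (J : GrothendieckTopology C) (X : C)

theorem r_map_shortExact (S : ShortComplex (Sheaf J AddCommGrpCat.{u})) (hS : S.ShortExact) :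
    (S.map (r J X)).ShortExact := by
  have h1 : PreservesLimitsOfSize.{0, 0} (r J X) :=
    (adjA J (J.over X) (Over.forget X)).rightAdjoint_preservesLimits
  have h2 : PreservesColimitsOfSize.{0, 0} (r J X) :=
    ((Over.forget X).sheafAdjunctionCocontinuous AddCommGrpCat.{u} (J.over X)
      J).leftAdjoint_preservesColimits
  have h3 : PreservesFiniteLimits (r J X) := PreservesLimitsOfSize.preservesFiniteLimits _
  have h4 : PreservesFiniteColimits (r J X) := PreservesColimitsOfSize.preservesFiniteColimits _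
  exact hS.map_of_exact (r J X)

/-- the terminal object of the slice. -/
noncomputable def hT : IsTerminal (Over.mk (𝟙 X)) := Over.mkIdTerminal

/-- global sections on the slice are sections over `X`. -/
noncomputable def secEquiv (F : Sheaf J AddCommGrpCat.{u}) :
    Sheaf.H.{u} ((r J X).obj F) 0 ≃+ F.obj.obj (op X) :=
  Sheaf.H.equiv₀ ((r J X).obj F) (hT X)

theorem secEquiv_naturality {F G' : Sheaf J AddCommGrpCat.{u}} (g : F ⟶ G')
    (x : Sheaf.H.{u} ((r J X).obj F) 0) :
    (g.hom.app (op X)).hom (secEquiv J X F x) =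
      secEquiv J X G' (x.comp (Ext.mk₀ ((r J X).map g)) (add_zero 0)) :=
  Sheaf.H.equiv₀_naturality (hT := hT X) ((r J X).map g) x

/-- degree zero comparison. -/
noncomputable def e0 (F : Sheaf J AddCommGrpCat.{u}) :
    Ext.{u} (CohCx.freeSheaf J X) F 0 ≃+ Sheaf.H.{u} ((r J X).obj F) 0 :=
  (Groth.Agent.Lib.Cohomology.SiteH.sectionsEquivH0 J F X).symm.trans (secEquiv J X F).symm

theorem e0_apply (F : Sheaf J AddCommGrpCat.{u}) (s : F.obj.obj (op X)) :
    e0 J X F (Groth.Agent.Lib.Cohomology.SiteH.sectionsEquivH0 J F X s) =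
      (secEquiv J X F).symm s := by
  show (secEquiv J X F).symm ((Groth.Agent.Lib.Cohomology.SiteH.sectionsEquivH0 J F X).symm
    (Groth.Agent.Lib.Cohomology.SiteH.sectionsEquivH0 J F X s)) = _
  rw [AddEquiv.symm_apply_apply]

theorem e0_comp {F G' : Sheaf J AddCommGrpCat.{u}} (g : F ⟶ G')
    (x : Ext.{u} (CohCx.freeSheaf J X) F 0) :
    e0 J X G' (x.comp (Ext.mk₀ g) (add_zero 0)) =
      (e0 J X F x).comp (Ext.mk₀ ((r J X).map g)) (add_zero 0) := by
  obtain ⟨s, rfl⟩ := (Groth.Agent.Lib.Cohomology.SiteH.sectionsEquivH0 J F X).surjective x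
  rw [← Groth.Agent.Lib.Cohomology.SiteH.sectionsEquivH0_naturality, e0_apply, e0_apply]
  apply (secEquiv J X G').injective
  rw [AddEquiv.apply_symm_apply, ← secEquiv_naturality, AddEquiv.apply_symm_apply]

/-- **S0482**: cohomology over an object is cohomology of the slice site. -/
theorem HU_equiv_H_over (F : Sheaf J AddCommGrpCat.{u}) (n : ℕ) :
    Nonempty (CohSite.HU F n X ≃+ Sheaf.H.{u} ((r J X).obj F) n) := by
  have hacyc : ∀ (I : Sheaf J AddCommGrpCat.{u}) [Injective I] (n : ℕ),
      Subsingleton (Ext.{u} ((constantSheaf (J.over X) AddCommGrpCat.{u}).obj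
        (AddCommGrpCat.of (ULift ℤ))) ((r J X).obj I) (n + 1)) :=
    fun I _ n => subsingleton_of_forall_eq 0 fun e => Ext.eq_zero_of_injective e
  exact Groth.Agent.Lib.Cohomology.ext_comparison.{u, u, u, u, u + 1, u + 1}
    (𝒜 := Sheaf J AddCommGrpCat.{u}) (ℬ := Sheaf (J.over X) AddCommGrpCat.{u}) (r J X)
    (r_map_shortExact J X) (CohCx.freeSheaf J X)
    ((constantSheaf (J.over X) AddCommGrpCat.{u}).obj (AddCommGrpCat.of (ULift ℤ)))
    (e0 J X) (fun g x => e0_comp J X g x) hacyc n F

end Groth.Agent.Lib.Helper19.CechRestr
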