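import Mathlib
import Groth.Agent.Lib.Helper19.CechMod
import Groth.Agent.Lib.Helper94.ModFlat

set_option autoImplicit false

namespace Groth.Agent.Lib.Helper19.CechSheafHom

open CategoryTheory Limits AlgebraicTopology Opposite Simplicial
open Groth.Agent.Lib.Helper19.CechNerve Groth.Agent.Lib.Helper19.CechHom
  Groth.Agent.Lib.Helper19.CechAcyclic Groth.Agent.Lib.Helper19.CechMod
  Groth.Agent.Lib.Helper19.AcyclicRes

universe u

section Abstract

variable {𝒜 : Type*} [Category 𝒜] [Abelian 𝒜] (Good : 𝒜 → Prop) (H : 𝒜)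
  (hK : ∀ S : ShortComplex 𝒜, S.ShortExact → Good S.X₂ → Good S.X₃ → Good S.X₁)
  (hE : ∀ S : ShortComplex 𝒜, S.ShortExact → Good S.X₃ →
    ∀ ψ : S.X₁ ⟶ H, ∃ χ : S.X₂ ⟶ H, S.f ≫ χ = ψ)

omit H in
theorem sesC_shortExact' {P : ChainComplex 𝒜 ℕ} (hP : ∀ n, P.ExactAt (n + 1)) (n : ℕ) :
    (sesC P n).ShortExact := by
  apply cosyz_shortExact
  have := (HomologicalComplex.exactAt_iff' P (n + 2) (n + 1) n (by simp) (by simp)).mp (hP n)
  exact this

include hK in
theorem good_Zc {P : ChainComplex 𝒜 ℕ} (hP : ∀ n, P.ExactAt (n + 1)) (hX : ∀ n, Good (P.X n))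
    (h0 : Good (Zc P 0)) (n : ℕ) : Good (Zc P n) := by
  induction n with
  | zero => exact h0
  | succ n ih => exact hK (sesC P n) (sesC_shortExact' hP n) (hX n) ih

include hK hE in
/-- **Hom-exactness, relative version**: for an exact complex `P` (in positive degrees) of
good objects with good `H_0`, the complex `Hom(P, H)` is exact in positive degrees provided
`H` has the extension property along monomorphisms with good cokernel. -/
theorem hom_exact_gen {P : ChainComplex 𝒜 ℕ} (hP : ∀ n, P.ExactAt (n + 1))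
    (hX : ∀ n, Good (P.X n)) (h0 : Good (Zc P 0)) (n : ℕ) (x : P.X (n + 1) ⟶ H)
    (hx : P.d (n + 2) (n + 1) ≫ x = 0) : ∃ y : P.X n ⟶ H, P.d (n + 1) n ≫ y = x := by
  obtain ⟨χ, hχ⟩ := hE (sesC P n) (sesC_shortExact' hP n) (good_Zc Good hK hP hX h0 n)
    (cokernel.desc _ x hx)
  let χ' : P.X n ⟶ H := χ
  have hχ' : cokernel.desc (P.d (n + 2) (n + 1)) (P.d (n + 1) n) (P.d_comp_d _ _ _) ≫ χ' =
      cokernel.desc _ x hx := hχ
  refine ⟨χ', ?_⟩
  have h1 : P.d (n + 1) n = cokernel.π (P.d (n + 2) (n + 1)) ≫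
      cokernel.desc (P.d (n + 2) (n + 1)) (P.d (n + 1) n) (P.d_comp_d _ _ _) :=
    (cokernel.π_desc _ _ _).symm
  rw [h1, Category.assoc, hχ', cokernel.π_desc]

include hK hE in
theorem hom_exact_gen_of_quasiIso (hI : ∀ {Z Z' : 𝒜}, (Z ≅ Z') → Good Z → Good Z')
    {P : ChainComplex 𝒜 ℕ} {M : 𝒜} (π : P ⟶ (ChainComplex.single₀ 𝒜).obj M) [QuasiIso π]
    (hX : ∀ n, Good (P.X n)) (hM : Good M) (n : ℕ) (x : P.X (n + 1) ⟶ H)
    (hx : P.d (n + 2) (n + 1) ≫ x = 0) : ∃ y : P.X n ⟶ H, P.d (n + 1) n ≫ y = x :=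
  hom_exact_gen Good H hK hE (exactAt_succ_of_quasiIso π) hX (hI (cokerIso π).symm hM) n x hx

end Abstract

section SheafHom

open ModSite Groth.Agent.Lib.Helper94.ModFlat Groth.Agent.Lib.Helper94.ModTensor
  Groth.Agent.Lib.Helper94.ModTensorW

variable {C : Type u} [SmallCategory C] {J : GrothendieckTopology C}
  (O : Sheaf J CommRingCat.{u})

theorem isFlat_of_iso {N N' : Mod O} (e : N ≅ N') (h : IsFlat N) : IsFlat N' := by
  obtain ⟨h1, h2⟩ := h
  have e' : tensR O N ≅ tensR O N' := (tensorBi O).flip.mapIso e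
  exact ⟨preservesFiniteLimits_of_natIso e', preservesFiniteColimits_of_natIso e'⟩

/-- free modules on sheaves of sets are flat. -/
theorem isFlat_GO (K : Sheaf J (Type u)) : IsFlat ((GO (ringSh O)).obj K) := by
  refine isFlat_shf O ((PresheafOfModules.free _).obj K.obj) ?_
  intro X
  change Module.Flat (O.obj.obj X) (K.obj.obj X →₀ O.obj.obj X)
  infer_instance

/-- the internal hom into an injective has the extension property along monomorphisms with
flat cokernel. -/
theorem extend_sheafHom (F G : Mod O) [HasSheafHom F] [Injective G] (S : ShortComplex (Mod O))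
    (hS : S.ShortExact) (hF : IsFlat S.X₃) (ψ : S.X₁ ⟶ (sheafHom F).obj G) :
    ∃ χ : S.X₂ ⟶ (sheafHom F).obj G, S.f ≫ χ = ψ := by
  let adj := sheafHomAdj F
  have hS' := shortExact_map_tensR_of_isFlat_X₃ O S hS hF F
  have : Mono ((tensR O F).map S.f) := hS'.mono_f
  let ψ' : (tensR O F).obj S.X₁ ⟶ G := (adj.homEquiv _ _).symm ψ
  refine ⟨adj.homEquiv _ _ (Injective.factorThru ψ' ((tensR O F).map S.f)), ?_⟩
  rw [← Adjunction.homEquiv_naturality_left, Injective.comp_factorThru, Equiv.apply_symm_apply]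

/-- **S6150**: the abelian sheaf underlying `Hom_O(F, G)` with `G` injective is Čech-acyclic. -/
theorem cechAcyc_sheafHom (F G : Mod O) [HasSheafHom F] [Injective G] :
    CechAcyc (toAb ((sheafHom F).obj G)) := by
  intro K' K f hf q
  refine homExact_transfer (SheafOfModules.toSheaf (ringSh O)) (freeCx f) (freeCxO (ringSh O) f)
    (fun n => (cmp (ringSh O)).app ((Arrow.mk f).cechNerve.obj (op ⦋n⦌)))
    (fun n => alt_comm (Arrow.mk f).cechNerve (CechHom.G J) (GO (ringSh O))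
      (SheafOfModules.toSheaf (ringSh O)) (cmp (ringSh O)) n) ((sheafHom F).obj G)
    (fun n => cmp_bijective (ringSh O) _ _) q ?_
  intro x hx
  exact hom_exact_gen_of_quasiIso (fun N : Mod O => IsFlat N) ((sheafHom F).obj G)
    (fun S hS h2 h3 => isFlat_X₁ O S hS h2 h3)
    (fun S hS h3 ψ => extend_sheafHom O F G S hS h3 ψ)
    (fun e h => isFlat_of_iso O e h)
    (freeAugO (ringSh O) f) (fun n => isFlat_GO O _) (isFlat_GO O K) q x hx

theorem isTotallyAcyclic_sheafHom (F G : Mod O) [HasSheafHom F] [Injective G] :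
    CohCx.IsTotallyAcyclic (toAb ((sheafHom F).obj G)) :=
  isTotallyAcyclic_of_cechAcyc _ (cechAcyc_sheafHom O F G)

end SheafHom

end Groth.Agent.Lib.Helper19.CechSheafHom
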