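import Mathlib
import Groth.Agent.S6178
import Groth.Agent.Lib.Cohomology.helper5_SiteLeray

/-!
# Čech cohomology of a family computes presheaf-`Ext` out of the generated sieve (helper19, S6174)

Adaptation of helper5's Leray theorem to the trivial topology.
-/

set_option autoImplicit false

namespace Groth.Agent.Lib.Helper19.CechSieve

open CategoryTheory Limits Opposite Abelian
open Groth.Agent.Lib.Cohomology.SiteCech Groth.Agent.Lib.Cohomology.ExtShift
open Groth.Agent.S6178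

universe u

variable {C : Type u} [SmallCategory C] [HasPullbacks C] {X : C} {ι : Type u} (Y : ι → Over X)

/-- the sieve generated by the family -/
abbrev RY : Sieve X := Sieve.ofArrows (fun i => (Y i).left) (fun i => (Y i).hom)

theorem mem_of_tup {W : Over X} (t : Tup Y W) : (RY Y) W.hom :=
  (Sieve.mem_ofArrows_iff _ _ _).2 ⟨t.1, t.2.left, (Over.w t.2).symm⟩

theorem nonempty_tup {V : C} (f : V ⟶ X) (hf : (RY Y) f) : Nonempty (Tup Y (Over.mk f)) := by
  obtain ⟨i, a, h⟩ := (Sieve.mem_ofArrows_iff _ _ _).1 hf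
  exact ⟨⟨i, Over.homMk a h.symm⟩⟩

theorem mem_inter (i : Fin 1 → ι) : (RY Y) (inter Y i).hom :=
  mem_of_tup Y (W := inter Y i) ⟨i 0, Pi.π (Y ∘ i) 0⟩

variable (P : Cᵒᵖ ⥤ AddCommGrpCat.{u})

/-- value of a natural family at an arrow of the sieve. -/
def val (τ : (RY Y).functor ⟶ P ⋙ forget AddCommGrpCat.{u}) {V : C} (f : V ⟶ X)
    (hf : (RY Y) f) : P.obj (op V) :=
  τ.app (op V) ⟨f, hf⟩

theorem val_congr (τ : (RY Y).functor ⟶ P ⋙ forget AddCommGrpCat.{u}) {V : C} {f f' : V ⟶ X}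
    (h : f = f') (hf : (RY Y) f) (hf' : (RY Y) f') : val Y P τ f hf = val Y P τ f' hf' := by
  subst h
  rfl

theorem val_map (τ : (RY Y).functor ⟶ P ⋙ forget AddCommGrpCat.{u}) {V V' : C} (h : V' ⟶ V)
    (f : V ⟶ X) (hf : (RY Y) f) :
    P.map h.op (val Y P τ f hf) = val Y P τ (h ≫ f) ((RY Y).downward_closed hf h) :=
  (NatTrans.naturality_apply τ h.op (⟨f, hf⟩ : (RY Y).functor.obj (op V))).symm

/-- the `0`-cochain of a natural family over the sieve. -/
noncomputable def natToC0 (τ : (RY Y).functor ⟶ P ⋙ forget AddCommGrpCat.{u}) :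
    (cx (overRestr P X) Y).X 0 :=
  (cochEquiv (overRestr P X) Y 0).symm
    (fun i => (val Y P τ (inter Y i).hom (mem_inter Y i) :
      (overRestr P X).obj (op (inter Y i))))

theorem ev_natToC0 (τ : (RY Y).functor ⟶ P ⋙ forget AddCommGrpCat.{u}) (W : Over X)
    (σ : Fin 1 → Tup Y W) :
    ev (overRestr P X) Y 0 W σ (natToC0 Y P τ) = val Y P τ W.hom (mem_of_tup Y (σ 0)) := by
  rw [ev_apply, natToC0, proj_cochEquiv_symm]
  refine (val_map Y P τ (tupLift Y σ).left _ _).trans ?_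
  exact val_congr Y P τ (Over.w (tupLift Y σ)) _ _

theorem natToC0_d (τ : (RY Y).functor ⟶ P ⋙ forget AddCommGrpCat.{u}) :
    (cx (overRestr P X) Y).d 0 1 (natToC0 Y P τ) = 0 := by
  apply cx_ext_ev
  intro W σ
  rw [map_zero, ev_d, Fin.sum_univ_succ, Fin.sum_univ_succ, Fin.sum_univ_zero,
    ev_natToC0, ev_natToC0]
  have key : ∀ a : (overRestr P X).obj (op W), (-1 : ℤ) ^ ((0 : Fin 2) : ℕ) • a +
      ((-1 : ℤ) ^ ((Fin.succ 0 : Fin 2) : ℕ) • a + 0) = 0 := by
    intro a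
    simp only [Fin.val_zero, pow_zero, Fin.val_succ, zero_add, pow_one, add_zero]
    rw [one_zsmul, neg_zsmul, one_zsmul, add_neg_cancel]
  exact key _

theorem natToC0_injective (τ τ' : (RY Y).functor ⟶ P ⋙ forget AddCommGrpCat.{u})
    (h : natToC0 Y P τ = natToC0 Y P τ') : τ = τ' := by
  ext V ⟨f, hf⟩
  obtain ⟨t⟩ := nonempty_tup Y f hf
  have h1 := ev_natToC0 Y P τ (Over.mk f) (tup1 Y t)
  have h2 := ev_natToC0 Y P τ' (Over.mk f) (tup1 Y t)
  rw [h] at h1
  exact h1.symm.trans h2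

/-- the natural family over the sieve attached to a `0`-cocycle. -/
noncomputable def natOfCocycle (x : (cx (overRestr P X) Y).X 0)
    (hx : (cx (overRestr P X) Y).d 0 1 x = 0) :
    (RY Y).functor ⟶ P ⋙ forget AddCommGrpCat.{u} where
  app V := ↾fun a => (ev (overRestr P X) Y 0 (Over.mk a.1)
    (tup1 Y (nonempty_tup Y a.1 a.2).some) x : P.obj (op V.unop))
  naturality V V' h := by
    ext ⟨f, hf⟩
    let g : Over.mk (h.unop ≫ f) ⟶ Over.mk f := Over.homMk (U := Over.mk (h.unop ≫ f))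
      (V := Over.mk f) h.unop rfl
    have h1 := ev_map (overRestr P X) Y 0 g (tup1 Y (nonempty_tup Y f hf).some) x
    have h2 := ev_cocycle_indep Y x hx (Over.mk (h.unop ≫ f))
      (nonempty_tup Y (h.unop ≫ f) ((RY Y).downward_closed hf h.unop)).some
      ⟨(nonempty_tup Y f hf).some.1, g ≫ (nonempty_tup Y f hf).some.2⟩
    exact h2.trans h1.symm

theorem val_natOfCocycle (x : (cx (overRestr P X) Y).X 0)
    (hx : (cx (overRestr P X) Y).d 0 1 x = 0) {V : C} (f : V ⟶ X) (hf : (RY Y) f)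
    (t : Tup Y (Over.mk f)) :
    val Y P (natOfCocycle Y P x hx) f hf = ev (overRestr P X) Y 0 (Over.mk f) (tup1 Y t) x :=
  ev_cocycle_indep Y x hx (Over.mk f) _ _

theorem natToC0_natOfCocycle (x : (cx (overRestr P X) Y).X 0)
    (hx : (cx (overRestr P X) Y).d 0 1 x = 0) : natToC0 Y P (natOfCocycle Y P x hx) = x := by
  apply cx_ext_ev
  intro W σ
  rw [ev_natToC0, eq_tup1 Y σ]
  exact val_natOfCocycle Y P x hx W.hom _ (σ 0)

section Sheaf

variable (G : PSh C)

/-- the universal natural family. -/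
noncomputable def gen : (RY Y).functor ⟶ (ZR (RY Y)).obj ⋙ forget AddCommGrpCat.{u} :=
  homEquivNat (RY Y) (ZR (RY Y)) (𝟙 _)

theorem homEquivNat_eq (ψ : ZR (RY Y) ⟶ G) :
    homEquivNat (RY Y) G ψ = gen Y ≫ Functor.whiskerRight ψ.hom (forget _) := by
  have := homEquivNat_comp (RY Y) (𝟙 _) ψ
  rwa [Category.id_comp] at this

theorem val_homEquivNat (ψ : ZR (RY Y) ⟶ G) {V : C} (f : V ⟶ X) (hf : (RY Y) f) :
    val Y G.obj (homEquivNat (RY Y) G ψ) f hf =
      (ψ.hom.app (op V)).hom (val Y (ZR (RY Y)).obj (gen Y) f hf) := by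
  unfold val
  rw [homEquivNat_eq]
  rfl

/-- the `0`-cochain of a morphism out of the free presheaf on the sieve. -/
noncomputable def toC0 (ψ : ZR (RY Y) ⟶ G) : (cx (overRestr G.obj X) Y).X 0 :=
  natToC0 Y G.obj (homEquivNat (RY Y) G ψ)

theorem ev_toC0 (ψ : ZR (RY Y) ⟶ G) (W : Over X) (σ : Fin 1 → Tup Y W) :
    ev (overRestr G.obj X) Y 0 W σ (toC0 Y G ψ) =
      (ψ.hom.app (op W.left)).hom
        (val Y (ZR (RY Y)).obj (gen Y) W.hom (mem_of_tup Y (σ 0))) := by
  unfold toC0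
  rw [ev_natToC0, val_homEquivNat]

theorem toC0_add (ψ ψ' : ZR (RY Y) ⟶ G) : toC0 Y G (ψ + ψ') = toC0 Y G ψ + toC0 Y G ψ' := by
  apply cx_ext_ev
  intro W σ
  rw [map_add, ev_toC0, ev_toC0, ev_toC0]
  rfl

theorem toC0_d (ψ : ZR (RY Y) ⟶ G) : (cx (overRestr G.obj X) Y).d 0 1 (toC0 Y G ψ) = 0 :=
  natToC0_d Y G.obj _

theorem toC0_injective : Function.Injective (toC0 Y G) := by
  intro ψ ψ' h
  exact (homEquivNat (RY Y) G).injective (natToC0_injective Y G.obj _ _ h)

theorem exists_toC0_eq (x : (cx (overRestr G.obj X) Y).X 0)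
    (hx : (cx (overRestr G.obj X) Y).d 0 1 x = 0) : ∃ ψ : ZR (RY Y) ⟶ G, toC0 Y G ψ = x := by
  refine ⟨(homEquivNat (RY Y) G).symm (natOfCocycle Y G.obj x hx), ?_⟩
  unfold toC0
  rw [Equiv.apply_symm_apply]
  exact natToC0_natOfCocycle Y G.obj x hx

/-- `toC0` as a morphism of abelian groups. -/
noncomputable def toC0Hom :
    AddCommGrpCat.of (ZR (RY Y) ⟶ G) ⟶ (cx (overRestr G.obj X) Y).X 0 :=
  AddCommGrpCat.ofHom (AddMonoidHom.mk' (toC0 Y G) (toC0_add Y G))

theorem toC0Hom_apply (ψ : ZR (RY Y) ⟶ G) : toC0Hom Y G ψ = toC0 Y G ψ := rfl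

theorem toC0Hom_d : toC0Hom Y G ≫ (cx (overRestr G.obj X) Y).d 0 1 = 0 := by
  ext ψ
  exact toC0_d Y G ψ

/-- morphisms out of the free presheaf on the sieve map to `0`-cocycles. -/
noncomputable def toZ0 :
    AddCommGrpCat.of (ZR (RY Y) ⟶ G) ⟶ (cx (overRestr G.obj X) Y).cycles 0 :=
  (cx (overRestr G.obj X) Y).liftCycles (toC0Hom Y G) 1 (by simp) (toC0Hom_d Y G)

theorem toZ0_i : toZ0 Y G ≫ (cx (overRestr G.obj X) Y).iCycles 0 = toC0Hom Y G :=
  (cx (overRestr G.obj X) Y).liftCycles_i _ _ _ _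

theorem iCycles_injective' :
    Function.Injective ((cx (overRestr G.obj X) Y).iCycles 0) :=
  (AddCommGrpCat.mono_iff_injective _).1 inferInstance

theorem toZ0_bijective : Function.Bijective (toZ0 Y G) := by
  constructor
  · intro s t hst
    apply toC0_injective Y G
    have h1 := congrArg ((cx (overRestr G.obj X) Y).iCycles 0) hst
    rw [← ConcreteCategory.comp_apply, ← ConcreteCategory.comp_apply, toZ0_i] at h1
    exact h1
  · intro z
    set x := (cx (overRestr G.obj X) Y).iCycles 0 z with hx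
    have hdx : (cx (overRestr G.obj X) Y).d 0 1 x = 0 := by
      rw [hx, ← ConcreteCategory.comp_apply, (cx (overRestr G.obj X) Y).iCycles_d]
      rfl
    obtain ⟨s, hs⟩ := exists_toC0_eq Y G x hdx
    refine ⟨s, ?_⟩
    apply iCycles_injective' Y G
    rw [← ConcreteCategory.comp_apply, toZ0_i]
    exact hs

/-- degree zero: `Hom(ℤ[R], G) ≃+ Ȟ^0(Y, G)`. -/
noncomputable def h0 : (ZR (RY Y) ⟶ G) ≃+ CohCx.cechH G.obj Y 0 :=
  AddEquiv.ofBijective (toZ0 Y G ≫ (cx (overRestr G.obj X) Y).homologyπ 0).hom (by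
    have h1 : Function.Bijective ((cx (overRestr G.obj X) Y).homologyπ 0) :=
      (ConcreteCategory.isIso_iff_bijective _).1 inferInstance
    exact h1.comp (toZ0_bijective Y G))

theorem h0_apply (ψ : ZR (RY Y) ⟶ G) :
    h0 Y G ψ = (cx (overRestr G.obj X) Y).homologyπ 0 (toZ0 Y G ψ) := rfl

variable {G} in
theorem toC0_naturality {G' : PSh C} (φ : G ⟶ G') (ψ : ZR (RY Y) ⟶ G) :
    ((cechComplexFunctor Y).map (Functor.whiskerLeft (Over.forget X).op φ.hom)).f 0
      (toC0 Y G ψ) = toC0 Y G' (ψ ≫ φ) := by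
  apply cx_ext_ev
  intro W σ
  rw [ev_naturality, ev_toC0, ev_toC0]
  rfl

variable {G} in
theorem toZ0_naturality {G' : PSh C} (φ : G ⟶ G') (ψ : ZR (RY Y) ⟶ G) :
    HomologicalComplex.cyclesMap
        ((cechComplexFunctor Y).map (Functor.whiskerLeft (Over.forget X).op φ.hom)) 0
        (toZ0 Y G ψ) = toZ0 Y G' (ψ ≫ φ) := by
  apply iCycles_injective' Y G'
  rw [← ConcreteCategory.comp_apply, HomologicalComplex.cyclesMap_i, ConcreteCategory.comp_apply,
    ← ConcreteCategory.comp_apply (toZ0 Y G), toZ0_i, ← ConcreteCategory.comp_apply (toZ0 Y G'),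
    toZ0_i]
  exact toC0_naturality Y φ ψ

variable {G} in
theorem h0_naturality {G' : PSh C} (φ : G ⟶ G') (ψ : ZR (RY Y) ⟶ G) :
    HomologicalComplex.homologyMap
        ((cechComplexFunctor Y).map (Functor.whiskerLeft (Over.forget X).op φ.hom)) 0
      (h0 Y G ψ) = h0 Y G' (ψ ≫ φ) := by
  rw [h0_apply, h0_apply, ← ConcreteCategory.comp_apply,
    HomologicalComplex.homologyπ_naturality, ConcreteCategory.comp_apply, toZ0_naturality]

end Sheaf

section Leray

open Groth.Agent.Lib.Cohomology.SiteLeray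

omit [HasPullbacks C] in
/-- epimorphisms of presheaves (sheaves for the trivial topology) are sectionwise surjective. -/
theorem surjective_of_epi_bot {F G : PSh C} (g : F ⟶ G) [Epi g] (V : C) :
    Function.Surjective (g.hom.app (op V)) := by
  have : Sheaf.IsLocallySurjective g := (Sheaf.isLocallySurjective_iff_epi' (φ := g)).2 inferInstance
  intro s
  have h := Presheaf.imageSieve_mem (⊥ : GrothendieckTopology C) g.hom s
  rw [GrothendieckTopology.bot_covering] at h
  have h1 : (Presheaf.imageSieve g.hom s) (𝟙 V) := by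
    rw [h]
    trivial
  obtain ⟨t, ht⟩ := h1
  refine ⟨t, ht.trans ?_⟩
  rw [op_id, G.obj.map_id]
  rfl

theorem cechSES (G : PSh C) : (cechSC Y (injSES G)).ShortExact := by
  have : Epi (injSES G).g := (injSES_shortExact G).epi_g
  exact cechSC_shortExact_of_surjective Y (injSES_shortExact G)
    (fun n i => surjective_of_epi_bot (injSES G).g _)

theorem isZero_cechH_mid' (G : PSh C) (p : ℕ) :
    IsZero ((cechSC Y (injSES G)).X₂.homology (p + 1)) :=
  isZero_cechH_of_injective_sheaf Y (⊥ : GrothendieckTopology C) (injSES G).X₂ p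

/-- the Čech connecting map in degree one. -/
noncomputable def cechδ₁ (G : PSh C) :
    (ZR (RY Y) ⟶ (injSES G).X₃) →+ CohCx.cechH G.obj Y 1 :=
  ((cechSES Y G).δ 0 1 rfl).hom.comp (h0 Y (injSES G).X₃).toAddMonoidHom

theorem cechδ₁_surjective (G : PSh C) : Function.Surjective (cechδ₁ Y G) := by
  have h1 : Epi ((cechSES Y G).δ 0 1 rfl) :=
    (cechSES Y G).epi_δ 0 1 rfl (isZero_cechH_mid' Y G 0)
  exact ((AddCommGrpCat.epi_iff_surjective _).1 h1).comp (h0 Y (injSES G).X₃).surjective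

theorem cechδ₁_eq_zero_iff (G : PSh C) (φ : ZR (RY Y) ⟶ (injSES G).X₃) :
    cechδ₁ Y G φ = 0 ↔ ∃ ψ : ZR (RY Y) ⟶ (injSES G).X₂, ψ ≫ (injSES G).g = φ := by
  constructor
  · intro ht
    have hex := (cechSES Y G).homology_exact₃ 0 1 rfl
    rw [ShortComplex.ab_exact_iff] at hex
    obtain ⟨y₂, hy₂⟩ := hex (h0 Y (injSES G).X₃ φ) ht
    obtain ⟨ψ, rfl⟩ := (h0 Y (injSES G).X₂).surjective y₂
    refine ⟨ψ, ?_⟩
    apply (h0 Y (injSES G).X₃).injective
    rw [← hy₂]
    exact (h0_naturality Y (injSES G).g ψ).symm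
  · rintro ⟨ψ, rfl⟩
    change ((cechSES Y G).δ 0 1 rfl) (h0 Y (injSES G).X₃ _) = 0
    rw [← h0_naturality Y (injSES G).g ψ]
    have := (cechSES Y G).comp_δ 0 1 rfl
    exact ConcreteCategory.congr_hom this _

theorem ker_eq (G : PSh C) :
    (cechδ₁ Y G).ker = (homδ (injSES_shortExact G) (ZR (RY Y))).ker := by
  ext φ
  rw [AddMonoidHom.mem_ker, AddMonoidHom.mem_ker, cechδ₁_eq_zero_iff, homδ_eq_zero_iff]

/-- Čech cohomology of a family computes `Ext` out of the free presheaf on the generated sieve: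
positive degrees. -/
theorem cech_ext_succ (p : ℕ) : ∀ (G : PSh C),
    Nonempty (CohCx.cechH G.obj Y (p + 1) ≃+ Ext.{u} (ZR (RY Y)) G (p + 1)) := by
  induction p with
  | zero =>
    intro G
    let e1 := QuotientAddGroup.quotientKerEquivOfSurjective (cechδ₁ Y G) (cechδ₁_surjective Y G)
    let e2 := QuotientAddGroup.quotientKerEquivOfSurjective
      (homδ (injSES_shortExact G) (ZR (RY Y)))
      (homδ_surjective (injSES_shortExact G) (ZR (RY Y)) (fun x => Ext.eq_zero_of_injective x))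
    exact ⟨e1.symm.trans ((QuotientAddGroup.quotientAddEquivOfEq (ker_eq Y G)).trans e2)⟩
  | succ p ih =>
    intro G
    obtain ⟨e⟩ := ih (injSES G).X₃
    let e1 : CohCx.cechH (injSES G).X₃.obj Y (p + 1) ≃+ CohCx.cechH G.obj Y (p + 2) :=
      ((cechSES Y G).δIso (p + 1) (p + 2) rfl (isZero_cechH_mid' Y G p)
        (isZero_cechH_mid' Y G (p + 1))).addCommGroupIsoToAddEquiv
    let e2 : Ext.{u} (ZR (RY Y)) (injSES G).X₃ (p + 1) ≃+ Ext.{u} (ZR (RY Y)) G (p + 2) :=
      AddEquiv.ofBijective (extδ (injSES_shortExact G) (ZR (RY Y)) (p + 1))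
        ⟨extδ_injective _ _ _ (fun x => Ext.eq_zero_of_injective x),
          extδ_surjective _ _ _ (fun x => Ext.eq_zero_of_injective x)⟩
    exact ⟨e1.symm.trans (e.trans e2)⟩

/-- Čech cohomology of a family computes `Ext` out of the free presheaf on the generated sieve. -/
theorem cech_ext (p : ℕ) (G : PSh C) :
    Nonempty (CohCx.cechH G.obj Y p ≃+ Ext.{u} (ZR (RY Y)) G p) := by
  cases p with
  | zero => exact ⟨(h0 Y G).symm.trans Ext.addEquiv₀.symm⟩
  | succ p => exact cech_ext_succ Y p G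

end Leray

end Groth.Agent.Lib.Helper19.CechSieve
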