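import Mathlib

/-!
# Comparison maps `colim (D ⋙ H) ⟶ H (colim D)` and five-lemma arguments (helper19)

Namespace `Groth.Agent.Lib.Helper19.ColimPost`.
For functors `H' H H'' : A ⥤ B` into an abelian category with exact colimits of shape `Λ`, and
natural transformations `α : H' ⟶ H`, `β : H ⟶ H''`:
* `isIso_post_of_left_exact` : if `0 ⟶ H' X ⟶ H X ⟶ H'' X` is exact for all `X`, `H` preserves
  the colimit of `D` and the comparison map of `H''` is mono, then `H'` preserves the colimit of `D`.
* `isIso_post_of_short_exact` : if `0 ⟶ H' X ⟶ H X ⟶ H'' X ⟶ 0` is exact for all `X` and `H'`, `H''`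
  preserve the colimit of `D`, then so does `H`.
-/

set_option autoImplicit false
set_option linter.unusedSectionVars false
set_option linter.style.haveILetI false

open CategoryTheory CategoryTheory.Limits

universe v₁ v₂ u₁ u₂ w w'

namespace Groth.Agent.Lib.Helper19.ColimPost

section Pointwise

variable {K : Type*} [Category K] {B : Type u₂} [Category.{v₂} B] [Abelian B]

lemma exact_of_pointwise (S : ShortComplex (K ⥤ B))
    (h : ∀ k, (S.map ((evaluation K B).obj k)).Exact) : S.Exact := by
  rw [ShortComplex.exact_iff_isZero_homology]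
  rw [Functor.isZero_iff]
  intro k
  have e := S.mapHomologyIso ((evaluation K B).obj k)
  exact IsZero.of_iso ((ShortComplex.exact_iff_isZero_homology _).1 (h k)) e.symm

end Pointwise

variable {A : Type u₁} [Category.{v₁} A] {B : Type u₂} [Category.{v₂} B] [Abelian B]
  {Λ : Type w} [Category.{w'} Λ]
  [HasColimitsOfShape Λ A] [HasColimitsOfShape Λ B] [HasExactColimitsOfShape Λ B]
  (D : Λ ⥤ A) {H' H H'' : A ⥤ B} (α : H' ⟶ H) (β : H ⟶ H'')

/-- the induced map on colimits -/
noncomputable abbrev cmap : colimit (D ⋙ H') ⟶ colimit (D ⋙ H) :=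
  colimMap (Functor.whiskerLeft D α)

@[reassoc]
lemma cmap_post : cmap D α ≫ colimit.post D H = colimit.post D H' ≫ α.app (colimit D) := by
  apply colimit.hom_ext
  intro j
  simp [cmap]

lemma cmap_comp_zero (w : α ≫ β = 0) : cmap D α ≫ cmap D β = 0 := by
  apply colimit.hom_ext
  intro j
  simp only [cmap, ι_colimMap_assoc, ι_colimMap, Functor.whiskerLeft_app, comp_zero]
  rw [← Category.assoc, ← NatTrans.comp_app, w]
  simp

lemma mono_cmap (hα : ∀ X, Mono (α.app X)) : Mono (cmap D α) := by
  haveI : ∀ j, Mono ((Functor.whiskerLeft D α).app j) := fun j => hα _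
  haveI := NatTrans.mono_of_mono_app (Functor.whiskerLeft D α)
  exact inferInstanceAs (Mono (colim.map (Functor.whiskerLeft D α)))

lemma epi_cmap (hβ : ∀ X, Epi (β.app X)) : Epi (cmap D β) := by
  haveI : ∀ j, Epi ((Functor.whiskerLeft D β).app j) := fun j => hβ _
  exact colim.map_epi' (Functor.whiskerLeft D β) (colimit.cocone _) (colimit.isColimit _) _
    (fun j => by simp [cmap])

lemma exact_cmap (w : α ≫ β = 0)
    (hex : ∀ X, (ShortComplex.mk (α.app X) (β.app X)
      (by rw [← NatTrans.comp_app, w]; rfl)).Exact) :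
    (ShortComplex.mk (cmap D α) (cmap D β) (cmap_comp_zero D α β w)).Exact := by
  let S : ShortComplex (Λ ⥤ B) :=
    ShortComplex.mk (Functor.whiskerLeft D α) (Functor.whiskerLeft D β)
      (by rw [← Functor.whiskerLeft_comp, w]; rfl)
  have hS : S.Exact := exact_of_pointwise S (fun k => hex (D.obj k))
  exact hS.map colim

/-- kernel version of the five lemma for comparison maps -/
theorem isIso_post_of_left_exact (w : α ≫ β = 0) (hα : ∀ X, Mono (α.app X))
    (hex : ∀ X, (ShortComplex.mk (α.app X) (β.app X)
      (by rw [← NatTrans.comp_app, w]; rfl)).Exact)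
    [IsIso (colimit.post D H)] [Mono (colimit.post D H'')] : IsIso (colimit.post D H') := by
  have hm : Mono (cmap D α) := mono_cmap D α hα
  have he := exact_cmap D α β w hex
  have he2 := hex (colimit D)
  haveI := hα (colimit D)
  -- construct the inverse
  have h0 : (α.app (colimit D) ≫ inv (colimit.post D H)) ≫ cmap D β = 0 := by
    rw [← cancel_mono (colimit.post D H''), Category.assoc, Category.assoc, cmap_post,
      IsIso.inv_hom_id_assoc, zero_comp, ← NatTrans.comp_app, w]
    rfl
  let ψ : H'.obj (colimit D) ⟶ colimit (D ⋙ H') := he.lift _ h0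
  have hψ : ψ ≫ cmap D α = α.app (colimit D) ≫ inv (colimit.post D H) := he.lift_f _ h0
  refine ⟨ψ, ?_, ?_⟩
  · rw [← cancel_mono (cmap D α), Category.assoc, hψ, ← cmap_post_assoc, IsIso.hom_inv_id,
      Category.comp_id, Category.id_comp]
  · rw [← cancel_mono (α.app (colimit D)), Category.assoc, ← cmap_post, ← Category.assoc, hψ,
      Category.assoc, IsIso.inv_hom_id, Category.comp_id, Category.id_comp]

/-- middle version of the five lemma for comparison maps -/
theorem isIso_post_of_short_exact (w : α ≫ β = 0) (hα : ∀ X, Mono (α.app X))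
    (hβ : ∀ X, Epi (β.app X))
    (hex : ∀ X, (ShortComplex.mk (α.app X) (β.app X)
      (by rw [← NatTrans.comp_app, w]; rfl)).Exact)
    [IsIso (colimit.post D H')] [IsIso (colimit.post D H'')] : IsIso (colimit.post D H) := by
  have hm : Mono (cmap D α) := mono_cmap D α hα
  have hep : Epi (cmap D β) := epi_cmap D β hβ
  have he := exact_cmap D α β w hex
  have he2 := hex (colimit D)
  haveI := hα (colimit D)
  haveI := hβ (colimit D)
  let S₁ := ShortComplex.mk (cmap D α) (cmap D β) (cmap_comp_zero D α β w)
  let S₂ := ShortComplex.mk (α.app (colimit D)) (β.app (colimit D))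
      (by rw [← NatTrans.comp_app, w]; rfl)
  let φ : S₁ ⟶ S₂ :=
    { τ₁ := colimit.post D H'
      τ₂ := colimit.post D H
      τ₃ := colimit.post D H''
      comm₁₂ := (cmap_post D α).symm
      comm₂₃ := (cmap_post D β).symm }
  have h₁ : S₁.ShortExact := { exact := he, mono_f := hm, epi_g := hep }
  have h₂ : S₂.ShortExact := { exact := he2, mono_f := hα _, epi_g := hβ _ }
  haveI : IsIso φ.τ₁ := inferInstanceAs (IsIso (colimit.post D H'))
  haveI : IsIso φ.τ₃ := inferInstanceAs (IsIso (colimit.post D H''))
  exact ShortComplex.isIso₂_of_shortExact_of_isIso₁₃ φ h₁ h₂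

end Groth.Agent.Lib.Helper19.ColimPost
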