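import Mathlib.Algebra.Homology.ShortComplex.HomologicalComplex
import Mathlib.Algebra.Homology.ShortComplex.ExactFunctor
import Mathlib.Algebra.Homology.ShortComplex.Abelian
import Mathlib.CategoryTheory.Abelian.Basic

/-!
# Contravariant cohomological delta functors and acyclic resolutions (helper19)

Namespace `Groth.Agent.Lib.Helper19.ContraDelta`.

`IsContraDelta T` : a family of contravariant functors `T p : 𝒜ᵒᵖ ⥤ 𝒟` which turns short exact
sequences into long exact sequences (connecting maps only asserted to exist).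

`nonempty_homology_iso` : if `L_• ⟶ coker(L_1 ⟶ L_0)` is a resolution by `T`-acyclic objects, then
the cohomology of `T⁰(L_•)` is `T^i(coker(L_1 ⟶ L_0))`.
-/

set_option autoImplicit false
set_option linter.style.haveILetI false
universe v u v' u'
open CategoryTheory CategoryTheory.Limits Opposite

namespace Groth.Agent.Lib.Helper19.ContraDelta

variable {𝒜 : Type u} [Category.{v} 𝒜] [Abelian 𝒜] {𝒟 : Type u'} [Category.{v'} 𝒟] [Abelian 𝒟]

/-- a contravariant cohomological delta functor (existence of connecting maps only) -/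
structure IsContraDelta (T : ℕ → 𝒜ᵒᵖ ⥤ 𝒟) : Prop where
  mono : ∀ (S : ShortComplex 𝒜), S.ShortExact → Mono ((T 0).map S.g.op)
  exact₂ : ∀ (S : ShortComplex 𝒜), S.ShortExact → ∀ p : ℕ,
    ∃ w : (T p).map S.g.op ≫ (T p).map S.f.op = 0, (ShortComplex.mk _ _ w).Exact
  δ : ∀ (S : ShortComplex 𝒜), S.ShortExact → ∀ p : ℕ,
    ∃ δ : (T p).obj (op S.X₁) ⟶ (T (p + 1)).obj (op S.X₃),
      (∃ w : (T p).map S.f.op ≫ δ = 0, (ShortComplex.mk _ _ w).Exact) ∧
      (∃ w : δ ≫ (T (p + 1)).map S.g.op = 0, (ShortComplex.mk _ _ w).Exact)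

/-- homology of a short complex from a kernel of `g`, a factorisation of `f` and its cokernel -/
lemma nonempty_homology_iso_of_factor (S : ShortComplex 𝒟) {Kk Q : 𝒟} (k : Kk ⟶ S.X₂) [Mono k]
    (hk : k ≫ S.g = 0) (hkex : (ShortComplex.mk k S.g hk).Exact) (a' : S.X₁ ⟶ Kk)
    (ha' : a' ≫ k = S.f) (c : Kk ⟶ Q) [Epi c] (hc : a' ≫ c = 0)
    (hcex : (ShortComplex.mk a' c hc).Exact) : Nonempty (S.homology ≅ Q) := by
  have hi : IsLimit (KernelFork.ofι k hk) := hkex.fIsKernel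
  have hlift : hi.lift (KernelFork.ofι S.f S.zero) = a' := by
    rw [← cancel_mono k]
    exact (Fork.IsLimit.lift_ι hi).trans ha'.symm
  subst hlift
  have hπ : IsColimit (CokernelCofork.ofπ c hc) := hcex.gIsCokernel
  let h : S.LeftHomologyData :=
    { K := Kk, H := Q, i := k, π := c, wi := hk, hi := hi, wπ := hc, hπ := hπ }
  exact ⟨h.homologyIso⟩

variable {T : ℕ → 𝒜ᵒᵖ ⥤ 𝒟} (hT : IsContraDelta T)

include hT in
lemma nonempty_shift_iso (S : ShortComplex 𝒜) (hS : S.ShortExact)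
    (h₂ : ∀ p : ℕ, 1 ≤ p → IsZero ((T p).obj (op S.X₂))) (p : ℕ) (hp : 1 ≤ p) :
    Nonempty ((T p).obj (op S.X₁) ≅ (T (p + 1)).obj (op S.X₃)) := by
  obtain ⟨δ, ⟨w1, e1⟩, ⟨w2, e2⟩⟩ := hT.δ S hS p
  haveI : Mono δ := e1.mono_g ((h₂ p hp).eq_of_src _ _)
  haveI : Epi δ := e2.epi_f ((h₂ (p + 1) (by omega)).eq_of_tgt _ _)
  haveI : IsIso δ := isIso_of_mono_of_epi δ
  exact ⟨asIso δ⟩

include hT in
lemma exists_coker (S : ShortComplex 𝒜) (hS : S.ShortExact)
    (h₂ : IsZero ((T 1).obj (op S.X₂))) :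
    ∃ δ : (T 0).obj (op S.X₁) ⟶ (T 1).obj (op S.X₃), Epi δ ∧
      ∃ w : (T 0).map S.f.op ≫ δ = 0, (ShortComplex.mk _ _ w).Exact := by
  obtain ⟨δ, ⟨w1, e1⟩, ⟨w2, e2⟩⟩ := hT.δ S hS 0
  exact ⟨δ, e2.epi_f (h₂.eq_of_tgt _ _), w1, e1⟩

section Resolution

variable (L : ChainComplex 𝒜 ℕ)

/-- the syzygies `K_j = coker(L_{j+1} ⟶ L_j)` -/
noncomputable abbrev K (j : ℕ) : 𝒜 := cokernel (L.d (j + 1) j)

noncomputable abbrev ε (j : ℕ) : L.X j ⟶ K L j := cokernel.π _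

noncomputable abbrev ι (j : ℕ) : K L (j + 1) ⟶ L.X j :=
  cokernel.desc (L.d (j + 2) (j + 1)) (L.d (j + 1) j) (L.d_comp_d _ _ _)

lemma ε_ι (j : ℕ) : ε L (j + 1) ≫ ι L j = L.d (j + 1) j := cokernel.π_desc _ _ _

lemma ι_ε (j : ℕ) : ι L j ≫ ε L j = 0 := by
  rw [← cancel_epi (ε L (j + 1)), ← Category.assoc, ε_ι, cokernel.condition, comp_zero]

variable {L} (hex : ∀ j : ℕ, L.ExactAt (j + 1))

include hex in
lemma mono_ι (j : ℕ) : Mono (ι L j) := by
  have h := (L.exactAt_iff' (j + 2) (j + 1) j (by simp) (by simp)).1 (hex j)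
  exact h.mono_cokernelDesc

/-- the short exact sequences `0 ⟶ K_{j+1} ⟶ L_j ⟶ K_j ⟶ 0` -/
noncomputable abbrev ses (L : ChainComplex 𝒜 ℕ) (j : ℕ) : ShortComplex 𝒜 :=
  ShortComplex.mk (ι L j) (ε L j) (ι_ε L j)

include hex in
lemma ses_shortExact (j : ℕ) : (ses L j).ShortExact := by
  haveI := mono_ι hex j
  have h1 : (ShortComplex.mk (L.d (j + 1) j) (ε L j) (cokernel.condition _)).Exact :=
    ShortComplex.exact_cokernel _
  let φ : ShortComplex.mk (L.d (j + 1) j) (ε L j) (cokernel.condition _) ⟶ ses L j :=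
    { τ₁ := ε L (j + 1), τ₂ := 𝟙 _, τ₃ := 𝟙 _
      comm₁₂ := by dsimp; rw [ε_ι, Category.comp_id]
      comm₂₃ := by simp }
  haveI : Epi φ.τ₁ := by dsimp [φ]; infer_instance
  haveI : IsIso φ.τ₂ := by dsimp [φ]; infer_instance
  haveI : Mono φ.τ₃ := by dsimp [φ]; infer_instance
  have h2 : (ses L j).Exact := (ShortComplex.exact_iff_of_epi_of_isIso_of_mono φ).1 h1
  exact ShortComplex.ShortExact.mk' h2 (mono_ι hex j) (by dsimp; infer_instance)

end Resolution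

section Main

variable {L : ChainComplex 𝒜 ℕ} (hex : ∀ j : ℕ, L.ExactAt (j + 1))
  (hL : ∀ (j p : ℕ), 1 ≤ p → IsZero ((T p).obj (op (L.X j))))

include hT hex in
lemma mono_k (j : ℕ) : Mono ((T 0).map (ε L j).op) :=
  hT.mono (ses L j) (ses_shortExact hex j)

include hT hex in
lemma k_a' (j : ℕ) : (T 0).map (ε L j).op ≫ (T 0).map (ι L j).op = 0 :=
  (hT.exact₂ (ses L j) (ses_shortExact hex j) 0).choose

include hT hex in
lemma exact_k_a' (j : ℕ) :
    (ShortComplex.mk ((T 0).map (ε L j).op) ((T 0).map (ι L j).op) (k_a' hT hex j)).Exact :=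
  (hT.exact₂ (ses L j) (ses_shortExact hex j) 0).choose_spec

lemma D_eq (T : ℕ → 𝒜ᵒᵖ ⥤ 𝒟) (L : ChainComplex 𝒜 ℕ) (j : ℕ) :
    (T 0).map (L.d (j + 1) j).op = (T 0).map (ι L j).op ≫ (T 0).map (ε L (j + 1)).op := by
  rw [← Functor.map_comp, ← op_comp, ε_ι]

include hT hex in
lemma k_D (j : ℕ) : (T 0).map (ε L j).op ≫ (T 0).map (L.d (j + 1) j).op = 0 := by
  rw [D_eq, ← Category.assoc, k_a' hT hex, zero_comp]

include hT hex in
lemma exact_k_D (j : ℕ) :
    (ShortComplex.mk ((T 0).map (ε L j).op) ((T 0).map (L.d (j + 1) j).op) (k_D hT hex j)).Exact := by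
  haveI := mono_k hT hex (j + 1)
  let φ : ShortComplex.mk ((T 0).map (ε L j).op) ((T 0).map (ι L j).op) (k_a' hT hex j) ⟶
      ShortComplex.mk ((T 0).map (ε L j).op) ((T 0).map (L.d (j + 1) j).op) (k_D hT hex j) :=
    { τ₁ := 𝟙 _, τ₂ := 𝟙 _, τ₃ := (T 0).map (ε L (j + 1)).op
      comm₁₂ := by simp
      comm₂₃ := by dsimp; rw [Category.id_comp, D_eq] }
  haveI : Epi φ.τ₁ := by dsimp [φ]; infer_instance
  haveI : IsIso φ.τ₂ := by dsimp [φ]; infer_instance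
  haveI : Mono φ.τ₃ := by dsimp [φ]; infer_instance
  exact (ShortComplex.exact_iff_of_epi_of_isIso_of_mono φ).1 (exact_k_a' hT hex j)

include hT hex in
lemma D_comp_D (j : ℕ) :
    (T 0).map (L.d (j + 1) j).op ≫ (T 0).map (L.d (j + 2) (j + 1)).op = 0 := by
  rw [D_eq T L j, Category.assoc, k_D hT hex (j + 1), comp_zero]

include hT hex hL in
lemma nonempty_shift (j : ℕ) : ∀ p : ℕ, 1 ≤ p →
    Nonempty ((T p).obj (op (K L j)) ≅ (T (p + j)).obj (op (K L 0))) := by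
  induction j with
  | zero => intro p _; exact ⟨Iso.refl _⟩
  | succ j ih =>
    intro p hp
    obtain ⟨e1⟩ := nonempty_shift_iso hT (ses L j) (ses_shortExact hex j)
      (fun q hq => hL j q hq) p hp
    obtain ⟨e2⟩ := ih (p + 1) (by omega)
    have h : p + (j + 1) = p + 1 + j := by omega
    rw [h]
    exact ⟨e1 ≪≫ e2⟩

include hT hex hL in
/-- cohomology of `T⁰(L_•)` for a `T`-acyclic resolution `L_•` -/
theorem nonempty_homology_iso (C : CochainComplex 𝒟 ℕ)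
    (e : ∀ j : ℕ, C.X j ≅ (T 0).obj (op (L.X j)))
    (hC : ∀ j : ℕ, C.d j (j + 1) ≫ (e (j + 1)).hom = (e j).hom ≫ (T 0).map (L.d (j + 1) j).op)
    (i : ℕ) : Nonempty (C.homology i ≅ (T i).obj (op (K L 0))) := by
  cases i with
  | zero =>
    let iso1 : C.homology 0 ≅ (C.sc' 0 0 1).homology :=
      ShortComplex.homologyMapIso (C.isoSc' 0 0 1 (by simp) (by simp))
    let S' : ShortComplex 𝒟 := ShortComplex.mk (0 : (T 0).obj (op (L.X 0)) ⟶ (T 0).obj (op (L.X 0)))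
      ((T 0).map (L.d 1 0).op) zero_comp
    let iso2 : C.sc' 0 0 1 ≅ S' := ShortComplex.isoMk (e 0) (e 0) (e 1)
      (by
        change (e 0).hom ≫ 0 = C.d 0 0 ≫ (e 0).hom
        rw [C.shape 0 0 (by simp), zero_comp, comp_zero]) (hC 0).symm
    haveI := mono_k hT hex 0
    have hz : (0 : (T 0).obj (op (L.X 0)) ⟶ (T 0).obj (op (K L 0))) ≫ 𝟙 _ = 0 := zero_comp
    have hzex : (ShortComplex.mk _ _ hz).Exact :=
      (ShortComplex.exact_iff_mono _ rfl).2 (by dsimp; infer_instance)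
    obtain ⟨iso3⟩ := nonempty_homology_iso_of_factor S' ((T 0).map (ε L 0).op) (k_D hT hex 0)
      (exact_k_D hT hex 0) 0 zero_comp (𝟙 _) hz hzex
    exact ⟨iso1 ≪≫ ShortComplex.homologyMapIso iso2 ≪≫ iso3⟩
  | succ j =>
    let iso1 : C.homology (j + 1) ≅ (C.sc' j (j + 1) (j + 2)).homology :=
      ShortComplex.homologyMapIso (C.isoSc' j (j + 1) (j + 2) (by simp) (by simp))
    let S' : ShortComplex 𝒟 := ShortComplex.mk ((T 0).map (L.d (j + 1) j).op)
      ((T 0).map (L.d (j + 2) (j + 1)).op) (D_comp_D hT hex j)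
    let iso2 : C.sc' j (j + 1) (j + 2) ≅ S' := ShortComplex.isoMk (e j) (e (j + 1)) (e (j + 2))
      (hC j).symm (hC (j + 1)).symm
    haveI := mono_k hT hex (j + 1)
    obtain ⟨δ, hδ, w, hex'⟩ := exists_coker hT (ses L j) (ses_shortExact hex j) (hL j 1 le_rfl)
    haveI := hδ
    obtain ⟨iso3⟩ := nonempty_homology_iso_of_factor S' ((T 0).map (ε L (j + 1)).op)
      (k_D hT hex (j + 1)) (exact_k_D hT hex (j + 1)) ((T 0).map (ι L j).op) (D_eq T L j).symm
      δ w hex'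
    obtain ⟨iso4⟩ := nonempty_shift hT hex hL j 1 le_rfl
    have h : 1 + j = j + 1 := by omega
    rw [h] at iso4
    exact ⟨iso1 ≪≫ ShortComplex.homologyMapIso iso2 ≪≫ iso3 ≪≫ iso4⟩

end Main

end Groth.Agent.Lib.Helper19.ContraDelta
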