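import Groth.Agent.Lib.Cohomology.Helper3_LocCohSh
import Groth.Agent.Lib.Helper94.JShriek
import Groth.Agent.Lib.Helper34.SSGrothFinal
import Groth.Prelude.Def_ModSite2

/-!
# Local cohomology sheaves on a ringed site for a subterminal object (helper19)

Namespace `Groth.Agent.Lib.Helper19.SiteLocCoh`.
* `isSplitEpi_unit_of_mono_counit` : for an adjoint triple `L ⊣ F ⊣ R`, if `I` is injective and the
  counit `L F (R F I) ⟶ R F I` is a monomorphism then the unit `I ⟶ R F I` is a split epimorphism.
* `mono_extZeroAdj_counit_app` : for `U` subterminal the counit `j_! j^* A ⟶ A` is a monomorphism.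
* `T O U` : the sequence of functors `0 ⟶ Γ_Z ⟶ 𝟭 ⟶ j_* j^*`, exact on injectives.
* `nonempty_HZsh_succ_iso`, `nonempty_HZsh_one_iso`.
-/

set_option autoImplicit false
set_option backward.isDefEq.respectTransparency false
set_option backward.defeqAttrib.useBackward true
universe u
open CategoryTheory CategoryTheory.Limits Opposite

namespace Groth.Agent.Lib.Helper19.SiteLocCoh

section Abstract

variable {A B : Type*} [Category A] [Category B]
  {L : B ⥤ A} {F : A ⥤ B} {R : B ⥤ A} (adj₁ : L ⊣ F) (adj₂ : F ⊣ R)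

/-- adjoint triple `L ⊣ F ⊣ R`: the unit `I ⟶ R F I` at an injective object is a split epi as soon
as the counit `L F (R F I) ⟶ R F I` is a monomorphism -/
theorem exists_section_unit_of_mono_counit (I : A) [Injective I]
    [Mono (adj₁.counit.app (R.obj (F.obj I)))] :
    ∃ s : R.obj (F.obj I) ⟶ I, s ≫ adj₂.unit.app I = 𝟙 _ := by
  let g : L.obj (F.obj (R.obj (F.obj I))) ⟶ I :=
    L.map (adj₂.counit.app (F.obj I)) ≫ adj₁.counit.app I
  let s : R.obj (F.obj I) ⟶ I := Injective.factorThru g (adj₁.counit.app (R.obj (F.obj I)))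
  have hs : adj₁.counit.app (R.obj (F.obj I)) ≫ s = g := Injective.comp_factorThru _ _
  refine ⟨s, ?_⟩
  have hFs : F.map s = adj₂.counit.app (F.obj I) := by
    apply (adj₁.homEquiv _ _).symm.injective
    rw [Adjunction.homEquiv_counit, Adjunction.homEquiv_counit]
    have := adj₁.counit.naturality s
    dsimp at this
    rw [this, hs]
  apply (adj₂.homEquiv _ _).symm.injective
  rw [Adjunction.homEquiv_counit, Adjunction.homEquiv_counit, Functor.map_comp, Category.assoc,
    Adjunction.left_triangle_components, Category.comp_id, CategoryTheory.Functor.map_id,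
    Category.id_comp, hFs]

theorem epi_unit_of_mono_counit (I : A) [Injective I]
    [Mono (adj₁.counit.app (R.obj (F.obj I)))] : Epi (adj₂.unit.app I) := by
  obtain ⟨s, hs⟩ := exists_section_unit_of_mono_counit adj₁ adj₂ I
  exact epi_of_epi_fac hs

end Abstract

section Presheaf

open Groth.Agent.Lib.Helper94.JShriek DirectSum

variable {C : Type u} [SmallCategory C] {R : Cᵒᵖ ⥤ RingCat.{u}} {U : C}

lemma adjPre_counit_app (F : PresheafOfModules.{u} R) :
    (adjPre R U).counit.app F = fromRestr (𝟙 ((rPre R U).obj F)) := by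
  have h := adjPre_homEquiv_symm_apply ((rPre R U).obj F) F (𝟙 _)
  rw [Adjunction.homEquiv_counit] at h
  rw [← h, CategoryTheory.Functor.map_id, Category.id_comp]

open Classical in
/-- for `U` subterminal the presheaf-level counit `j_! (F|_U) ⟶ F` is injective on sections -/
theorem mono_adjPre_counit_app (hU : ∀ V : C, Subsingleton (V ⟶ U))
    (F : PresheafOfModules.{u} R) : Mono ((adjPre R U).counit.app F) := by
  rw [adjPre_counit_app]
  refine PresheafOfModules.mono_of_injective (fun X => ?_)
  change Function.Injective (fromRestrApp (𝟙 ((rPre R U).obj F)) X)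
  rw [← LinearMap.ker_eq_bot, LinearMap.ker_eq_bot']
  intro m hm
  haveI := hU X.unop
  have key : ∀ φ : X.unop ⟶ U, m φ = 0 := by
    intro φ
    have hmφ : m = DirectSum.of (fun φ : X.unop ⟶ U => Comp ((rPre R U).obj F) φ) φ (m φ) := by
      refine DFinsupp.ext (fun ψ => ?_)
      obtain rfl : ψ = φ := Subsingleton.elim _ _
      exact (DirectSum.of_eq_same ψ (m ψ)).symm
    rw [hmφ, fromRestrApp_of] at hm
    exact hm
  exact DFinsupp.ext key

end Presheaf

section Sheaf

open Groth.Agent.Lib.Helper94.JShriek Groth.Agent.Lib.Helper94.ModTensorW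
  Groth.Agent.Lib.Helper94.ModTensor Groth.Agent.Lib.Helper94.ModOver ModSite

variable {C : Type u} [SmallCategory C] {J : GrothendieckTopology C} (O : Sheaf J CommRingCat.{u})
  (U : C)

theorem mono_adjP_counit_app (hU : ∀ V : C, Subsingleton (V ⟶ U)) (P : PMod O) :
    Mono ((adjP O U).counit.app P) :=
  mono_adjPre_counit_app (R := O.obj ⋙ forget₂ CommRingCat.{u} RingCat.{u}) (U := U) hU P

theorem mono_adjS_counit_app (hU : ∀ V : C, Subsingleton (V ⟶ U)) (M : Mod O) :
    Mono ((adjS O U).counit.app M) := by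
  have h := Adjunction.map_restrictFullyFaithful_counit_app
    (iC := fgt (O.over U)) (iD := 𝟭 (Mod O))
    ((adjP O U).comp (shfAdj O))
    (SheafOfModules.fullyFaithfulForget _) (Functor.FullyFaithful.id _)
    (Functor.rightUnitor _).symm
    (Functor.leftUnitor _ ≪≫ fgtRestrIso O U) M
  change (adjS O U).counit.app M = _ at h
  rw [h, Adjunction.comp_counit_app]
  have m1 : Mono ((adjP O U).counit.app ((fgt O).obj M)) := mono_adjP_counit_app O U hU _
  have m2 : Mono ((shf O).map ((adjP O U).counit.app ((fgt O).obj M))) := inferInstance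
  have i3 : IsIso ((shfAdj O).counit.app M) := inferInstance
  have m4 : Mono ((shf O).map ((adjP O U).counit.app ((fgt O).obj M)) ≫ (shfAdj O).counit.app M) :=
    mono_comp _ _
  have i5 : IsIso ((fgt (O.over U) ⋙ jP O U ⋙ shf O).rightUnitor.symm.inv.app ((restr O U).obj M)) :=
    inferInstanceAs (IsIso (((fgt (O.over U) ⋙ jP O U ⋙ shf O).rightUnitor.symm.app
      ((restr O U).obj M)).inv))
  have i6 : IsIso (((fgt O ⋙ restrP O U).leftUnitor ≪≫ fgtRestrIso O U).inv.app M) :=
    inferInstanceAs (IsIso ((((fgt O ⋙ restrP O U).leftUnitor ≪≫ fgtRestrIso O U).app M).inv))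
  have m7 : Mono ((jP O U ⋙ shf O).map
      (((fgt O ⋙ restrP O U).leftUnitor ≪≫ fgtRestrIso O U).inv.app M)) := inferInstance
  have m5 : Mono ((fgt (O.over U) ⋙ jP O U ⋙ shf O).rightUnitor.symm.inv.app
      ((restr O U).obj M)) := IsIso.mono_of_iso _
  have m8 := @mono_comp _ _ _ _ _ _ m7 _ m4
  exact @mono_comp _ _ _ _ _ _ m5 _ m8

theorem mono_extZeroAdj_counit_app (hU : ∀ V : C, Subsingleton (V ⟶ U)) (M : Mod O) :
    Mono ((extZeroAdj O U).counit.app M) := by
  have h := Adjunction.leftAdjointUniq_hom_app_counit (extZeroAdj O U) (adjS O U) M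
  rw [← h]
  have := mono_adjS_counit_app O U hU M
  exact mono_comp _ _

end Sheaf

section Main

open Groth.Agent.Lib.Helper94.JShriek ModSite Groth.Agent.Lib.Cohomology.RDerFunSES
  Groth.Agent.Lib.Cohomology.LocCohSh Groth.Agent.Lib.Cohomology

variable {C : Type u} [SmallCategory C] {J : GrothendieckTopology C} (O : Sheaf J CommRingCat.{u})
  (U : C)

instance : (extZero O U).PreservesMonomorphisms := ⟨fun f _ => mono_extZero_map f⟩

instance injective_restr (I : Mod O) [Injective I] : Injective ((restr O U).obj I) :=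
  Injective.injective_of_adjoint (extZeroAdj O U) I

instance restr_additive' : (restr O U).Additive := (extZeroAdj O U).right_adjoint_additive

variable [HasPushOver O U]

instance : PreservesFiniteColimits (restr O U) :=
  haveI : PreservesColimitsOfSize.{0, 0} (restr O U) :=
    (restrPushOverAdj O U).leftAdjoint_preservesColimits
  PreservesColimitsOfSize.preservesFiniteColimits _

instance : PreservesFiniteLimits (pushOver O U) :=
  haveI : PreservesLimitsOfSize.{0, 0} (pushOver O U) :=
    (restrPushOverAdj O U).rightAdjoint_preservesLimits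
  PreservesLimitsOfSize.preservesFiniteLimits _

theorem epi_unit_app_of_injective (hU : ∀ V : C, Subsingleton (V ⟶ U)) (I : Mod O) [Injective I] :
    Epi ((restrPushOverAdj O U).unit.app I) := by
  haveI := mono_extZeroAdj_counit_app O U hU ((pushOver O U).obj ((restr O U).obj I))
  exact epi_unit_of_mono_counit (extZeroAdj O U) (restrPushOverAdj O U) I

variable [(pushOver O U).Additive]

/-- `0 ⟶ Γ_Z ⟶ 𝟭 ⟶ j_* j^*`, exact on injectives for `U` subterminal -/
noncomputable def T (hU : ∀ V : C, Subsingleton (V ⟶ U)) : FunSES (Mod O) (Mod O) where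
  F₁ := sectOn O U
  F₂ := 𝟭 _
  F₃ := restr O U ⋙ pushOver O U
  α := sectOnι O U
  β := (restrPushOverAdj O U).unit
  zero F := kernel.condition _
  exact I hI := by
    have : Epi ((restrPushOverAdj O U).unit.app I) := epi_unit_app_of_injective O U hU I
    refine ShortComplex.ShortExact.mk' ?_ (by dsimp [sectOnι]; infer_instance)
      (by dsimp; infer_instance)
    exact ShortComplex.exact_of_f_is_kernel _ (kernelIsKernel _)

variable [HasInjectiveResolutions (Mod O)] (hU : ∀ V : C, Subsingleton (V ⟶ U))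

theorem isIso_δ_app (F : Mod O) (i : ℕ) (hi : 1 ≤ i) : IsIso (((T O U hU).δ i).app F) := by
  haveI := Groth.Agent.Lib.Helper34.SS.enoughInjectives_of_hasInjectiveResolutions (Mod O)
  obtain ⟨k, rfl⟩ : ∃ k, i = k + 1 := ⟨i - 1, by omega⟩
  have h0 : IsZero (((T O U hU).F₂.rightDerived (k + 1)).obj F) :=
    isZero_rightDerived_succ_of_exact (𝟭 (Mod O)) F k
  have h1 : IsZero (((T O U hU).F₂.rightDerived (k + 1 + 1)).obj F) :=
    isZero_rightDerived_succ_of_exact (𝟭 (Mod O)) F (k + 1)
  have hm : Mono (((T O U hU).δ (k + 1)).app F) :=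
    ((T O U hU).exact₃ F (k + 1)).mono_g (h0.eq_of_src _ _)
  have he : Epi (((T O U hU).δ (k + 1)).app F) :=
    ((T O U hU).exact₁ F (k + 1)).epi_f (h1.eq_of_tgt _ _)
  exact isIso_of_mono_of_epi _

omit [HasInjectiveResolutions (Mod O)] in
theorem isZero_Rpush_restr_injective [HasInjectiveResolutions (Mod (O.over U))]
    (n : ℕ) (I : Mod O) (hI : Injective I) :
    IsZero (((pushOver O U).rightDerived (n + 1)).obj ((restr O U).obj I)) :=
  Functor.isZero_rightDerived_obj_injective_succ (pushOver O U) n _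

include hU in
/-- `ℋ^{i+1}_Z ≅ R^i j_* ∘ j^*` for `i ≥ 1` -/
theorem nonempty_HZsh_succ_iso [HasInjectiveResolutions (Mod (O.over U))] (i : ℕ) (hi : 1 ≤ i) :
    Nonempty (HZsh O U (i + 1) ≅ restr O U ⋙ (pushOver O U).rightDerived i) := by
  haveI := Groth.Agent.Lib.Helper34.SS.enoughInjectives_of_hasInjectiveResolutions (Mod O)
  haveI := Groth.Agent.Lib.Helper34.SS.enoughInjectives_of_hasInjectiveResolutions
    (Mod (O.over U))
  have : ∀ F, IsIso (((T O U hU).δ i).app F) := fun F => isIso_δ_app O U hU F i hi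
  have : IsIso ((T O U hU).δ i) := NatIso.isIso_of_isIso_app _
  obtain ⟨e⟩ := RDerComp.nonempty_rightDerived_comp_iso (restr O U)
    (pushOver O U) (isZero_Rpush_restr_injective O U) i
  exact ⟨(asIso ((T O U hU).δ i)).symm ≪≫ e⟩

/-- the map `j_* j^* ⟶ ℋ^1_Z` -/
noncomputable def π' : restr O U ⋙ pushOver O U ⟶ HZsh O U 1 :=
  (T O U hU).F₃.toRightDerivedZero ≫ (T O U hU).δ 0

lemma unit_π'_app (F : Mod O) : (restrPushOverAdj O U).unit.app F ≫ (π' O U hU).app F = 0 := by
  have h1 := toRightDerivedZero_naturality (T O U hU).β F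
  have h2 := (T O U hU).β_δ_app F 0
  change (T O U hU).β.app F ≫ (T O U hU).F₃.toRightDerivedZero.app F ≫
    ((T O U hU).δ 0).app F = 0
  rw [← Category.assoc, ← h1, Category.assoc, h2, comp_zero]

lemma unit_π' : (restrPushOverAdj O U).unit ≫ π' O U hU = 0 := by
  ext F : 2
  exact unit_π'_app O U hU F

instance (F : Mod O) : Epi ((π' O U hU).app F) := by
  haveI := Groth.Agent.Lib.Helper34.SS.enoughInjectives_of_hasInjectiveResolutions (Mod O)
  have h1 : IsZero (((T O U hU).F₂.rightDerived (0 + 1)).obj F) :=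
    isZero_rightDerived_succ_of_exact (𝟭 (Mod O)) F 0
  have he : Epi (((T O U hU).δ 0).app F) :=
    ((T O U hU).exact₁ F 0).epi_f (h1.eq_of_tgt _ _)
  have : PreservesFiniteLimits (T O U hU).F₃ := by
    change PreservesFiniteLimits (restr O U ⋙ pushOver O U)
    infer_instance
  change Epi ((T O U hU).F₃.toRightDerivedZero.app F ≫ ((T O U hU).δ 0).app F)
  infer_instance

lemma exact_unit_π' (F : Mod O) :
    (ShortComplex.mk ((restrPushOverAdj O U).unit.app F) ((π' O U hU).app F)
      (unit_π'_app O U hU F)).Exact := by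
  haveI := Groth.Agent.Lib.Helper34.SS.enoughInjectives_of_hasInjectiveResolutions (Mod O)
  have : PreservesFiniteLimits (T O U hU).F₃ := by
    change PreservesFiniteLimits (restr O U ⋙ pushOver O U)
    infer_instance
  have : PreservesFiniteLimits (T O U hU).F₂ := by
    change PreservesFiniteLimits (𝟭 (Mod O))
    infer_instance
  have h := (T O U hU).exact₃ F 0
  refine ShortComplex.exact_of_iso ?_ h
  refine ShortComplex.isoMk (asIso ((T O U hU).F₂.toRightDerivedZero.app F)).symm
    (asIso ((T O U hU).F₃.toRightDerivedZero.app F)).symm (Iso.refl _) ?_ ?_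
  · have hn := toRightDerivedZero_naturality (T O U hU).β F
    have key : inv ((T O U hU).F₂.toRightDerivedZero.app F) ≫ (T O U hU).β.app F =
        (NatTrans.rightDerived (T O U hU).β 0).app F ≫
          inv ((T O U hU).F₃.toRightDerivedZero.app F) := by
      rw [IsIso.inv_comp_eq, ← Category.assoc, IsIso.eq_comp_inv]
      exact hn.symm
    exact key
  · dsimp [π']
    simp

/-- `ℋ^1_Z` is the cokernel of the unit `𝟭 ⟶ j_* j^*` -/
noncomputable def isColimitπ' : IsColimit (CokernelCofork.ofπ (π' O U hU) (unit_π' O U hU)) :=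
  evaluationJointlyReflectsColimits _ (fun F =>
    (isColimitMapCoconeCoforkEquiv' ((evaluation _ _).obj F) (unit_π' O U hU)).symm
      (exact_unit_π' O U hU F).gIsCokernel)

include hU in
theorem nonempty_HZsh_one_iso :
    Nonempty (HZsh O U 1 ≅ cokernel (restrPushOverAdj O U).unit) :=
  ⟨IsColimit.coconePointUniqueUpToIso (isColimitπ' O U hU) (colimit.isColimit _)⟩

end Main

end Groth.Agent.Lib.Helper19.SiteLocCoh
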