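import Groth.Agent.Lib.Helper34.NullLocal
import Groth.Agent.Lib.Helper94.JShriekExtAdj
import Groth.Agent.Lib.Helper10.ExtCongr
import Groth.Agent.Lib.Helper19.SiteLocCoh
import Groth.Prelude.Def_ExtSupp

/-!
# Excision for Ext with supports on a ringed site (helper19)

`U`, `V` cover the site, `V` subterminal.  Then `M/M_U ≅ j_{V!}((M|_V)/(M|_V)_W)` with
`W = U × V ⟶ V`, and hence `Ext^i_Z(M, N) ≃+ Ext^i_Z(V; M|_V, N|_V)`.
-/

set_option autoImplicit false
universe w w' u
open CategoryTheory CategoryTheory.Limits Opposite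

namespace Groth.Agent.Lib.Helper19.ExtExcision

open ModSite Groth.Agent.Lib.Helper94.JShriek Groth.Agent.Lib.Helper34.NullLocal

variable {C : Type u} [SmallCategory C] {J : GrothendieckTopology C} {O : Sheaf J CommRingCat.{u}}

section Null'

/-- `M/M_U` is null on `U` (no hypothesis on the site) -/
theorem isNullOn_quotOn' (U : C) (M : Mod O) : IsNullOn O U ((quotOn O U).obj M) := by
  let adj := extZeroAdj O U
  have hsplit : adj.unit.app ((restr O U).obj M) ≫ (restr O U).map (adj.counit.app M) = 𝟙 _ :=
    adj.right_triangle_components M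
  have : Epi ((restr O U).map (adj.counit.app M)) := by
    have : IsSplitEpi ((restr O U).map (adj.counit.app M)) := ⟨⟨⟨_, hsplit⟩⟩⟩
    infer_instance
  exact (isZero_cokernel_of_epi ((restr O U).map (adj.counit.app M))).of_iso
    (PreservesCokernel.iso (restr O U) (adj.counit.app M))

end Null'

section Null

variable [HasBinaryProducts C] (U V : C)

/-- the object `U × V ⟶ V` of the localised site -/
noncomputable abbrev Wobj : Over V := Over.mk (prod.snd : U ⨯ V ⟶ V)

/-- a module null on `U` restricts to a module null on `U × V ⟶ V` -/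
theorem isNullOn_restr {Q : Mod O} (hQ : IsNullOn O U Q) :
    IsNullOn (O.over V) (Wobj U V) ((restr O V).obj Q) := by
  rw [ExtSupp.isNullOn_iff]
  intro Y g x
  exact eq_zero_of_isNullOn U hQ (g.left ≫ prod.fst) (show sect Q Y.left from x)

/-- every morphism from the restriction to `V` of an extension by zero from `U` to a module null
on `U × V ⟶ V` vanishes -/
theorem hom_restr_extZero_eq_zero (G : Mod (O.over U)) {T : Mod (O.over V)}
    (hT : IsNullOn (O.over V) (Wobj U V) T)
    (φ : (restr O V).obj ((extZero O U).obj G) ⟶ T) : φ = 0 := by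
  apply hom_eq_zero_of_app
  intro Y s
  apply eq_zero_of_zeroSieve_mem
  have h := nullSieve_mem_extZero U G (show sect ((extZero O U).obj G) Y.left from s)
  rw [GrothendieckTopology.mem_over_iff]
  refine J.superset_covering ?_ h
  intro X' g hg
  rw [Sieve.overEquiv_iff]
  change res T (Over.homMk g : Over.mk (g ≫ Y.hom) ⟶ Y) (app φ Y s) = 0
  rcases hg with ⟨⟨a⟩⟩ | hz
  · exact eq_zero_of_isNullOn (Wobj U V) hT
      (Over.homMk (prod.lift a (g ≫ Y.hom)) (prod.lift_snd _ _) :
        Over.mk (g ≫ Y.hom) ⟶ Wobj U V) _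
  · rw [← app_res]
    have : res ((restr O V).obj ((extZero O U).obj G))
        (Over.homMk g : Over.mk (g ≫ Y.hom) ⟶ Y) s = 0 := hz
    rw [this, app_zero]

end Null

section Abstract

variable {𝒜 : Type*} [Category 𝒜] [Abelian 𝒜]

/-- two morphisms with the same target, each killed by the cokernel projection of the other,
have isomorphic cokernels -/
noncomputable def cokernelIsoOfComp {A B M : 𝒜} (a : A ⟶ M) (b : B ⟶ M)
    (hab : a ≫ cokernel.π b = 0) (hba : b ≫ cokernel.π a = 0) : cokernel a ≅ cokernel b where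
  hom := cokernel.desc a (cokernel.π b) hab
  inv := cokernel.desc b (cokernel.π a) hba
  hom_inv_id := by
    apply coequalizer.hom_ext
    rw [cokernel.π_desc_assoc, cokernel.π_desc, Category.comp_id]
  inv_hom_id := by
    apply coequalizer.hom_ext
    rw [cokernel.π_desc_assoc, cokernel.π_desc, Category.comp_id]

end Abstract

section Cover

variable (U V : C)

/-- a module null on two objects covering the site is zero -/
theorem isZero_of_isNullOn_of_coversTop (hUV : J.CoversTop (fun b : Bool => cond b U V))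
    {K : Mod O} (hU : IsNullOn O U K) (hV : IsNullOn O V K) : IsZero K := by
  rw [IsZero.iff_id_eq_zero]
  apply hom_eq_zero_of_app
  intro X s
  change s = 0
  apply eq_zero_of_zeroSieve_mem
  refine J.superset_covering ?_ (hUV X)
  rintro X' g ⟨b, ⟨a⟩⟩
  cases b with
  | true => exact eq_zero_of_isNullOn U hU a _
  | false => exact eq_zero_of_isNullOn V hV a _

variable [HasBinaryProducts C]

/-- for `V` subterminal and `Q` null on `U`, with `U`, `V` covering, `j_{V!}(Q|_V) ⟶ Q` is an
isomorphism -/
theorem isIso_counit_of_isNullOn (hV : ∀ X : C, Subsingleton (X ⟶ V))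
    (hUV : J.CoversTop (fun b : Bool => cond b U V)) {Q : Mod O} (hQ : IsNullOn O U Q) :
    IsIso ((extZeroAdj O V).counit.app Q) := by
  have hm : Mono ((extZeroAdj O V).counit.app Q) :=
    Groth.Agent.Lib.Helper19.SiteLocCoh.mono_extZeroAdj_counit_app O V hV Q
  have hKV : IsNullOn O V ((quotOn O V).obj Q) := ExtSupp.isNullOn_quotOn O V Q
  have hKU : IsNullOn O U ((quotOn O V).obj Q) := by
    have he : Epi ((restr O U).map ((quotOnπ O V).app Q)) := by
      have : Epi ((quotOnπ O V).app Q) := by
        change Epi (cokernel.π _)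
        infer_instance
      infer_instance
    exact IsZero.of_epi ((restr O U).map ((quotOnπ O V).app Q)) hQ
  have hK : IsZero (cokernel ((extZeroAdj O V).counit.app Q)) :=
    isZero_of_isNullOn_of_coversTop U V hUV hKU hKV
  have he : Epi ((extZeroAdj O V).counit.app Q) :=
    Abelian.epi_of_cokernel_π_eq_zero _ (hK.eq_of_tgt _ _)
  exact isIso_of_mono_of_epi _

end Cover

section Main

variable [HasBinaryProducts C] (U V : C)

/-- `(M/M_U)|_V ≅ (M|_V)/(M|_V)_W` with `W = U × V ⟶ V` -/
theorem nonempty_restr_quotOn_iso (M : Mod O) :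
    Nonempty ((restr O V).obj ((quotOn O U).obj M) ≅
      (quotOn (O.over V) (Wobj U V)).obj ((restr O V).obj M)) := by
  let ε := (extZeroAdj O U).counit.app M
  let ε' := (extZeroAdj (O.over V) (Wobj U V)).counit.app ((restr O V).obj M)
  -- restriction preserves the cokernel
  let e1 : (restr O V).obj (cokernel ε) ≅ cokernel ((restr O V).map ε) :=
    PreservesCokernel.iso (restr O V) ε
  have hQ : IsNullOn (O.over V) (Wobj U V) ((restr O V).obj (cokernel ε)) :=
    isNullOn_restr U V (ExtSupp.isNullOn_quotOn O U M)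
  have hQ' : IsNullOn (O.over V) (Wobj U V) (cokernel ((restr O V).map ε)) :=
    IsZero.of_iso hQ ((restr (O.over V) (Wobj U V)).mapIso e1.symm)
  have hab : (restr O V).map ε ≫ cokernel.π ε' = 0 :=
    hom_restr_extZero_eq_zero U V _
      (isNullOn_quotOn' (Wobj U V) ((restr O V).obj M)) _
  have hba : ε' ≫ cokernel.π ((restr O V).map ε) = 0 := by
    rw [← ExtSupp.mem_homZ_iff]
    exact hQ'.eq_of_tgt _ _
  exact ⟨e1 ≪≫ cokernelIsoOfComp _ _ hab hba⟩

/-- **Excision** for Ext with supports. -/
theorem nonempty_extZ_addEquiv [HasExt.{w} (Mod O)] [HasExt.{w'} (Mod (O.over V))]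
    (hV : ∀ X : C, Subsingleton (X ⟶ V)) (hUV : J.CoversTop (fun b : Bool => cond b U V))
    (M N : Mod O) (i : ℕ) :
    Nonempty (ExtSupp.ExtZ U M N i ≃+ ExtSupp.ExtZover V (Wobj U V) M N i) := by
  have hiso := isIso_counit_of_isNullOn U V hV hUV (ExtSupp.isNullOn_quotOn O U M)
  let e0 : (extZero O V).obj ((restr O V).obj ((quotOn O U).obj M)) ≅ (quotOn O U).obj M :=
    asIso ((extZeroAdj O V).counit.app ((quotOn O U).obj M))
  obtain ⟨e1⟩ := nonempty_ext_extZero_addEquiv.{w, w'} O V
    ((restr O V).obj ((quotOn O U).obj M)) N i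
  obtain ⟨e2⟩ := nonempty_restr_quotOn_iso U V M
  exact ⟨(Groth.Agent.Lib.Helper10.ExtCongr.extCongr e0.symm (Iso.refl N) i).trans
    (e1.trans (Groth.Agent.Lib.Helper10.ExtCongr.extCongr e2 (Iso.refl _) i))⟩

end Main

end Groth.Agent.Lib.Helper19.ExtExcision
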