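import Groth.Agent.Lib.Helper19.SheafHomDelta
import Groth.Agent.Lib.Cohomology.Helper3_RDerComp2
import Groth.Agent.Lib.Cohomology.Helper3_Acyclic
import Mathlib.CategoryTheory.Limits.Constructions.FiniteProductsOfBinaryProducts

/-!
# `ℰxt^{p+1}(O^n, G) = 0` on a ringed site (helper19)

Namespace `Groth.Agent.Lib.Helper19.ExtFree`.
-/

set_option autoImplicit false
set_option linter.style.haveILetI false
universe u
open CategoryTheory CategoryTheory.Limits Opposite MonoidalCategory
open ModSite ExtSupp Groth.Agent.Lib.Helper94.ModTensor Groth.Agent.Lib.Helper94.ModTensorW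
open Groth.Agent.Lib.Helper19.ContraDelta Groth.Agent.Lib.Helper19.SheafHomDelta

namespace Groth.Agent.Lib.Helper19.ExtFree

variable {C : Type u} [SmallCategory C] {J : GrothendieckTopology C} (O : Sheaf J CommRingCat.{u})

/-- `- ⊗ O ≅ id` -/
noncomputable def tensRUnitIso : tensR O (ModSite.unit O) ≅ 𝟭 (Mod O) :=
  tensRIso O (ModSite.unit O) ≪≫
    Functor.isoWhiskerLeft (fgt O)
      (Functor.isoWhiskerRight (rightUnitorNatIso (PMod O)) (shf O) ≪≫ (shf O).leftUnitor) ≪≫
    asIso (shfAdj O).counit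

/-- `ℋom(O, -) ≅ id` -/
noncomputable def sheafHomUnitIso : sheafHom (ModSite.unit O) ≅ 𝟭 (Mod O) :=
  ((sheafHomAdj (ModSite.unit O)).ofNatIsoLeft (tensRUnitIso O)).rightAdjointUniq Adjunction.id

variable [HasInjectiveResolutions (Mod O)]

theorem isZero_extSh_unit (G : Mod O) (p : ℕ) :
    IsZero ((extSh (ModSite.unit O) (p + 1)).obj G) := by
  haveI : EnoughInjectives (Mod O) := ⟨fun Z => by
    have hm : Mono ((injectiveResolution Z).ι.f 0) := inferInstance
    exact ⟨⟨(injectiveResolution Z).cocomplex.X 0, inferInstance,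
      (injectiveResolution Z).ι.f 0, hm⟩⟩⟩
  have h1 : IsZero (((𝟭 (Mod O)).rightDerived (p + 1)).obj G) :=
    Groth.Agent.Lib.Cohomology.isZero_rightDerived_succ_of_class (𝟭 (Mod O)) (fun _ => True)
      (fun _ _ => trivial) (fun _ _ _ _ => trivial)
      (fun S hS _ => by have := hS.epi_g; exact this) G trivial p
  exact IsZero.of_iso h1
    ((Groth.Agent.Lib.Cohomology.RDerComp.rightDerivedIso (sheafHomUnitIso O) (p + 1)).app G)

variable {O} (G : Mod O)

/-- `M` is acyclic for `ℰxt(-, G)` -/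
def Acyc (M : Mod O) : Prop := ∀ p : ℕ, IsZero ((Tsite G (p + 1)).obj (op M))

variable {G}

lemma acyc_of_iso {M M' : Mod O} (e : M ≅ M') (h : Acyc G M) : Acyc G M' :=
  fun p => IsZero.of_iso (h p) ((Tsite G (p + 1)).mapIso e.op)

lemma acyc_of_shortExact {S : ShortComplex (Mod O)} (hS : S.ShortExact) (h1 : Acyc G S.X₁)
    (h3 : Acyc G S.X₃) : Acyc G S.X₂ := by
  intro p
  obtain ⟨w, hex⟩ := (isContraDelta G).exact₂ S hS (p + 1)
  exact hex.isZero_of_both_zeros ((h3 p).eq_of_src _ _) ((h1 p).eq_of_tgt _ _)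

lemma acyc_of_isZero {M : Mod O} (hM : IsZero M) : Acyc G M := by
  intro p
  let S : ShortComplex (Mod O) := ShortComplex.mk (𝟙 M) (𝟙 M) (hM.eq_of_src _ _)
  have hS : S.ShortExact :=
    ShortComplex.ShortExact.mk' (ShortComplex.exact_of_isZero_X₂ _ hM)
      (by dsimp [S]; infer_instance) (by dsimp [S]; infer_instance)
  obtain ⟨w, -⟩ := (isContraDelta G).exact₂ S hS (p + 1)
  have h1 : (Tsite G (p + 1)).map (𝟙 M).op = 𝟙 _ := by
    rw [op_id, CategoryTheory.Functor.map_id]
  change (Tsite G (p + 1)).map (𝟙 M).op ≫ (Tsite G (p + 1)).map (𝟙 M).op = 0 at w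
  rw [h1, Category.comp_id] at w
  exact (IsZero.iff_id_eq_zero _).2 w

lemma acyc_coprod {A B : Mod O} (hA : Acyc G A) (hB : Acyc G B) : Acyc G (A ⨿ B) := by
  let S : ShortComplex (Mod O) :=
    ShortComplex.mk (biprod.inl : A ⟶ A ⊞ B) (biprod.snd : A ⊞ B ⟶ B) (by simp)
  have hS : S.ShortExact := (ShortComplex.Splitting.ofHasBinaryBiproduct A B).shortExact
  have h2 : Acyc G S.X₂ := acyc_of_shortExact hS hA hB
  exact acyc_of_iso (biprod.isoCoprod A B) h2

theorem acyc_free (n : ℕ) : Acyc G (∐ fun _ : Fin n => ModSite.unit O) := by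
  induction n with
  | zero =>
    apply acyc_of_isZero
    rw [IsZero.iff_id_eq_zero]
    apply Sigma.hom_ext
    intro b
    exact Fin.elim0 b
  | succ n ih =>
    let f : Fin (n + 1) → Mod O := fun _ => ModSite.unit O
    let c₁ : Cofan (fun i : Fin n => f i.succ) := Cofan.mk _ (Sigma.ι (fun i : Fin n => f i.succ))
    have t₁ : IsColimit c₁ := coproductIsCoproduct _
    let c₂ : BinaryCofan (f 0) c₁.pt := BinaryCofan.mk coprod.inl coprod.inr
    have t₂ : IsColimit c₂ := coprodIsCoprod _ _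
    have t := extendCofanIsColimit f t₁ t₂
    let e : (f 0 ⨿ c₁.pt) ≅ ∐ f :=
      IsColimit.coconePointUniqueUpToIso t (colimit.isColimit _)
    refine acyc_of_iso e (acyc_coprod ?_ ih)
    intro p
    exact isZero_extSh_unit O G p

theorem isZero_extSh_free (n : ℕ) (p : ℕ) :
    IsZero ((extSh (∐ fun _ : Fin n => ModSite.unit O) (p + 1)).obj G) :=
  acyc_free n p

end Groth.Agent.Lib.Helper19.ExtFree
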