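import Groth.Agent.Lib.Helper19.ExtFree
import Groth.Agent.Lib.Helper94.JShriekExt
import Groth.Prelude.Def_FlatMod2
import Mathlib.AlgebraicGeometry.Modules.Sheaf
import Mathlib.Topology.Sheaves.Module

/-!
# `ℰxt^{p+1}(E, G) = 0` for `E` finite locally free on a scheme (helper19)

Namespace `Groth.Agent.Lib.Helper19.ExtLocFree`.
-/

set_option autoImplicit false
set_option linter.style.haveILetI false
universe u
open CategoryTheory CategoryTheory.Limits Opposite AlgebraicGeometry
open ModSite ExtSupp Groth.Agent.Lib.Helper34.NullLocal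
open Groth.Agent.Lib.Helper19.ContraDelta Groth.Agent.Lib.Helper19.SheafHomDelta
open Groth.Agent.Lib.Helper19.ExtFree

namespace Groth.Agent.Lib.Helper19.ExtLocFree

section Site

variable {C : Type u} [SmallCategory C] {J : GrothendieckTopology C} {O : Sheaf J CommRingCat.{u}}

theorem isZero_of_zeroSieve_mem (N : Mod O)
    (h : ∀ (V : C) (s : sect N V), zeroSieve N s ∈ J V) : IsZero N := by
  rw [IsZero.iff_id_eq_zero]
  apply hom_eq_zero_of_app
  intro V s
  exact eq_zero_of_zeroSieve_mem N s (h V s)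

lemma sect_eq_zero_of_isZero {M : Mod O} (hM : IsZero M) (V : C) (s : sect M V) : s = 0 := by
  have h : 𝟙 M = 0 := (IsZero.iff_id_eq_zero _).1 hM
  have h1 : app (𝟙 M) V s = app (0 : M ⟶ M) V s := by rw [h]
  exact h1

theorem hasInjectiveResolutions_over (O : Sheaf J CommRingCat.{u}) (U : C) :
    HasInjectiveResolutions (Mod (O.over U)) := by
  have := Groth.Agent.S0484.result (J.over U) (ringSh (O.over U))
  infer_instance

/-- if `E|_U` is free of finite rank then `ℰxt^{p+1}(E, G)|_U = 0` -/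
theorem isZero_restr_extSh [HasInjectiveResolutions (Mod O)] (U : C) (E G : Mod O) (n : ℕ)
    (e : (restr O U).obj E ≅ ∐ fun _ : Fin n => ModSite.unit (O.over U)) (p : ℕ) :
    IsZero ((restr O U).obj ((extSh E (p + 1)).obj G)) := by
  haveI := hasInjectiveResolutions_over O U
  obtain ⟨i1⟩ := Groth.Agent.Lib.Helper94.JShriek.nonempty_extSh_restr_iso O U E (p + 1)
  have h1 : Acyc ((restr O U).obj G) ((restr O U).obj E) :=
    acyc_of_iso e.symm (acyc_free n)
  exact IsZero.of_iso (h1 p) (i1.app G)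

end Site

section Scheme

variable {X : Scheme.{u}}

/-- bridging: a trivialisation of `E|_U` on the scheme `U` gives one on the localised site -/
theorem nonempty_restr_iso_free (E : X.Modules) (U : X.Opens) (n : ℕ)
    (e : E.restrict U.ι ≅ FlatMod.freeMod (↑U) n) :
    Nonempty ((restr X.sheaf U).obj E ≅ ∐ fun _ : Fin n => ModSite.unit (X.sheaf.over U)) := by
  let Φ := Scheme.Modules.overEquiv U
  let i1 : Φ.functor.obj ((restr X.sheaf U).obj E) ≅ E.restrict U.ι :=
    (Scheme.Modules.overFunctorEquiv U).app E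
  let i2 : Φ.inverse.obj (Φ.functor.obj ((restr X.sheaf U).obj E)) ≅
      Φ.inverse.obj (∐ fun _ : Fin n => Coh.structureModule (↑U : Scheme.{u})) :=
    Φ.inverse.mapIso (i1 ≪≫ e)
  let i3 : Φ.inverse.obj (∐ fun _ : Fin n => Coh.structureModule (↑U : Scheme.{u})) ≅
      ∐ fun _ : Fin n => Φ.inverse.obj (Coh.structureModule (↑U : Scheme.{u})) :=
    (PreservesCoproduct.iso Φ.inverse _)
  let i4 : (∐ fun _ : Fin n => Φ.inverse.obj (Coh.structureModule (↑U : Scheme.{u}))) ≅
      ∐ fun _ : Fin n => ModSite.unit (X.sheaf.over U) :=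
    Sigma.mapIso (fun _ => TopologicalSpace.Opens.sheafOfModulesEquivOverInverseUnit U X.ringCatSheaf)
  exact ⟨Φ.unitIso.app _ ≪≫ i2 ≪≫ i3 ≪≫ i4⟩

instance hasSheafHomScheme (M : Mod X.sheaf) : HasSheafHom (O := X.sheaf) M :=
  Groth.Agent.S6165.result X.sheaf M

/-- **finite locally free modules are acyclic for `ℰxt(-, G)`** -/
theorem isZero_extSh_of_isFinLocFree [HasInjectiveResolutions (Mod X.sheaf)] (E G : Mod X.sheaf)
    (hE : FlatMod.IsFinLocFree (X := X) E) (p : ℕ) :
    IsZero ((extSh (O := X.sheaf) E (p + 1)).obj G) := by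
  apply isZero_of_zeroSieve_mem (O := X.sheaf)
  intro V s x hx
  obtain ⟨U, n, hxU, ⟨e⟩⟩ := hE x
  obtain ⟨e'⟩ := nonempty_restr_iso_free E U n e
  have hz := isZero_restr_extSh (O := X.sheaf) U E G n e' p
  refine ⟨U ⊓ V, homOfLE inf_le_right, ?_, ⟨hxU, hx⟩⟩
  exact sect_eq_zero_of_isZero hz (Over.mk (homOfLE inf_le_left : U ⊓ V ⟶ U)) _

end Scheme

end Groth.Agent.Lib.Helper19.ExtLocFree
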