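import Groth.Agent.Lib.Cohomology.Helper3_ExtDelta

/-!
# Natural comparison of `Ext` along an exact functor (helper19)

If `R : 𝒜 ⥤ ℬ` is exact, `Ext^0(A, -) ≅ Ext^0(B, R -)` naturally and `Ext^{n+1}(B, R I) = 0` for
injective `I`, then `Ext^n(A, -) ≅ Ext^n(B, R -)` as functors, by uniqueness of universal δ-functors.
-/

set_option autoImplicit false
universe w v u v' u'
open CategoryTheory CategoryTheory.Limits

namespace Groth.Agent.Lib.Helper19.ExtNat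

open Abelian Groth.Agent.Lib.Cohomology.ExtDelta

variable {𝒜 : Type u} [Category.{v} 𝒜] [Abelian 𝒜] [HasExt.{w} 𝒜]
  {ℬ : Type u'} [Category.{v'} ℬ] [Abelian ℬ] [HasExt.{w} ℬ]
  (R : 𝒜 ⥤ ℬ) [R.Additive] [PreservesFiniteLimits R] [PreservesFiniteColimits R]
  (B : ℬ)

/-- the δ-functor `n ↦ R ⋙ Ext^n(B, -)` for `R` exact -/
noncomputable def preDelta : DeltaF.CohDeltaFunctor 𝒜 AddCommGrpCat.{w} ℕ where
  F n := R ⋙ extFunctorObj.{w} B n
  additive _ := inferInstance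
  δ S hS n₀ n₁ h := (extDelta.{w} B).δ (S.map R) (hS.map_of_exact R) n₀ n₁ h
  δ_natural hS hS' φ n₀ n₁ h :=
    (extDelta.{w} B).δ_natural (hS.map_of_exact R) (hS'.map_of_exact R) (R.mapShortComplex.map φ) n₀ n₁ h
  exact₂ S hS n := (extDelta.{w} B).exact₂ (S.map R) (hS.map_of_exact R) n
  comp_δ S hS n₀ n₁ h := (extDelta.{w} B).comp_δ (S.map R) (hS.map_of_exact R) n₀ n₁ h
  exact₃ S hS n₀ n₁ h := (extDelta.{w} B).exact₃ (S.map R) (hS.map_of_exact R) n₀ n₁ h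
  δ_comp S hS n₀ n₁ h := (extDelta.{w} B).δ_comp (S.map R) (hS.map_of_exact R) n₀ n₁ h
  exact₁ S hS n₀ n₁ h := (extDelta.{w} B).exact₁ (S.map R) (hS.map_of_exact R) n₀ n₁ h

/-- a natural family of additive equivalences of `Ext` groups, as an isomorphism of functors -/
noncomputable def natIsoOfAddEquiv (A : 𝒜) (n : ℕ)
    (t : ∀ F : 𝒜, Ext.{w} A F n ≃+ Ext.{w} B (R.obj F) n)
    (ht : ∀ (F G : 𝒜) (g : F ⟶ G) (x : Ext.{w} A F n),
      t G (x.comp (Ext.mk₀ g) (add_zero n)) = (t F x).comp (Ext.mk₀ (R.map g)) (add_zero n)) :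
    extFunctorObj.{w} A n ≅ R ⋙ extFunctorObj.{w} B n :=
  NatIso.ofComponents (fun F => (t F).toAddCommGrpIso) (fun {F G} g => by
    ext x
    exact ht F G g x)

variable [EnoughInjectives 𝒜]

theorem preDelta_isUniversal
    (hacyc : ∀ (n : ℕ) (I : 𝒜), Injective I → Subsingleton (Ext.{w} B (R.obj I) (n + 1))) :
    (preDelta.{w} R B).IsUniversal :=
  Groth.Agent.S6773.result _ ((Groth.Agent.S14349.result _).2 (fun n I hI => by
    have := hacyc n I hI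
    exact AddCommGrpCat.isZero_of_subsingleton (AddCommGrpCat.of (Ext.{w} B (R.obj I) (n + 1)))))

/-- `Ext^n(A, -) ≅ R ⋙ Ext^n(B, -)` as functors -/
theorem nonempty_extFunctorObj_iso (A : 𝒜)
    (e0 : extFunctorObj.{w} A 0 ≅ R ⋙ extFunctorObj.{w} B 0)
    (hacyc : ∀ (n : ℕ) (I : 𝒜), Injective I → Subsingleton (Ext.{w} B (R.obj I) (n + 1)))
    (n : ℕ) : Nonempty (extFunctorObj.{w} A n ≅ R ⋙ extFunctorObj.{w} B n) := by
  obtain ⟨φ, -, -⟩ := Groth.Agent.S6774.result (extDelta.{w} A) (preDelta.{w} R B)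
    (extDelta_isUniversal.{w} A) (preDelta_isUniversal.{w} R B hacyc) e0
  exact ⟨⟨φ.hom.app n, φ.inv.app n,
    congrArg (fun τ => DeltaF.CohDeltaFunctor.Hom.app τ n) φ.hom_inv_id,
    congrArg (fun τ => DeltaF.CohDeltaFunctor.Hom.app τ n) φ.inv_hom_id⟩⟩

/-- elementwise form: a family of additive equivalences, natural in the second variable -/
theorem exists_ext_addEquiv_natural (A : 𝒜)
    (e0 : extFunctorObj.{w} A 0 ≅ R ⋙ extFunctorObj.{w} B 0)
    (hacyc : ∀ (n : ℕ) (I : 𝒜), Injective I → Subsingleton (Ext.{w} B (R.obj I) (n + 1)))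
    (n : ℕ) :
    ∃ e : ∀ F : 𝒜, Ext.{w} A F n ≃+ Ext.{w} B (R.obj F) n,
      ∀ (F G : 𝒜) (φ : F ⟶ G) (x : Ext.{w} A F n),
        e G (x.comp (Ext.mk₀ φ) (add_zero n)) = (e F x).comp (Ext.mk₀ (R.map φ)) (add_zero n) := by
  obtain ⟨Φ⟩ := nonempty_extFunctorObj_iso.{w} R B A e0 hacyc n
  refine ⟨fun F => (Φ.app F).addCommGroupIsoToAddEquiv, fun F G φ x => ?_⟩
  have h := Φ.hom.naturality φ
  have h2 : ((extFunctorObj.{w} A n).map φ ≫ Φ.hom.app G).hom x =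
      (Φ.hom.app F ≫ (R ⋙ extFunctorObj.{w} B n).map φ).hom x := by rw [h]
  exact h2

end Groth.Agent.Lib.Helper19.ExtNat
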