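import Groth.Agent.Lib.Helper53.ToposFinColim
import Groth.Prelude.Def_CohCx

/-!
# Global sections commute with filtered colimits in a topos with enough quasi-compact covers of
the final object (helper19)

Namespace `Groth.Agent.Lib.Helper19.GlobalSecColim`.
-/

set_option autoImplicit false
set_option linter.unusedSectionVars false
set_option linter.style.haveILetI false
universe u
open CategoryTheory CategoryTheory.Limits Opposite

namespace Groth.Agent.Lib.Helper19.GlobalSecColim

open ToposFin Groth.Agent.Helper53.TF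

variable {C : Type u} [SmallCategory C] {J : GrothendieckTopology C}

lemma jointlySurjective_iff {K : Sh J} {I : Type u} {L : I → Sh J} (f : ∀ i, L i ⟶ K) :
    CohCx.JointlySurjective f ↔ JE f := by
  rw [JE_iff_coverSieve]
  constructor
  · intro h U x
    obtain ⟨S, hS, hS'⟩ := h U x
    refine J.superset_covering ?_ hS
    intro V g hg
    exact hS' V g hg
  · intro h U x
    exact ⟨coverSieve f x, h U x, fun V g hg => hg⟩

lemma isQC_of_isQcObject {K : Sh J} (h : CohCx.IsQcObject K) : IsQC K := by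
  rw [isQC_iff]
  intro ι F π hπ
  obtain ⟨t, ht⟩ := h ι F π ((jointlySurjective_iff π).2 hπ)
  exact ⟨t, (jointlySurjective_iff (fun i : t => π i.1)).1 ht⟩

section Main

variable {Λ : Type u} [SmallCategory Λ] [IsFiltered Λ] (D : Λ ⥤ Sh J)

theorem bijective_post_terminal (S : Set (Sh J))
    (hSa : ∀ F : Sh J, Epi (terminal.from F) →
      ∃ K ∈ S, Epi (terminal.from K) ∧ Nonempty (K ⟶ F))
    (hSb : ∀ K ∈ S, IsQC (K ⨯ K)) :
    Function.Bijective (colimit.post D (coyoneda.obj (op (⊤_ (Sh J))))) := by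
  classical
  have hTe : Epi (terminal.from (⊤_ (Sh J))) := by
    rw [Subsingleton.elim (terminal.from (⊤_ (Sh J))) (𝟙 _)]
    infer_instance
  obtain ⟨K₀, hK₀, hK₀e, -⟩ := hSa (⊤_ _) hTe
  have hK₀qc : IsQC K₀ := by
    haveI : IsSplitEpi (prod.fst : K₀ ⨯ K₀ ⟶ K₀) :=
      IsSplitEpi.mk' ⟨prod.lift (𝟙 K₀) (𝟙 K₀), prod.lift_fst _ _⟩
    exact isQC_of_epi prod.fst (hSb K₀ hK₀)
  have hTqc : IsQC (⊤_ (Sh J)) := isQC_of_epi (terminal.from K₀) hK₀qc
  refine ⟨injective_post_of_isQC hTqc Λ D, ?_⟩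
  intro φ
  change (⊤_ (Sh J)) ⟶ colimit D at φ
  let c := colimit.cocone D
  have hc : IsColimit c := colimit.isColimit D
  have h1 : JE (fun i => pullback.fst φ (c.ι.app i)) := (JE_cocone_legs D hc).pullback_fst φ
  obtain ⟨s, hs⟩ := isQC_exists_finset hTqc _ h1
  obtain ⟨m₀, hm₀⟩ := IsFiltered.sup_objs_exists s
  let P := pullback φ (c.ι.app m₀)
  have hP : Epi (terminal.from P) := by
    have hJE : JE (fun _ : Unit => pullback.fst φ (c.ι.app m₀)) := by
      refine JE.of_factor hs (fun _ : Unit => pullback.fst φ (c.ι.app m₀)) (fun _ => ())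
        (fun i => pullback.lift (pullback.fst φ (c.ι.app i.1))
          (pullback.snd φ (c.ι.app i.1) ≫ D.map (hm₀ i.2).some)
          (by rw [Category.assoc, c.w, pullback.condition])) (fun i => ?_)
      exact pullback.lift_fst _ _ _
    constructor
    intro Z a b hab
    apply hJE
    intro _
    rw [Subsingleton.elim (pullback.fst φ (c.ι.app m₀)) (terminal.from P)]
    exact hab
  obtain ⟨K, hK, hKe, ⟨g⟩⟩ := hSa P hP
  obtain ⟨ψ', hψ'⟩ : ∃ ψ' : K ⟶ D.obj m₀, ψ' ≫ c.ι.app m₀ = terminal.from K ≫ φ := by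
    refine ⟨g ≫ pullback.snd φ (c.ι.app m₀), ?_⟩
    rw [Category.assoc, ← pullback.condition, ← Category.assoc]
    congr 1
    exact Subsingleton.elim _ _
  have hab : (prod.fst ≫ ψ') ≫ c.ι.app m₀ = (prod.snd ≫ ψ') ≫ c.ι.app m₀ := by
    rw [Category.assoc, Category.assoc, hψ', ← Category.assoc, ← Category.assoc]
    congr 1
    exact Subsingleton.elim _ _
  obtain ⟨j, f, hf⟩ := exists_map_eq_of_isQC D (hSb K hK) hc (prod.fst ≫ ψ') (prod.snd ≫ ψ') hab
  have hγ : JE (fun _ : PUnit.{u + 1} => terminal.from K) := by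
    intro Z a b hab
    rw [← cancel_epi (terminal.from K)]
    exact hab PUnit.unit
  obtain ⟨d, hd⟩ := JE.exists_desc hγ (fun _ => ψ' ≫ D.map f) (by
    intro k l
    have := congrArg (fun t => prod.lift (pullback.fst (terminal.from K) (terminal.from K))
      (pullback.snd (terminal.from K) (terminal.from K)) ≫ t) hf
    simpa only [Category.assoc, prod.lift_fst_assoc, prod.lift_snd_assoc] using this)
  have hdφ : d ≫ c.ι.app j = φ := by
    rw [← cancel_epi (terminal.from K), ← Category.assoc, hd PUnit.unit, Category.assoc, c.w, hψ']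
  refine ⟨(colimit.cocone (D ⋙ coyoneda.obj (op (⊤_ (Sh J))))).ι.app j d, ?_⟩
  exact (ConcreteCategory.congr_hom
    (colimit.ι_post D (coyoneda.obj (op (⊤_ (Sh J)))) j) d).trans hdφ

theorem preservesColimit_coyoneda_terminal (S : Set (Sh J))
    (hSa : ∀ F : Sh J, Epi (terminal.from F) →
      ∃ K ∈ S, Epi (terminal.from K) ∧ Nonempty (K ⟶ F))
    (hSb : ∀ K ∈ S, IsQC (K ⨯ K)) :
    PreservesColimit D (coyoneda.obj (op (⊤_ (Sh J)))) := by
  haveI : IsIso (colimit.post D (coyoneda.obj (op (⊤_ (Sh J))))) :=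
    (isIso_iff_bijective _).2 (bijective_post_terminal D S hSa hSb)
  exact preservesColimit_of_isIso_post _ _

end Main

end Groth.Agent.Lib.Helper19.GlobalSecColim
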