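import Groth.Agent.Lib.Helper19.SheafHomColim
import Groth.Agent.Lib.Helper73.QcSections
import Groth.Agent.Lib.Helper53.ToposCechColim
import Groth.Agent.Lib.Helper94.ModSiteBasic

/-!
# `Hom(G, -)` commutes with filtered colimits for `G` of finite presentation on a
quasi-compact quasi-separated ringed site with a terminal object (helper19)

Namespace `Groth.Agent.Lib.Helper19.HomColim`.
-/

set_option autoImplicit false
set_option linter.unusedSectionVars false
set_option linter.style.haveILetI false
universe u
open CategoryTheory CategoryTheory.Limits Opposite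

namespace Groth.Agent.Lib.Helper19.HomColim

open ModSite ExtSupp Groth.Agent.Lib.Helper94.ModTensor Groth.Agent.Lib.Helper94.ModTensorW
  Groth.Agent.Lib.Helper94.ModFlat Groth.Agent.Lib.Helper94.JShriek
  Groth.Agent.Lib.Helper19.SheafHomColim Groth.Agent.Lib.Helper19.CechTop
  Groth.Agent.Lib.Helper73

variable {C : Type u} [SmallCategory C] {J : GrothendieckTopology C} (O : Sheaf J CommRingCat.{u})

/-- sections over `T`, as a type -/
noncomputable def sectType (T : C) : Mod O ⥤ Type u :=
  SheafOfModules.toSheaf (ringSh O) ⋙ U J ⋙ sheafToPresheaf J (Type u) ⋙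
    (evaluation Cᵒᵖ (Type u)).obj (op T)

theorem preservesColimitsOfShape_sectType [HasPullbacks C] {T : C}
    (hT : HasFiniteSubcoversQS J T) (Λ : Type u) [SmallCategory Λ] [IsFiltered Λ] :
    PreservesColimitsOfShape Λ (sectType O T) := by
  haveI := Groth.Agent.Lib.Helper94.ModSiteBasic.toSheaf_preservesColimitsOfSize (ringSh O)
  haveI : PreservesColimitsOfShape Λ (U J) :=
    (Groth.Agent.Helper53.TFC.preservesFilteredColimits_U J).preserves_filtered_colimits Λ
  haveI : PreservesColimitsOfShape Λ
      (sheafToPresheaf J (Type u) ⋙ (evaluation Cᵒᵖ (Type u)).obj (op T)) :=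
    preservesColimitsOfShape_sections_of_hasFiniteSubcoversQS J hT
  unfold sectType
  infer_instance

/-- `Hom(O, M) = M(T)` for `T` terminal -/
noncomputable def coyonedaUnitIso {T : C} (hT : IsTerminal T) :
    coyoneda.obj (op (ModSite.unit O)) ≅ sectType O T :=
  NatIso.ofComponents (fun M => (unitHomAddEquiv M hT).toEquiv.toIso)
    (fun {M N} φ => by
      ext f
      rfl)

/-- `O ⊗ G ≅ G` -/
noncomputable def unitTensIso (G : Mod O) : (tensR O G).obj (ModSite.unit O) ≅ G :=
  (tensLIsoTensR O (ModSite.unit O)).app G ≪≫ (Groth.Agent.Lib.Helper19.ExtFree.tensRUnitIso O).app G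

/-- `Hom(G, F) = Hom(O, ℋom(G, F))` -/
noncomputable def coyonedaIso (G : Mod O) [HasSheafHom G] :
    coyoneda.obj (op G) ≅ sheafHom G ⋙ coyoneda.obj (op (ModSite.unit O)) :=
  NatIso.ofComponents
    (fun F => Equiv.toIso
      ((Iso.homFromEquiv (unitTensIso O G)).symm.trans
        ((sheafHomAdj G).homEquiv (ModSite.unit O) F)))
    (fun {M N} φ => by
      ext f
      change ((sheafHomAdj G).homEquiv _ N) ((unitTensIso O G).hom ≫ f ≫ φ) =
        ((sheafHomAdj G).homEquiv _ M) ((unitTensIso O G).hom ≫ f) ≫ (sheafHom G).map φ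
      rw [← Category.assoc, Adjunction.homEquiv_naturality_right])

/-- **`Hom(G, -)` commutes with filtered colimits** for `G` of finite presentation when the terminal
object is quasi-compact and quasi-separated. -/
theorem preservesColimit_coyoneda [HasPullbacks C] {T : C} (hT : IsTerminal T)
    (hqc : HasFiniteSubcoversQS J T) (G : Mod O)
    [SheafOfModules.IsFinitePresentation (R := ringSh O) G]
    {Λ : Type u} [SmallCategory Λ] [IsFiltered Λ] (D : Λ ⥤ Mod O) :
    PreservesColimit D (coyoneda.obj (op G)) := by
  haveI : PreservesColimit D (sheafHom G) :=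
    preservesColimit_sheafHom_of_isFinitePresentation G D
  haveI := preservesColimitsOfShape_sectType O hqc Λ
  haveI : PreservesColimit (D ⋙ sheafHom G) (coyoneda.obj (op (ModSite.unit O))) :=
    preservesColimit_of_natIso _ (coyonedaUnitIso O hT).symm
  haveI : PreservesColimit D (sheafHom G ⋙ coyoneda.obj (op (ModSite.unit O))) := inferInstance
  exact preservesColimit_of_natIso D (coyonedaIso O G).symm

end Groth.Agent.Lib.Helper19.HomColim
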