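import Groth.Agent.Lib.Helper19.HomColim

/-!
# Quasi-compact quasi-separated spaces: finite subcovers for the site of opens (helper19)

Namespace `Groth.Agent.Lib.Helper19.HomColimTop`.
-/

set_option autoImplicit false
set_option linter.unusedSectionVars false
set_option linter.style.haveILetI false
universe u
open CategoryTheory CategoryTheory.Limits Opposite TopologicalSpace

namespace Groth.Agent.Lib.Helper19.HomColimTop

open Groth.Agent.Lib.Helper73

variable {X : TopCat.{u}}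

theorem hasFiniteSubcovers_of_isCompact (W : Opens X) (hW : IsCompact (W : Set X)) :
    HasFiniteSubcovers (Opens.grothendieckTopology X) W := by
  intro S hS
  have h : ∀ x : W, ∃ (V : Opens X) (f : V ⟶ W), S f ∧ x.1 ∈ V := fun x => hS x.1 x.2
  choose V f hSf hxV using h
  obtain ⟨t, ht⟩ := hW.elim_finite_subcover (fun x : W => (V x : Set X)) (fun x => (V x).isOpen)
    (fun x hx => Set.mem_iUnion.2 ⟨⟨x, hx⟩, hxV _⟩)
  let e := t.equivFin
  refine ⟨t.card, fun k => V (e.symm k).1, fun k => f (e.symm k).1, fun k => hSf _, ?_⟩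
  intro x hx
  have := ht hx
  simp only [Set.mem_iUnion] at this
  obtain ⟨y, hyt, hy⟩ := this
  obtain ⟨k, hk⟩ : ∃ k, (e.symm k).1 = y := ⟨e ⟨y, hyt⟩, by simp⟩
  subst hk
  exact ⟨V (e.symm k).1, f (e.symm k).1, Sieve.ofArrows_mk _ _ k, hy⟩

theorem hasFiniteSubcoversQS_top
    (hX : ∀ (ι : Type u) (V : ι → Opens X), iSup V = ⊤ →
      ∃ (J : Type u) (_ : Finite J) (U : J → Opens X), iSup U = ⊤ ∧ (∀ j, ∃ i, U j ≤ V i) ∧
        ∀ j j', IsCompact ((U j ⊓ U j' : Opens X) : Set X)) :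
    HasFiniteSubcoversQS (Opens.grothendieckTopology X) ⊤ := by
  intro S hS
  let ι := {V : Opens X // ∃ f : V ⟶ ⊤, S f}
  have hcov : iSup (fun i : ι => i.1) = ⊤ := by
    rw [eq_top_iff]
    intro x hx
    obtain ⟨V, f, hf, hxV⟩ := hS x hx
    exact Opens.mem_iSup.2 ⟨⟨V, f, hf⟩, hxV⟩
  obtain ⟨K, hK, U, hU, href, hcpt⟩ := hX ι (fun i => i.1) hcov
  obtain ⟨n, ⟨e⟩⟩ := Finite.exists_equiv_fin K
  refine ⟨n, fun k => U (e.symm k), fun k => homOfLE le_top, ?_, ?_, ?_⟩
  · intro k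
    obtain ⟨i, hi⟩ := href (e.symm k)
    obtain ⟨f, hf⟩ := i.2
    have := S.downward_closed hf (homOfLE hi)
    rwa [Subsingleton.elim (homOfLE hi ≫ f) (homOfLE le_top)] at this
  · intro x hx
    have hx' : x ∈ iSup U := hU ▸ hx
    obtain ⟨j, hj⟩ := Opens.mem_iSup.1 hx'
    obtain ⟨k, rfl⟩ : ∃ k, e.symm k = j := ⟨e j, by simp⟩
    exact ⟨U (e.symm k), homOfLE le_top, Sieve.ofArrows_mk _ _ k, hj⟩
  · intro k l
    have heq : pullback (homOfLE le_top : U (e.symm k) ⟶ ⊤) (homOfLE le_top : U (e.symm l) ⟶ ⊤) =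
        U (e.symm k) ⊓ U (e.symm l) := by
      apply le_antisymm
      · exact le_inf (leOfHom (pullback.fst _ _)) (leOfHom (pullback.snd _ _))
      · exact leOfHom (pullback.lift (homOfLE inf_le_left) (homOfLE inf_le_right)
          (Subsingleton.elim _ _))
    rw [heq]
    exact hasFiniteSubcovers_of_isCompact _ (hcpt _ _)

end Groth.Agent.Lib.Helper19.HomColimTop
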