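import Groth.Agent.Lib.Helper19.GlobalSecColim
import Groth.Agent.Lib.Helper19.HomColim

/-!
# `Hom(F, -)` commutes with filtered colimits for `F` of finite presentation, topos version
(helper19)

Namespace `Groth.Agent.Lib.Helper19.HomColimTopos`.
-/

set_option autoImplicit false
set_option linter.unusedSectionVars false
set_option linter.style.haveILetI false
universe u
open CategoryTheory CategoryTheory.Limits Opposite

namespace Groth.Agent.Lib.Helper19.HomColimTopos

open ModSite ExtSupp ToposFin Groth.Agent.Lib.Helper19.CechTop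
  Groth.Agent.Lib.Helper19.SheafHomColim Groth.Agent.Lib.Helper19.HomColim
  Groth.Agent.Lib.Helper19.GlobalSecColim

variable {C : Type u} [SmallCategory C] (J : GrothendieckTopology C)

/-- the terminal sheaf of sets -/
abbrev T₀ : Sh J := Sheaf.terminal J Types.isTerminalPUnit

/-- `Hom(*, F) = Γ(F)` -/
noncomputable def coyonedaT₀Iso :
    coyoneda.obj (op (T₀ J)) ≅ sheafToPresheaf J (Type u) ⋙ Functor.sectionsFunctor Cᵒᵖ :=
  NatIso.ofComponents
    (fun F => Equiv.toIso
      ((fullyFaithfulSheafToPresheaf J (Type u)).homEquiv.trans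
        (F.obj.sectionsEquivHom PUnit).symm))
    (fun {F G} f => by
      ext x
      exact Functor.sectionsEquivHom_naturality_symm f.hom PUnit x.hom)

variable {J} (O : Sheaf J CommRingCat.{u})

/-- `Hom(O, M) = Γ(M)` -/
noncomputable def coyonedaUnitSectionsIso :
    coyoneda.obj (op (ModSite.unit O)) ≅
      SheafOfModules.toSheaf (ringSh O) ⋙ U J ⋙ sheafToPresheaf J (Type u) ⋙
        Functor.sectionsFunctor Cᵒᵖ :=
  NatIso.ofComponents (fun M => Equiv.toIso M.unitHomEquiv)
    (fun {M N} f => by
      ext x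
      rfl)

/-- `Hom(O, M) = Hom(*, M)` -/
noncomputable def coyonedaUnitIso' :
    coyoneda.obj (op (ModSite.unit O)) ≅
      SheafOfModules.toSheaf (ringSh O) ⋙ U J ⋙ coyoneda.obj (op (⊤_ (Sh J))) :=
  coyonedaUnitSectionsIso O ≪≫
    Functor.isoWhiskerLeft (SheafOfModules.toSheaf (ringSh O))
      (Functor.isoWhiskerLeft (U J)
        ((coyonedaT₀Iso J).symm ≪≫
          coyoneda.mapIso
            ((Sheaf.isTerminalTerminal J Types.isTerminalPUnit).uniqueUpToIso
              terminalIsTerminal).symm.op))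

theorem preservesColimit_coyoneda_unit (S : Set (Sh J))
    (hSa : ∀ F : Sh J, Epi (terminal.from F) →
      ∃ K ∈ S, Epi (terminal.from K) ∧ Nonempty (K ⟶ F))
    (hSb : ∀ K ∈ S, CohCx.IsQcObject (K ⨯ K))
    {Λ : Type u} [SmallCategory Λ] [IsFiltered Λ] (D : Λ ⥤ Mod O) :
    PreservesColimit D (coyoneda.obj (op (ModSite.unit O))) := by
  haveI := Groth.Agent.Lib.Helper94.ModSiteBasic.toSheaf_preservesColimitsOfSize (ringSh O)
  haveI : PreservesColimitsOfShape Λ (U J) :=
    (Groth.Agent.Helper53.TFC.preservesFilteredColimits_U J).preserves_filtered_colimits Λ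
  haveI : PreservesColimit ((D ⋙ SheafOfModules.toSheaf (ringSh O)) ⋙ U J)
      (coyoneda.obj (op (⊤_ (Sh J)))) :=
    preservesColimit_coyoneda_terminal _ S hSa (fun K hK => isQC_of_isQcObject (hSb K hK))
  haveI : PreservesColimit (D ⋙ SheafOfModules.toSheaf (ringSh O))
      (U J ⋙ coyoneda.obj (op (⊤_ (Sh J)))) := inferInstance
  haveI : PreservesColimit D
      (SheafOfModules.toSheaf (ringSh O) ⋙ U J ⋙ coyoneda.obj (op (⊤_ (Sh J)))) := inferInstance
  exact preservesColimit_of_natIso D (coyonedaUnitIso' O).symm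

/-- **`Hom(F, -)` commutes with filtered colimits** for `F` of finite presentation, under the
topos-theoretic quasi-compactness hypotheses. -/
theorem preservesColimit_coyoneda' (S : Set (Sh J))
    (hSa : ∀ F : Sh J, Epi (terminal.from F) →
      ∃ K ∈ S, Epi (terminal.from K) ∧ Nonempty (K ⟶ F))
    (hSb : ∀ K ∈ S, CohCx.IsQcObject (K ⨯ K))
    (F : Mod O) [SheafOfModules.IsFinitePresentation (R := ringSh O) F]
    {Λ : Type u} [SmallCategory Λ] [IsFiltered Λ] (D : Λ ⥤ Mod O) :
    PreservesColimit D (coyoneda.obj (op F)) := by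
  haveI : PreservesColimit D (sheafHom F) :=
    preservesColimit_sheafHom_of_isFinitePresentation F D
  haveI : PreservesColimit (D ⋙ sheafHom F) (coyoneda.obj (op (ModSite.unit O))) :=
    preservesColimit_coyoneda_unit O S hSa hSb _
  haveI : PreservesColimit D (sheafHom F ⋙ coyoneda.obj (op (ModSite.unit O))) := inferInstance
  exact preservesColimit_of_natIso D (coyonedaIso O F).symm

end Groth.Agent.Lib.Helper19.HomColimTopos
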