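import Groth.Agent.Lib.Helper19.ExtFree
import Groth.Agent.Lib.Helper94.ModAssoc

/-!
# Invertible modules on a ringed site: tensor products, duals, evaluation (helper19)

Namespace `Groth.Agent.Lib.Helper19.Invertible`.
-/

set_option autoImplicit false
set_option linter.style.haveILetI false
universe u
open CategoryTheory CategoryTheory.Limits Opposite MonoidalCategory
open ModSite Groth.Agent.Lib.Helper94.ModTensor Groth.Agent.Lib.Helper94.ModTensorW
open Groth.Agent.Lib.Helper94.ModFlat Groth.Agent.Lib.Helper94.ModAssoc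
open Groth.Agent.Lib.Helper19.ExtFree

namespace Groth.Agent.Lib.Helper19.Invertible

variable {C : Type u} [SmallCategory C] {J : GrothendieckTopology C} (O : Sheaf J CommRingCat.{u})

/-- `(M ⊗ N) ⊗ - ≅ M ⊗ (N ⊗ -)` -/
noncomputable def tensLCompIso (M N : Mod O) :
    tensL O (((tensorBi O).obj M).obj N) ≅ tensL O N ⋙ tensL O M :=
  NatIso.ofComponents (fun P => assocIso O M N P) (fun h => assoc_nat₃ O M N h)

/-- `O ⊗ - ≅ id` -/
noncomputable def tensLUnitIso : tensL O (ModSite.unit O) ≅ 𝟭 (Mod O) :=
  tensLIsoTensR O (ModSite.unit O) ≪≫ tensRUnitIso O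

theorem isEquivalence_tensL_tensor (L N : Mod O) (hL : (tensL O L).IsEquivalence)
    (hN : (tensL O N).IsEquivalence) :
    (tensL O (((tensorBi O).obj L).obj N)).IsEquivalence := by
  haveI := hL
  haveI := hN
  exact Functor.isEquivalence_of_iso (tensLCompIso O L N).symm

variable {O}

theorem isIso_counit_of_invertible (L : Mod O) (hL : (tensL O L).IsEquivalence) [HasSheafHom L] :
    IsIso ((sheafHomAdj L).counit.app (ModSite.unit O)) := by
  haveI := hL
  haveI : (tensR O L).IsEquivalence := Functor.isEquivalence_of_iso (tensLIsoTensR O L)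
  haveI : IsIso (sheafHomAdj L).counit := inferInstance
  infer_instance

theorem isEquivalence_tensL_dual (L : Mod O) (hL : (tensL O L).IsEquivalence) [HasSheafHom L] :
    (tensL O ((sheafHom L).obj (ModSite.unit O))).IsEquivalence := by
  haveI := hL
  haveI := isIso_counit_of_invertible L hL
  let D := (sheafHom L).obj (ModSite.unit O)
  -- `L ⊗ D ≅ O`
  let e1 : ((tensorBi O).obj L).obj D ≅ ModSite.unit O :=
    (tensLIsoTensR O L).app D ≪≫ asIso ((sheafHomAdj L).counit.app (ModSite.unit O))
  let e2 : tensL O D ⋙ tensL O L ≅ 𝟭 (Mod O) :=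
    (tensLCompIso O L D).symm ≪≫ (tensorBi O).mapIso e1 ≪≫ tensLUnitIso O
  haveI : (tensL O D ⋙ tensL O L).IsEquivalence := Functor.isEquivalence_of_iso e2.symm
  exact Functor.isEquivalence_of_comp_right (tensL O D) (tensL O L)

end Groth.Agent.Lib.Helper19.Invertible
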