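import Mathlib
import Groth.Agent.Lib.Helper94.JShriekPre

/-!
# Extension by zero for sheaves of modules over a (not necessarily commutative) ringed site

Port (helper19) of helper94's `JShriek` to `A : Sheaf J RingCat`, for `SheafOfModules.overFunctor`.
-/

set_option autoImplicit false

universe u
open CategoryTheory CategoryTheory.Limits Opposite

namespace Groth.Agent.Lib.Helper19.JShriekNC

open Groth.Agent.Lib.Helper94.JShriek Groth.Agent.Lib.Helper94.ModOver

variable {C : Type u} [SmallCategory C] {J : GrothendieckTopology C} (A : Sheaf J RingCat.{u}) (X : C)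

/-- presheaves of `A`-modules -/
abbrev PMod : Type (u + 1) := PresheafOfModules.{u} A.obj

/-- the forgetful functor to presheaves of modules -/
noncomputable abbrev fgt : SheafOfModules.{u} A ⥤ PMod A := SheafOfModules.forget A

/-- sheafification -/
noncomputable abbrev shf : PMod A ⥤ SheafOfModules.{u} A :=
  PresheafOfModules.sheafification (𝟙 A.obj)

/-- the sheafification adjunction -/
noncomputable def shfAdj : shf A ⊣ fgt A :=
  PresheafOfModules.sheafificationAdjunction (𝟙 A.obj)

instance : IsIso (shfAdj A).counit :=
  inferInstanceAs (IsIso (PresheafOfModules.sheafificationAdjunction (𝟙 A.obj)).counit)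

/-- locally bijective morphisms of presheaves of modules -/
def WMod : MorphismProperty (PMod A) :=
  fun _ _ f => J.W ((PresheafOfModules.toPresheaf _).map f)

variable {A}

theorem isIso_shf_map_of_wMod {P P' : PMod A} (f : P ⟶ P') (hf : WMod A f) :
    IsIso ((shf A).map f) := by
  have : IsIso ((SheafOfModules.toSheaf A).map ((shf A).map f)) := by
    change IsIso ((presheafToSheaf J AddCommGrpCat.{u}).map
      ((PresheafOfModules.toPresheaf _).map f))
    exact (J.W_iff _).1 hf
  exact isIso_of_reflects_iso _ (SheafOfModules.toSheaf A)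

theorem wMod_unit (M : PMod A) : WMod A ((shfAdj A).unit.app M) := by
  change J.W (CategoryTheory.toSheafify J M.presheaf)
  exact J.W_toSheafify _

variable (A)

/-- restriction of presheaves of modules to `C/X` -/
noncomputable abbrev restrP : PMod A ⥤ PMod (A.over X) := rPre A.obj X

variable {A}

theorem wMod_restrP {P P' : PMod A} (f : P ⟶ P') (hf : WMod A f) :
    WMod (A.over X) ((restrP A X).map f) := by
  unfold WMod at hf ⊢
  rw [J.W_iff_isLocallyBijective] at hf
  rw [(J.over X).W_iff_isLocallyBijective]
  have := hf.1
  have := hf.2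
  exact ⟨isLocallyInjective_over J X ((PresheafOfModules.toPresheaf _).map f),
    isLocallySurjective_over J X ((PresheafOfModules.toPresheaf _).map f)⟩

variable (A)

/-- presheaf-level extension by zero -/
noncomputable def jP : PMod (A.over X) ⥤ PMod A := jPre A.obj X

/-- the presheaf-level adjunction `j_! ⊣ restriction` -/
noncomputable def adjP : jP A X ⊣ restrP A X := adjPre A.obj X

/-- `fgt ⋙ restrP = overFunctor ⋙ fgt` -/
noncomputable def fgtRestrIso :
    fgt A ⋙ restrP A X ≅ SheafOfModules.overFunctor A X ⋙ fgt (A.over X) :=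
  NatIso.ofComponents (fun _ => Iso.refl _) (by
    intro M N f
    exact (Category.comp_id _).trans (Category.id_comp _).symm)

/-- the concrete extension by zero functor on sheaves of modules -/
noncomputable def jS : SheafOfModules.{u} (A.over X) ⥤ SheafOfModules.{u} A :=
  fgt (A.over X) ⋙ jP A X ⋙ shf A

/-- the concrete adjunction `j_! ⊣ restriction` on sheaves of modules -/
noncomputable def adjS : jS A X ⊣ SheafOfModules.overFunctor A X :=
  Adjunction.restrictFullyFaithful (iC := fgt (A.over X)) (iD := 𝟭 (SheafOfModules.{u} A))
    ((adjP A X).comp (shfAdj A))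
    (SheafOfModules.fullyFaithfulForget _) (Functor.FullyFaithful.id _)
    (Functor.rightUnitor _).symm
    (Functor.leftUnitor _ ≪≫ fgtRestrIso A X)

section Exact

variable {A X}

theorem mono_jP_map {G G' : PMod (A.over X)} (α : G ⟶ G') [Mono α] :
    Mono ((jP A X).map α) := by
  unfold jP
  exact mono_mapPre (R := A.obj) (U := X) α ‹_›

theorem mono_jS_map {G G' : SheafOfModules.{u} (A.over X)} (α : G ⟶ G') [Mono α] :
    Mono ((jS A X).map α) := by
  have h1 : Mono ((fgt (A.over X)).map α) := inferInstance
  have h2 : Mono ((jP A X).map ((fgt (A.over X)).map α)) := mono_jP_map _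
  exact inferInstanceAs (Mono ((shf A).map ((jP A X).map ((fgt (A.over X)).map α))))

instance : PreservesColimitsOfSize.{u, u} (jS A X) :=
  (adjS A X).leftAdjoint_preservesColimits

instance : PreservesFiniteColimits (jS A X) :=
  PreservesColimitsOfSize.preservesFiniteColimits _

instance : (jS A X).PreservesZeroMorphisms :=
  haveI : PreservesColimit (Functor.empty.{0} (SheafOfModules.{u} (A.over X))) (jS A X) :=
    inferInstance
  Functor.preservesZeroMorphisms_of_preserves_initial_object

instance : (jS A X).Additive :=
  haveI := preservesBinaryBiproducts_of_preservesBinaryCoproducts (jS A X)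
  Functor.additive_of_preservesBinaryBiproducts _

theorem preservesFiniteLimits_jS : PreservesFiniteLimits (jS A X) := by
  refine (Functor.preservesFiniteLimits_iff_forall_exact_map_and_mono (jS A X)).2 ?_
  intro S hS
  have := hS.mono_f
  refine ⟨?_, mono_jS_map S.f⟩
  exact ((Functor.preservesFiniteColimits_iff_forall_exact_map_and_epi (jS A X)).1
    inferInstance S hS).1

end Exact

section Faithful

variable {A X}

instance : (restrP A X).PreservesZeroMorphisms := ⟨fun _ _ => rfl⟩

theorem mono_adjP_unit_app (P : PMod (A.over X)) : Mono ((adjP A X).unit.app P) :=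
  mono_adjPre_unit_app (R := A.obj) (U := X) P

theorem eq_zero_of_jS_map_eq_zero {G G' : SheafOfModules.{u} (A.over X)} (α : G ⟶ G')
    (h : (jS A X).map α = 0) : α = 0 := by
  set P := (fgt (A.over X)).obj G
  set P' := (fgt (A.over X)).obj G'
  set a : P ⟶ P' := (fgt (A.over X)).map α
  set β : (jP A X).obj P ⟶ (jP A X).obj P' := (jP A X).map a
  have h0 : (shf A).map β = 0 := h
  have h1 : β ≫ (shfAdj A).unit.app ((jP A X).obj P') = 0 := by
    have := (shfAdj A).unit.naturality β
    refine this.trans ?_
    change _ ≫ (fgt A).map ((shf A).map β) = 0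
    rw [h0, Functor.map_zero, comp_zero]
  have h2 : (restrP A X).map β ≫ (restrP A X).map ((shfAdj A).unit.app ((jP A X).obj P')) = 0 := by
    rw [← Functor.map_comp, h1, Functor.map_zero]
  have h3 : a ≫ (adjP A X).unit.app P' = (adjP A X).unit.app P ≫ (restrP A X).map β :=
    (adjP A X).unit.naturality a
  have h4 : a ≫ ((adjP A X).unit.app P' ≫
      (restrP A X).map ((shfAdj A).unit.app ((jP A X).obj P'))) = 0 := by
    rw [← Category.assoc, h3, Category.assoc, h2, comp_zero]
  have h5 : (shf (A.over X)).map a ≫ (shf (A.over X)).map ((adjP A X).unit.app P' ≫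
      (restrP A X).map ((shfAdj A).unit.app ((jP A X).obj P'))) = 0 := by
    rw [← Functor.map_comp, h4, Functor.map_zero]
  have m1 : Mono ((adjP A X).unit.app P') := mono_adjP_unit_app P'
  have m2 : Mono ((shf (A.over X)).map ((adjP A X).unit.app P')) := inferInstance
  have i3 : IsIso ((shf (A.over X)).map
      ((restrP A X).map ((shfAdj A).unit.app ((jP A X).obj P')))) :=
    isIso_shf_map_of_wMod _ (wMod_restrP X _ (wMod_unit ((jP A X).obj P')))
  have h6 : (shf (A.over X)).map a = 0 := by
    rw [Functor.map_comp] at h5
    have : Mono ((shf (A.over X)).map ((adjP A X).unit.app P') ≫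
        (shf (A.over X)).map ((restrP A X).map ((shfAdj A).unit.app ((jP A X).obj P')))) :=
      mono_comp _ _
    exact (cancel_mono _).1 (h5.trans zero_comp.symm)
  have h7 := (shfAdj (A.over X)).counit.naturality α
  change (shf (A.over X)).map a ≫ _ = _ at h7
  rw [h6, zero_comp] at h7
  have : IsIso ((shfAdj (A.over X)).counit.app G) := inferInstance
  exact (cancel_epi ((shfAdj (A.over X)).counit.app G)).1 (h7.symm.trans comp_zero.symm)

instance : (jS A X).Faithful where
  map_injective {G G'} f g h := by
    rw [← sub_eq_zero]
    apply eq_zero_of_jS_map_eq_zero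
    rw [Functor.map_sub, h, sub_self]

end Faithful

/-- **S3087**. -/
theorem overFunctor_leftAdjoint_exact_faithful :
    (SheafOfModules.overFunctor.{u} A X).IsRightAdjoint ∧
    ∀ (L : SheafOfModules.{u} (A.over X) ⥤ SheafOfModules.{u} A)
      (_ : L ⊣ SheafOfModules.overFunctor.{u} A X),
      PreservesFiniteLimits L ∧ PreservesFiniteColimits L ∧ L.Faithful := by
  refine ⟨(adjS A X).isRightAdjoint, fun L adj => ?_⟩
  let e : jS A X ≅ L := Adjunction.leftAdjointUniq (adjS A X) adj
  have := preservesFiniteLimits_jS (A := A) (X := X)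
  have : PreservesColimitsOfSize.{0, 0} L := adj.leftAdjoint_preservesColimits
  exact ⟨preservesFiniteLimits_of_natIso e, PreservesColimitsOfSize.preservesFiniteColimits _,
    Functor.Faithful.of_iso e⟩

end Groth.Agent.Lib.Helper19.JShriekNC
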