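import Groth.Prelude.Def_KRR
import Mathlib.RingTheory.PowerSeries.Inverse
import Mathlib.Algebra.Order.Antidiag.Prod

/-!
Basic facts on the power series `λ_t(x)` of the prelude's λ-rings (helper19).
-/

set_option autoImplicit false
universe u

namespace Groth.Agent.Lib.Helper19.Lam

open LambdaRing PowerSeries Finset

variable {K : Type u} [CommRing K] [LambdaOps K]

@[simp] lemma coeff_lamSeries (i : ℕ) (x : K) :
    PowerSeries.coeff i (lamSeries x) = LambdaOps.lam i x := by
  simp [lamSeries]

@[simp] lemma constantCoeff_lamSeries (x : K) :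
    PowerSeries.constantCoeff (lamSeries x) = 1 := by
  rw [← PowerSeries.coeff_zero_eq_constantCoeff_apply, coeff_lamSeries, LambdaOps.lam_zero]

lemma lamSeries_add (x y : K) : lamSeries (x + y) = lamSeries x * lamSeries y := by
  ext k
  rw [PowerSeries.coeff_mul, coeff_lamSeries, LambdaOps.lam_add,
    Finset.Nat.sum_antidiagonal_eq_sum_range_succ_mk]
  simp

lemma isUnit_lamSeries (x : K) : IsUnit (lamSeries x) := by
  rw [PowerSeries.isUnit_iff_constantCoeff]
  simp

lemma lamSeries_zero : lamSeries (0 : K) = 1 := by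
  have h := lamSeries_add (0 : K) 0
  rw [add_zero] at h
  have hu := isUnit_lamSeries (0 : K)
  exact (hu.mul_left_cancel (by rw [mul_one]; exact h)).symm

lemma lamSeries_neg_mul (x : K) : lamSeries (-x) * lamSeries x = 1 := by
  rw [← lamSeries_add, neg_add_cancel, lamSeries_zero]

lemma lamSeries_mul_neg (x : K) : lamSeries x * lamSeries (-x) = 1 := by
  rw [mul_comm, lamSeries_neg_mul]

lemma lamSeries_sub_mul (x y : K) : lamSeries (x - y) * lamSeries y = lamSeries x := by
  rw [← lamSeries_add, sub_add_cancel]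

/-- the λ-series of a line element is `1 + u t`. -/
lemma lamSeries_of_isLine (P : PosStructure K) {u : K} (hu : P.IsLine u) :
    lamSeries u = 1 + PowerSeries.C u * PowerSeries.X := by
  obtain ⟨hpos, haug⟩ := hu
  ext i
  rcases i with _ | _ | i
  · simp [LambdaOps.lam_zero]
  · simp [LambdaOps.lam_one]
  · have h0 : LambdaOps.lam (i + 2) u = 0 := by
      apply P.lam_eq_zero u hpos
      rw [haug]
      push_cast
      omega
    have h1 : PowerSeries.coeff (i + 2) (1 : PowerSeries K) = 0 := by
      rw [PowerSeries.coeff_one]; simp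
    have h2 : PowerSeries.coeff (i + 1 + 1) (PowerSeries.C u * PowerSeries.X) = 0 := by
      rw [PowerSeries.coeff_succ_mul_X, PowerSeries.coeff_C]; simp
    rw [coeff_lamSeries, h0, map_add, h1, h2, add_zero]

lemma isLine_one (P : PosStructure K) : P.IsLine (1 : K) := by
  refine ⟨?_, map_one _⟩
  have := P.natCast_mem 1 Nat.one_pos
  simpa using this

lemma lamSeries_one (P : PosStructure K) : lamSeries (1 : K) = 1 + PowerSeries.X := by
  rw [lamSeries_of_isLine P (isLine_one P)]
  simp

lemma lamSeries_natCast (P : PosStructure K) (m : ℕ) :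
    lamSeries (m : K) = (1 + PowerSeries.X) ^ m := by
  induction m with
  | zero => simp [lamSeries_zero]
  | succ m ih => rw [Nat.cast_succ, lamSeries_add, ih, lamSeries_one P, pow_succ]

/-- `σ_t(x) · λ_{-t}(x) = 1`. -/
lemma rescale_lamSeries_mul_sigmaSeries (x : K) :
    PowerSeries.rescale (-1 : K) (lamSeries x) * KRR.sigmaSeries x = 1 := by
  unfold KRR.sigmaSeries
  apply PowerSeries.mul_invOfUnit
  rw [← PowerSeries.coeff_zero_eq_constantCoeff_apply, PowerSeries.coeff_rescale]
  simp [LambdaOps.lam_zero]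

lemma coeff_rescale_lamSeries (i : ℕ) (x : K) :
    PowerSeries.coeff i (PowerSeries.rescale (-1 : K) (lamSeries x)) =
      (-1 : K) ^ i * LambdaOps.lam i x := by
  rw [PowerSeries.coeff_rescale, coeff_lamSeries]

/-- Newton-type relation between the `σ^j` and the `λ^i`. -/
lemma sum_lam_sigma (x : K) (n : ℕ) (hn : 0 < n) :
    ∑ p ∈ Finset.HasAntidiagonal.antidiagonal n, ((-1 : K) ^ p.1 * LambdaOps.lam p.1 x) * KRR.sigma p.2 x = 0 := by
  have h := congrArg (PowerSeries.coeff n) (rescale_lamSeries_mul_sigmaSeries x)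
  rw [PowerSeries.coeff_mul, PowerSeries.coeff_one, if_neg hn.ne'] at h
  simpa [coeff_rescale_lamSeries, KRR.sigma] using h

end Groth.Agent.Lib.Helper19.Lam
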