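import Groth.Agent.Lib.Helper19.LambdaBasic
import Mathlib.RingTheory.AdjoinRoot

/-!
Elementary extensions `K_e = K[T]/(p_e)` of λ-rings: linear functionals (helper19).
-/

set_option autoImplicit false
universe u

namespace Groth.Agent.Lib.Helper19.Lam

open LambdaRing PowerSeries Finset

/-- uniqueness for linear recurrences with leading coefficient one. -/
lemma rec_unique {K : Type*} [CommRing K] (a : ℕ → K) (ha : a 0 = 1) (m : ℕ) (g h : ℕ → K)
    (hg : ∀ k, ∑ i ∈ Finset.range (m + 1), a i * g (m + k - i) = 0)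
    (hh : ∀ k, ∑ i ∈ Finset.range (m + 1), a i * h (m + k - i) = 0)
    (hlow : ∀ j, j < m → g j = h j) : ∀ n, g n = h n := by
  intro n
  induction n using Nat.strong_induction_on with
  | _ n ih =>
    by_cases hn : n < m
    · exact hlow n hn
    · obtain ⟨k, rfl⟩ : ∃ k, n = m + k := ⟨n - m, by omega⟩
      have h1 := hg k
      have h2 := hh k
      rw [Finset.sum_range_succ'] at h1 h2
      simp only [ha, one_mul, Nat.sub_zero] at h1 h2
      have h3 : ∑ i ∈ Finset.range m, a (i + 1) * g (m + k - (i + 1)) =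
          ∑ i ∈ Finset.range m, a (i + 1) * h (m + k - (i + 1)) := by
        refine Finset.sum_congr rfl (fun i hi => ?_)
        have := Finset.mem_range.mp hi
        rw [ih (m + k - (i + 1)) (by omega)]
      rw [h3] at h1
      have := h1.trans h2.symm
      exact add_left_cancel this

/-- the general algebraic statement on nonnegative powers of the root. -/
lemma functional_pow_general {K : Type*} [CommRing K] (a σ : ℕ → K) (r : ℕ) (ha0 : a 0 = 1)
    (ha_big : ∀ i, r + 1 < i → a i = 0)
    (hnewton : ∀ n, 0 < n → ∑ i ∈ Finset.range (n + 1), a i * σ (n - i) = 0)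
    (p : Polynomial K)
    (hp : p = ∑ i ∈ Finset.range (r + 1 + 1), Polynomial.C (a i) * Polynomial.X ^ (r + 1 - i))
    (f : AdjoinRoot p →ₗ[K] K)
    (hf : ∀ i : ℕ, i ≤ r → f (AdjoinRoot.root p ^ i) = σ i) :
    ∀ i : ℕ, f (AdjoinRoot.root p ^ i) = σ i := by
  set ℓ := AdjoinRoot.root p with hℓ
  set m := r + 1 with hm
  have hroot : ∑ i ∈ Finset.range (m + 1), AdjoinRoot.of p (a i) * ℓ ^ (m - i) = 0 := by
    have h := AdjoinRoot.eval₂_root p
    conv at h => arg 1; arg 3; rw [hp]
    rw [Polynomial.eval₂_finsetSum] at h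
    simpa [Polynomial.eval₂_mul, Polynomial.eval₂_C, Polynomial.eval₂_pow, Polynomial.eval₂_X]
      using h
  have hlin : ∀ (c : K) (z : AdjoinRoot p), f (AdjoinRoot.of p c * z) = c * f z := by
    intro c z
    rw [← AdjoinRoot.algebraMap_eq, ← Algebra.smul_def, map_smul, smul_eq_mul]
  have hnewton' : ∀ k, ∑ i ∈ Finset.range (m + 1), a i * σ (m + k - i) = 0 := by
    intro k
    have h := hnewton (m + k) (by omega)
    rw [← h]
    refine Finset.sum_subset (fun i hi => ?_) (fun i hi hi' => ?_)
    · simp only [Finset.mem_range] at hi ⊢; omega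
    · simp only [Finset.mem_range] at hi hi'
      rw [ha_big i (by omega), zero_mul]
  apply rec_unique a ha0 m (fun j => f (ℓ ^ j)) σ
  · intro k
    have h := congrArg (fun z => f (z * ℓ ^ k)) hroot
    simp only [zero_mul, map_zero, Finset.sum_mul, map_sum] at h
    rw [← h]
    refine Finset.sum_congr rfl (fun i hi => ?_)
    simp only [Finset.mem_range] at hi
    rw [mul_assoc, hlin, ← pow_add]
    congr 3
    omega
  · exact hnewton'
  · intro j hj
    exact hf j (by omega)

variable {K : Type u} [CommRing K] [LambdaOps K]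

/-- `f(ℓ^i) = σ^i(e)` for all `i`, for a functional on the elementary extension with the
right values in degrees `≤ r`. -/
lemma functional_pow (P : PosStructure K) (e : K) (he : e ∈ P.pos) (r : ℕ)
    (hr : P.aug e = r + 1)
    (f : AdjoinRoot (KRR.extPoly P e) →ₗ[K] K)
    (hf : ∀ i : ℕ, i ≤ r → f (AdjoinRoot.root (KRR.extPoly P e) ^ i) = KRR.sigma i e) :
    ∀ i : ℕ, f (AdjoinRoot.root (KRR.extPoly P e) ^ i) = KRR.sigma i e := by
  have hmn : (P.aug e).toNat = r + 1 := by rw [hr]; omega
  refine functional_pow_general (fun i => (-1 : K) ^ i * LambdaOps.lam i e)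
    (fun j => KRR.sigma j e) r ?_ ?_ ?_ (KRR.extPoly P e) ?_ f hf
  · simp [LambdaOps.lam_zero]
  · intro i hi
    have : LambdaOps.lam i e = 0 := by
      apply P.lam_eq_zero e he
      rw [hr]; omega
    simp [this]
  · intro n hn
    have := sum_lam_sigma e n hn
    rw [Finset.Nat.sum_antidiagonal_eq_sum_range_succ_mk] at this
    exact this
  · unfold KRR.extPoly
    rw [hmn]

/-- `λ_t(x) · σ_{-t}(x) = 1`. -/
lemma lamSeries_mul_rescale_sigmaSeries (x : K) :
    lamSeries x * PowerSeries.rescale (-1 : K) (KRR.sigmaSeries x) = 1 := by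
  have h := congrArg (PowerSeries.rescale (-1 : K)) (rescale_lamSeries_mul_sigmaSeries x)
  rw [map_mul, map_one, PowerSeries.rescale_rescale] at h
  simpa using h

end Groth.Agent.Lib.Helper19.Lam
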