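import Groth.Agent.Lib.Helper19.LocalVanish
import Groth.Agent.Lib.Cohomology.Helper3_SectSupp
import Groth.Agent.Lib.Cohomology.Helper3_RDerComp2
import Groth.Agent.S0460

/-!
# Vanishing of the local cohomology sheaves `ℋ^i_Z(F)` from bijectivity of restriction maps (helper19)
-/

set_option autoImplicit false
set_option backward.isDefEq.respectTransparency false
set_option backward.defeqAttrib.useBackward true
universe u
open CategoryTheory CategoryTheory.Limits TopologicalSpace Opposite

namespace Groth.Agent.Lib.Helper19.LocCohVanish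

open Abelian Groth.Agent.Lib.Cohomology Groth.Agent.Lib.Cohomology.OpenAdj
  Groth.Agent.Lib.Cohomology.Leray Groth.Agent.Lib.Cohomology.LocCohSh
  Groth.Agent.Lib.Cohomology.RDerFunSES Groth.Agent.Lib.Helper19.LocalVanish

variable {X : TopCat.{u}} (U : Opens X) (F : CohTop.Ab X)

lemma jj_eq (W : Opens X) : jj U W = W ⊓ U := by
  ext x
  rw [SetLike.mem_coe, SetLike.mem_coe, SectSupp.mem_jj]
  rfl

lemma res_res (n : ℕ) {A B C : Opens X} (h : B ≤ A) (h' : C ≤ B) (x : CohTop.HU F n A) :
    CohTop.res F n h' (CohTop.res F n h x) = CohTop.res F n (h'.trans h) x := by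
  change ((Sheaf.cohomologyPresheaf.{u} F n).map (homOfLE h).op ≫
    (Sheaf.cohomologyPresheaf.{u} F n).map (homOfLE h').op) x = _
  rw [← Functor.map_comp]
  rfl

lemma res_sectionsEquivH0 {A B : Opens X} (h : B ≤ A) (s : F.obj.obj (op A)) :
    CohTop.res F 0 h (sectionsEquivH0 F A s) = sectionsEquivH0 F B (F.obj.map (homOfLE h).op s) := by
  change (Ext.mk₀ (CohCx.freeSheafMap (Opens.grothendieckTopology X) (homOfLE h))).comp
      (Ext.mk₀ (CohFree.ofSect (Opens.grothendieckTopology X) A F s)) (zero_add 0) =
    Ext.mk₀ (CohFree.ofSect (Opens.grothendieckTopology X) B F (F.obj.map (homOfLE h).op s))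
  rw [RpushSh.ofSect_res, Ext.mk₀_comp_mk₀]

lemma map_injective_of_res {A B : Opens X} (h : B ≤ A)
    (hr : Function.Injective (CohTop.res F 0 h)) :
    Function.Injective (F.obj.map (homOfLE h).op) := by
  intro s s' hs
  apply (sectionsEquivH0 F A).injective
  apply hr
  rw [res_sectionsEquivH0, res_sectionsEquivH0, hs]

lemma map_surjective_of_res {A B : Opens X} (h : B ≤ A)
    (hr : Function.Surjective (CohTop.res F 0 h)) :
    Function.Surjective (F.obj.map (homOfLE h).op) := by
  intro t
  obtain ⟨y, hy⟩ := hr (sectionsEquivH0 F B t)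
  obtain ⟨s, rfl⟩ := (sectionsEquivH0 F A).surjective y
  refine ⟨s, ?_⟩
  apply (sectionsEquivH0 F B).injective
  rw [← res_sectionsEquivH0, hy]

/-- transport of a statement about `res` along an equality of the smaller open -/
lemma res_transport (n : ℕ) (P : ∀ {A B : Type u} [AddCommGroup A] [AddCommGroup B], (A →+ B) → Prop)
    {V : Opens X} : ∀ (A A' : Opens X) (_ : A = A') (hA : A ≤ V) (hA' : A' ≤ V),
      P (CohTop.res F n hA) → P (CohTop.res F n hA') := by
  intro A A' e hA hA' h
  subst e
  exact h

/-! ### the unit of the adjunction -/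

lemma unit_eq : (adj U).unit.app F =
    (adj' U).unit.app F ≫ (CohTop.push (CohCx.incl U)).map ((pullIso U).inv.app F) := by
  have h := unit_pullIso U F
  have h3 : (CohTop.push (CohCx.incl U)).map ((pullIso U).hom.app F) ≫
      (CohTop.push (CohCx.incl U)).map ((pullIso U).inv.app F) = 𝟙 _ := by
    rw [← CategoryTheory.Functor.map_comp, Iso.hom_inv_id_app, CategoryTheory.Functor.map_id]
  rw [← h, Category.assoc, h3]
  exact (Category.comp_id _).symm

lemma mono_unit (h : ∀ W, Function.Injective (F.obj.map (homOfLE (jj_le U W)).op)) :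
    Mono ((adj U).unit.app F) := by
  have : Mono ((adj' U).unit.app F) := by
    apply mono_of_sections_injective
    intro W
    rw [adj'_unit_app]
    exact h W
  rw [unit_eq]
  infer_instance

lemma epi_unit (h : ∀ W, Function.Surjective (F.obj.map (homOfLE (jj_le U W)).op)) :
    Epi ((adj U).unit.app F) := by
  have : Epi ((adj' U).unit.app F) := by
    apply epi_of_sections_surjective
    intro W
    rw [adj'_unit_app]
    exact h W
  rw [unit_eq]
  infer_instance

/-! ### degree zero -/

theorem isZero_HZsh_zero (h : ∀ W, Function.Injective (F.obj.map (homOfLE (jj_le U W)).op)) :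
    IsZero ((LocCohZ.HZsh U 0).obj F) := by
  have hm := mono_unit U F h
  have : PreservesFiniteLimits (T U).F₃ := by
    change PreservesFiniteLimits (CohTop.pull (CohCx.incl U) ⋙ CohTop.push (CohCx.incl U))
    infer_instance
  have : PreservesFiniteLimits (T U).F₂ := by
    change PreservesFiniteLimits (𝟭 (CohTop.Ab X))
    infer_instance
  have hβ : Mono ((NatTrans.rightDerived (T U).β 0).app F) := by
    have hn := toRightDerivedZero_naturality (T U).β F
    have : Mono ((T U).β.app F) := hm
    have key : (NatTrans.rightDerived (T U).β 0).app F =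
        inv ((T U).F₂.toRightDerivedZero.app F) ≫ (T U).β.app F ≫
          (T U).F₃.toRightDerivedZero.app F := by
      rw [IsIso.eq_inv_comp]
      exact hn
    rw [key]
    infer_instance
  have hα : (NatTrans.rightDerived (T U).α 0).app F = 0 := by
    rw [← cancel_mono ((NatTrans.rightDerived (T U).β 0).app F), (T U).α_β_app, zero_comp]
  have hmα := (T U).mono_α_zero F
  change IsZero (((T U).F₁.rightDerived 0).obj F)
  rw [IsZero.iff_id_eq_zero, ← cancel_mono ((NatTrans.rightDerived (T U).α 0).app F), hα,
    comp_zero, comp_zero]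

/-! ### degree one -/

theorem isZero_HZsh_one (h : ∀ W, Function.Surjective (F.obj.map (homOfLE (jj_le U W)).op)) :
    IsZero ((LocCohZ.HZsh U 1).obj F) := by
  have he := epi_unit U F h
  have h0 : (π' U).app F = 0 := by
    rw [← cancel_epi ((adj U).unit.app F), unit_π'_app, comp_zero]
  rw [IsZero.iff_id_eq_zero, ← cancel_epi ((π' U).app F), h0, zero_comp, zero_comp]

/-! ### higher degrees -/

lemma locZero_of_surjective (k : ℕ)
    (h : ∀ W, Function.Surjective (CohTop.res F (k + 1) (jj_le U W))) : LocZero U F (k + 1) := by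
  intro W ξ x hx
  obtain ⟨η, rfl⟩ := h W ξ
  obtain ⟨ι, V, hV, hsup, h0⟩ := Groth.Agent.S0460.result F W k η
  have hx' : x ∈ iSup V := by rw [hsup]; exact hx
  obtain ⟨i, hi⟩ := Opens.mem_iSup.1 hx'
  refine ⟨V i, hV i, hi, ?_⟩
  rw [res_res]
  have : CohTop.res F (k + 1) ((jj_mono U (hV i)).trans (jj_le U W)) η =
      CohTop.res F (k + 1) (jj_le U (V i)) (CohTop.res F (k + 1) (hV i) η) :=
    (res_res F (k + 1) (hV i) (jj_le U (V i)) η).symm
  rw [this, h0 i, map_zero]

theorem isZero_HZsh_succ (k : ℕ)
    (h : ∀ W, Function.Surjective (CohTop.res F (k + 1) (jj_le U W))) :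
    IsZero ((LocCohZ.HZsh U (k + 2)).obj F) := by
  have h1 := isZero_rightDerived_of_locZero U k F (locZero_of_surjective U F k h)
  have := isIso_δ_app U F (k + 1) (by omega)
  have e1 : ((T U).F₃.rightDerived (k + 1)).obj F ≅ ((T U).F₁.rightDerived (k + 1 + 1)).obj F :=
    asIso (((T U).δ (k + 1)).app F)
  have e2 : (CohTop.pull (CohCx.incl U) ⋙ CohTop.push (CohCx.incl U)) ≅ G' U :=
    Functor.isoWhiskerRight (pullIso U) (CohTop.push (CohCx.incl U))
  have e3 := (RDerComp.rightDerivedIso e2 (k + 1)).app F
  exact (h1.of_iso e3).of_iso e1.symm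

end Groth.Agent.Lib.Helper19.LocCohVanish
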