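import Groth.Agent.Lib.Helper19.LocCohSSV
import Groth.Agent.S6021

/-!
# Vanishing of `ℋ^i_Z(F)` versus vanishing of `H^i_{Z ∩ V}(V, F)` versus restriction maps (helper19)
-/

set_option autoImplicit false
universe u
open CategoryTheory CategoryTheory.Limits TopologicalSpace Opposite

namespace Groth.Agent.Lib.Helper19.LocCohIff

open Abelian

variable {X : TopCat.{u}} (U : Opens X) (F : CohTop.Ab X)

lemma res_eq {W V : Opens X} (h : W ≤ V) (i : ℕ) (x : CohTop.HU F i V) :
    CohTop.res F i h x = (Ext.mk₀ (LocCohZ.zqSeq h).f).comp x (zero_add i) := rfl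

lemma res_injective_of_HZ {W V : Opens X} (h : W ≤ V) (i : ℕ)
    (hz : Subsingleton (LocCohZ.HZ F i h)) : Function.Injective (CohTop.res F i h) := by
  rw [injective_iff_map_eq_zero]
  intro x hx
  rw [res_eq] at hx
  obtain ⟨y, hy⟩ := Ext.contravariant_sequence_exact₂ (LocCohZ.zqSeq_shortExact h) F x hx
  have hy0 : y = 0 := Subsingleton.elim (α := LocCohZ.HZ F i h) _ _
  rw [← hy, hy0, Ext.comp_zero]
  rfl

lemma res_surjective_of_HZ {W V : Opens X} (h : W ≤ V) (i : ℕ)
    (hz : Subsingleton (LocCohZ.HZ F (i + 1) h)) : Function.Surjective (CohTop.res F i h) := by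
  intro x
  have h0 : (LocCohZ.zqSeq_shortExact h).extClass.comp x (show 1 + i = i + 1 by omega) = 0 :=
    Subsingleton.elim (α := LocCohZ.HZ F (i + 1) h) _ _
  obtain ⟨y, hy⟩ := Ext.contravariant_sequence_exact₁ (LocCohZ.zqSeq_shortExact h) F x _ h0
  exact ⟨y, hy⟩

/-- `A(n) ⇒ B(n)` -/
theorem subsingleton_HZ_of_isZero_HZsh (n : ℕ)
    (hA : ∀ i : ℕ, i < n → IsZero ((LocCohZ.HZsh U i).obj F)) (V : Opens X) (i : ℕ) (hi : i < n) :
    Subsingleton (LocCohZ.HZ F i (inf_le_left : V ⊓ U ≤ V)) :=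
  LocCohSSV.subsingleton_HZ_of_isZero_HZsh U V F i (fun q hq => hA q (by omega))

/-- `B(N+1) ⇒ C(N)` -/
theorem res_bijective_of_subsingleton_HZ (N : ℕ)
    (hB : ∀ (V : Opens X) (i : ℕ), i < N + 1 →
      Subsingleton (LocCohZ.HZ F i (inf_le_left : V ⊓ U ≤ V))) (V : Opens X) :
    (∀ i : ℕ, i < N → Function.Bijective (CohTop.res F i (inf_le_left : V ⊓ U ≤ V))) ∧
      Function.Injective (CohTop.res F N (inf_le_left : V ⊓ U ≤ V)) :=
  ⟨fun i hi => ⟨res_injective_of_HZ F _ i (hB V i (by omega)),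
      res_surjective_of_HZ F _ i (hB V (i + 1) (by omega))⟩,
    res_injective_of_HZ F _ N (hB V N (by omega))⟩

/-- `C(N) ⇒ A(N+1)` -/
theorem isZero_HZsh_of_res_bijective (N : ℕ)
    (hC : ∀ V : Opens X,
      (∀ i : ℕ, i < N → Function.Bijective (CohTop.res F i (inf_le_left : V ⊓ U ≤ V))) ∧
        Function.Injective (CohTop.res F N (inf_le_left : V ⊓ U ≤ V)))
    (i : ℕ) (hi : i ≤ N) : IsZero ((LocCohZ.HZsh U i).obj F) := by
  rcases Nat.eq_zero_or_pos N with hN | hN
  · subst hN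
    obtain rfl : i = 0 := by omega
    apply LocCohVanish.isZero_HZsh_zero U F
    intro W
    apply LocCohVanish.map_injective_of_res
    exact LocCohVanish.res_transport F 0 (fun f => Function.Injective f) _ _
      (LocCohVanish.jj_eq U W).symm inf_le_left _ (hC W).2
  · exact Groth.Agent.S6021.result F U N hN (fun V i hi => (hC V).1 i hi) i hi

end Groth.Agent.Lib.Helper19.LocCohIff
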