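import Groth.Agent.Lib.Helper19.ExtNat
import Groth.Agent.Lib.Cohomology.helper5_Restr
import Groth.Agent.S6023

/-!
# Cohomology with supports computed on an open subspace (helper19)

`H^i_{V∖W}(X, F) ≅ H^i_{V∖W}(V, F|_V)` naturally in `F`.
-/

set_option autoImplicit false
universe u
open CategoryTheory CategoryTheory.Limits TopologicalSpace Opposite

namespace Groth.Agent.Lib.Helper19.LocCohRestr

open Abelian LocCohZ Groth.Agent.Lib.Cohomology.Restr

variable {X : TopCat.{u}} {W V : Opens X} (h : W ≤ V)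

/-- the image functor of the open embedding `V ⟶ X` -/
noncomputable abbrev j (V : Opens X) : Opens (TopCat.of V) ⥤ Opens X :=
  V.isOpenEmbedding.isOpenMap.functor

/-- the trace of `W` on `V` -/
abbrev W' (W V : Opens X) : Opens (TopCat.of V) := (Opens.map (CohCx.incl V)).obj W

lemma jW'_le (W V : Opens X) : (j V).obj (W' W V) ≤ W := by
  rintro x ⟨y, hy, rfl⟩
  exact hy

include h in
lemma le_jW' : W ≤ (j V).obj (W' W V) := by
  intro x hx
  exact ⟨⟨x, h hx⟩, hx, rfl⟩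

include h in
lemma jW'_eq : W = (j V).obj (W' W V) := le_antisymm (le_jW' h) (jW'_le W V)

/-- transport of "sections over `B` vanishing on `A`" along equalities of opens -/
noncomputable def midAux (F : CohTop.Ab X) {A B A' B' : Opens X} (f : A ⟶ B) (f' : A' ⟶ B')
    (hB : B = B') (hA : A = A') :
    (F.obj.map f.op).hom.ker ≃+ (F.obj.map f'.op).hom.ker := by
  subst hB hA
  obtain rfl : f = f' := Subsingleton.elim _ _
  exact AddEquiv.refl _

lemma midAux_naturality {F G : CohTop.Ab X} (g : F ⟶ G) {A B A' B' : Opens X} (f : A ⟶ B)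
    (f' : A' ⟶ B') (hB : B = B') (hA : A = A')
    (s : (F.obj.map f.op).hom.ker) (s' : (G.obj.map f.op).hom.ker)
    (hs : s'.1 = (g.hom.app (op B)).hom s.1) :
    (midAux G f f' hB hA s').1 = (g.hom.app (op B')).hom (midAux F f f' hB hA s).1 := by
  subst hB hA
  obtain rfl : f = f' := Subsingleton.elim _ _
  exact hs

/-- sections over `V` vanishing on `W` versus sections of the restriction -/
noncomputable def mid (F : CohTop.Ab X) :
    sectZ F h ≃+ sectZ (CohTop.restr F V) (le_top : W' W V ≤ ⊤) :=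
  midAux F (homOfLE h) ((j V).map (homOfLE (le_top : W' W V ≤ ⊤))) (image_top V).symm (jW'_eq h)

lemma mid_naturality {F G : CohTop.Ab X} (g : F ⟶ G) (s : sectZ F h) (s' : sectZ G h)
    (hs : s'.1 = (g.hom.app (op V)).hom s.1) :
    (mid h G s').1 = (((CohTop.restrFunctor V).map g).hom.app (op ⊤)).hom (mid h F s).1 :=
  midAux_naturality g (homOfLE h) ((j V).map (homOfLE (le_top : W' W V ≤ ⊤))) (image_top V).symm
    (jW'_eq h) s s' hs

lemma addEquiv₀_mk₀ {𝒜 : Type*} [Category 𝒜] [Abelian 𝒜] [HasExt.{u} 𝒜] {A B : 𝒜} (f : A ⟶ B) :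
    Ext.addEquiv₀ (Ext.mk₀ f) = f := by
  rw [← Ext.addEquiv₀_symm_apply, AddEquiv.apply_symm_apply]

/-- naturality of `sect0Equiv` in the sheaf -/
lemma sect0Equiv_naturality {Y : TopCat.{u}} {W₁ V₁ : Opens Y} (h₁ : W₁ ≤ V₁) {F G : CohTop.Ab Y}
    (g : F ⟶ G) (x : HZ F 0 h₁) :
    (sect0Equiv G h₁ (x.comp (Ext.mk₀ g) (add_zero 0))).1 =
      (g.hom.app (op V₁)).hom (sect0Equiv F h₁ x).1 := by
  obtain ⟨f, rfl⟩ := (Ext.mk₀_bijective _ _).2 x
  rw [Ext.mk₀_comp_mk₀]
  change CohFree.evalGen (Opens.grothendieckTopology Y) V₁ G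
      (cokernel.π _ ≫ Ext.addEquiv₀ (Ext.mk₀ (f ≫ g))) =
    (g.hom.app (op V₁)).hom (CohFree.evalGen (Opens.grothendieckTopology Y) V₁ F
      (cokernel.π _ ≫ Ext.addEquiv₀ (Ext.mk₀ f)))
  rw [addEquiv₀_mk₀, addEquiv₀_mk₀, ← Category.assoc]
  rfl

/-- the degree zero comparison -/
noncomputable def θ (F : CohTop.Ab X) :
    HZ F 0 h ≃+ HZ (CohTop.restr F V) 0 (le_top : W' W V ≤ ⊤) :=
  (sect0Equiv F h).trans ((mid h F).trans (sect0Equiv (CohTop.restr F V) (le_top : W' W V ≤ ⊤)).symm)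

lemma θ_naturality {F G : CohTop.Ab X} (g : F ⟶ G) (x : HZ F 0 h) :
    θ h G (x.comp (Ext.mk₀ g) (add_zero 0)) =
      (θ h F x).comp (Ext.mk₀ ((CohTop.restrFunctor V).map g)) (add_zero 0) := by
  apply (sect0Equiv (CohTop.restr G V) (le_top : W' W V ≤ ⊤)).injective
  apply Subtype.ext
  rw [sect0Equiv_naturality]
  simp only [θ, AddEquiv.trans_apply, AddEquiv.apply_symm_apply]
  exact mid_naturality h g _ _ (sect0Equiv_naturality h g x)

/-- the degree zero comparison as an isomorphism of functors -/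
noncomputable def e0 :
    extFunctorObj.{u} (zq h) 0 ≅
      CohTop.restrFunctor V ⋙ extFunctorObj.{u} (zq (le_top : W' W V ≤ ⊤)) 0 :=
  ExtNat.natIsoOfAddEquiv.{u} (CohTop.restrFunctor V) (zq (le_top : W' W V ≤ ⊤)) (zq h) 0 (θ h)
    (fun _ _ g x => θ_naturality h g x)

theorem hacyc (n : ℕ) (I : CohTop.Ab X) (hI : Injective I) :
    Subsingleton (Ext.{u} (zq (le_top : W' W V ≤ ⊤)) ((CohTop.restrFunctor V).obj I) (n + 1)) := by
  have h1 : TopCat.Sheaf.IsFlasque I := Groth.Agent.Lib.Cohomology.isFlasque_of_injective I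
  have h2 : TopCat.Sheaf.IsFlasque (CohTop.restr I V) := isFlasque_restr V I
  exact (Groth.Agent.S6023.result (CohTop.restr I V)).1 _ _ _ (n + 1) (Nat.succ_pos n)

theorem main (i : ℕ) :
    ∃ e : ∀ F : CohTop.Ab X,
        LocCohZ.HZ F i h ≃+ LocCohZ.HZc (CohTop.restr F V) i ((Opens.map (CohCx.incl V)).obj W),
      ∀ (F G : CohTop.Ab X) (φ : F ⟶ G) (x : LocCohZ.HZ F i h),
        e G (LocCohZ.map φ i h x) =
          LocCohZ.map ((CohTop.restrFunctor V).map φ) i
            (le_top : (Opens.map (CohCx.incl V)).obj W ≤ ⊤) (e F x) :=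
  ExtNat.exists_ext_addEquiv_natural.{u} (CohTop.restrFunctor V) (zq (le_top : W' W V ≤ ⊤)) (zq h)
    (e0 h) (hacyc) i

end Groth.Agent.Lib.Helper19.LocCohRestr
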