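import Groth.Agent.S8355

/-!
# Vanishing of the abutment of a spectral sequence from vanishing of `E₂` (helper19)
-/

set_option autoImplicit false
universe v u
open CategoryTheory CategoryTheory.Limits

namespace Groth.Agent.Lib.Helper19.SSVanish

variable {C : Type u} [Category.{v} C] [Abelian C]

lemma eq_of_isZero_grPiece {X : C} (F : ℤ → Subobject X) (hF : Antitone F) (p : ℤ)
    (h : IsZero (SpSeq.grPiece F hF p)) : F (p + 1) = F p := by
  have hle : F (p + 1) ≤ F p := hF (Int.le_add_one le_rfl)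
  have hepi : Epi ((F (p + 1)).ofLE (F p) hle) :=
    Preadditive.epi_of_cokernel_zero (h.eq_of_tgt _ _)
  have hiso : IsIso ((F (p + 1)).ofLE (F p) hle) := isIso_of_mono_of_epi _
  refine le_antisymm hle ?_
  refine Subobject.le_of_comm (inv ((F (p + 1)).ofLE (F p) hle)) ?_
  rw [IsIso.inv_comp_eq, Subobject.ofLE_arrow]

lemma const_of_succ {α : Type*} (f : ℤ → α) (h : ∀ p, f (p + 1) = f p) : ∀ p q, f p = f q := by
  have h0 : ∀ p, f p = f 0 := by
    intro p
    induction p using Int.induction_on with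
    | zero => rfl
    | succ i ih => rw [h, ih]
    | pred i ih => rw [← ih, ← h (-(i : ℤ) - 1)]; congr 1; omega
  intro p q
  rw [h0 p, h0 q]

lemma isZero_of_top_eq_bot {X : C} (h : (⊤ : Subobject X) = ⊥) : IsZero X := by
  have h0 : (⊤ : Subobject X).arrow = 0 := by
    rw [h]; exact Subobject.bot_arrow
  rw [IsZero.iff_id_eq_zero, ← cancel_epi (⊤ : Subobject X).arrow, h0, zero_comp, zero_comp]

/-- If all the `E₂`-terms of total degree `n` vanish and the filtration of `H n` is finite then
`H n = 0`. -/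
theorem isZero_abutment_of_isZero_E2 (E : E₂CohomologicalSpectralSequence C) (H : ℤ → C)
    (a : SpSeq.Abutment E H) (n : ℤ) (hfin : a.IsFinite n)
    (hz : ∀ p : ℤ, IsZero ((E.page 2 le_rfl).X (p, n - p))) : IsZero (H n) := by
  have hgr : ∀ p : ℤ, IsZero (SpSeq.grPiece (a.fil n) (a.anti n) p) := by
    intro p
    have h := (Groth.Agent.S8355.result E 2 le_rfl (p, n - p) (hz p)).2 H a
    have e : p + (n - p) = n := by omega
    have key : ∀ (m : ℤ), m = n → IsZero (SpSeq.grPiece (a.fil m) (a.anti m) p) →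
        IsZero (SpSeq.grPiece (a.fil n) (a.anti n) p) := by
      intro m hm hh
      subst hm
      exact hh
    exact key _ e h
  have hconst := const_of_succ (a.fil n) (fun p => eq_of_isZero_grPiece (a.fil n) (a.anti n) p (hgr p))
  obtain ⟨⟨a0, ha0⟩, ⟨b0, hb0⟩⟩ := hfin
  apply isZero_of_top_eq_bot
  have ha0' : a.fil n a0 = ⊤ := ha0
  have hb0' : a.fil n b0 = ⊥ := hb0
  rw [← ha0', ← hb0']
  exact hconst _ _

end Groth.Agent.Lib.Helper19.SSVanish
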