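import Groth.Agent.Lib.Helper34.LocCohSS2
import Groth.Agent.Lib.Helper19.SSVanish
import Groth.Agent.S0452
import Groth.Agent.S0454
import Groth.Agent.S19245

/-!
# The local cohomology spectral sequence over an open `V`, and the vanishing it implies (helper19)

`H^p(V, ℋ^q_Z F) ⇒ H^{p+q}_{Z ∩ V}(V, F)`; adaptation of helper34's `LocCohSS2` from `⊤` to `V`.
-/

set_option autoImplicit false
universe u
open CategoryTheory CategoryTheory.Limits Opposite TopologicalSpace

namespace Groth.Agent.Lib.Helper19.LocCohSSV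

open Groth.Agent.Lib.Cohomology.OpenAdj Groth.Agent.Lib.Cohomology.LocCohSh
  Groth.Agent.Lib.Cohomology.SectSupp Groth.Agent.Lib.Helper34 Groth.Agent.Lib.Helper34.LocCohSS

variable {X : TopCat.{u}} (U V : Opens X)

lemma jj_eq : jj U V = V ⊓ U := by
  ext x
  rw [SetLike.mem_coe, SetLike.mem_coe, mem_jj]
  rfl

lemma unit_app_eq_zero_iff' (F : CohTop.Ab X) (s : F.obj.obj (op V)) :
    ((adj U).unit.app F).hom.app (op V) s = 0 ↔
      F.obj.map (homOfLE (inf_le_left : V ⊓ U ≤ V)).op s = 0 :=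
  (unit_app_eq_zero_iff U F V s).trans
    (map_eq_zero_iff_of_eq F s _ _ (jj_eq U V) (jj_le U V) inf_le_left)

/-- sections over `V` of `Γ_Z F` as a subgroup of `F(V)` -/
noncomputable def sectSuppToSectZ (F : CohTop.Ab X) :
    (CohCx.sectSupp U F).obj.obj (op V) →+ LocCohZ.sectZ F (inf_le_left : V ⊓ U ≤ V) :=
  AddMonoidHom.codRestrict ((kernel.ι ((adj U).unit.app F)).hom.app (op V)).hom _ (by
    intro t
    rw [AddMonoidHom.mem_ker]
    apply (unit_app_eq_zero_iff' U V F _).1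
    change (kernel.ι ((adj U).unit.app F) ≫ (adj U).unit.app F).hom.app (op V) t = 0
    rw [kernel.condition]
    rfl)

lemma sectSuppToSectZ_bijective (F : CohTop.Ab X) :
    Function.Bijective (sectSuppToSectZ U V F) := by
  constructor
  · intro t t' h
    apply kernel_ι_injective ((adj U).unit.app F) V
    exact congrArg Subtype.val h
  · rintro ⟨s, hs⟩
    rw [AddMonoidHom.mem_ker] at hs
    obtain ⟨t, ht⟩ := exists_kernel_section ((adj U).unit.app F) V s
      ((unit_app_eq_zero_iff' U V F s).2 hs)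
    exact ⟨t, Subtype.ext ht⟩

/-- `Γ(V, Γ_Z F) ≃ {s ∈ F(V) | s|_{V ∩ U} = 0}` -/
noncomputable def sectSuppEquivSectZ (F : CohTop.Ab X) :
    (CohCx.sectSupp U F).obj.obj (op V) ≃+ LocCohZ.sectZ F (inf_le_left : V ⊓ U ≤ V) :=
  AddEquiv.ofBijective (sectSuppToSectZ U V F) (sectSuppToSectZ_bijective U V F)

lemma sectSuppEquivSectZ_apply_coe (F : CohTop.Ab X) (t : (CohCx.sectSupp U F).obj.obj (op V)) :
    (sectSuppEquivSectZ U V F t).1 = (kernel.ι ((adj U).unit.app F)).hom.app (op V) t := rfl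

/-- `Hom(ℤ_V/ℤ_{V ∩ U}, F) ≃ Γ(V, Γ_Z F)` -/
noncomputable def homEquivSectSupp (F : CohTop.Ab X) :
    (LocCohZ.zq (inf_le_left : V ⊓ U ≤ V) ⟶ F) ≃+ (CohCx.sectSupp U F).obj.obj (op V) :=
  (homEquivSectZ F (inf_le_left : V ⊓ U ≤ V)).trans (sectSuppEquivSectZ U V F).symm

lemma homEquivSectSupp_comp {F G : CohTop.Ab X} (φ : LocCohZ.zq (inf_le_left : V ⊓ U ≤ V) ⟶ F)
    (g : F ⟶ G) :
    homEquivSectSupp U V G (φ ≫ g) =
      (((LocCohZ.sectSuppF U).map g).hom.app (op V)).hom (homEquivSectSupp U V F φ) := by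
  apply (sectSuppEquivSectZ U V G).injective
  apply Subtype.ext
  have h1 : sectSuppEquivSectZ U V G (homEquivSectSupp U V G (φ ≫ g)) =
      homEquivSectZ G (inf_le_left : V ⊓ U ≤ V) (φ ≫ g) := AddEquiv.apply_symm_apply _ _
  have h2 : sectSuppEquivSectZ U V F (homEquivSectSupp U V F φ) =
      homEquivSectZ F (inf_le_left : V ⊓ U ≤ V) φ := AddEquiv.apply_symm_apply _ _
  rw [h1]
  refine (homEquivSectZ_comp _ φ g).trans ?_
  rw [← h2]
  change (g.hom.app (op V)).hom ((kernel.ι ((adj U).unit.app F)).hom.app (op V)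
      (homEquivSectSupp U V F φ)) =
    (kernel.ι ((adj U).unit.app G)).hom.app (op V)
      ((((LocCohZ.sectSuppF U).map g).hom.app (op V)).hom (homEquivSectSupp U V F φ))
  have hn : (LocCohZ.sectSuppF U).map g ≫ kernel.ι ((adj U).unit.app G) =
      kernel.ι ((adj U).unit.app F) ≫ g :=
    kernel.lift_ι _ _ _
  have := congrArg (fun κ : (LocCohZ.sectSuppF U).obj F ⟶ G => (κ.hom.app (op V)).hom
    (homEquivSectSupp U V F φ)) hn
  exact this.symm

/-- The natural isomorphism `Hom(ℤ_V/ℤ_{V ∩ U}, -) ≅ Γ(V, Γ_Z -)`. -/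
noncomputable def coyonedaSectSuppIso :
    preadditiveCoyoneda.obj (op (LocCohZ.zq (inf_le_left : V ⊓ U ≤ V))) ≅
      LocCohZ.sectSuppF U ⋙ SiteExtRD.secF (Opens.grothendieckTopology X) V :=
  NatIso.ofComponents (fun F => (homEquivSectSupp U V F).toAddCommGrpIso) (by
    intro F G g
    ext φ
    exact homEquivSectSupp_comp U V φ g)

/-- the spectral sequence `H^p(V, ℋ^q_Z F) ⇒ H^{p+q}_{Z ∩ V}(V, F)` -/
theorem exists_spectralSequence (F : CohTop.Ab X) :
    ∃ (E : E₂CohomologicalSpectralSequence AddCommGrpCat.{u})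
      (a : SpSeq.Abutment E (fun n : ℤ =>
        if 0 ≤ n then AddCommGrpCat.of (LocCohZ.HZ F n.toNat (inf_le_left : V ⊓ U ≤ V))
          else AddCommGrpCat.of PUnit.{u + 1})),
      (∀ n : ℤ, a.IsFinite n) ∧ SpSeq.IsBounded E ∧
      ∀ p q : ℤ, Nonempty ((E.page 2 le_rfl).X (p, q) ≅
        (if 0 ≤ p ∧ 0 ≤ q then AddCommGrpCat.of (CohTop.HU ((LocCohZ.HZsh U q.toNat).obj F) p.toNat V)
          else AddCommGrpCat.of PUnit.{u + 1})) := by
  classical
  let S : CohTop.Ab X ⥤ AddCommGrpCat.{u} :=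
    SiteExtRD.secF (Opens.grothendieckTopology X) V
  have hT : ∀ Q : CohTop.Ab X, Injective Q → ∀ q : ℕ, 0 < q →
      IsZero ((S.rightDerived q).obj ((LocCohZ.sectSuppF U).obj Q)) := by
    intro Q hQ q hq
    obtain ⟨k, rfl⟩ := Nat.exists_eq_succ_of_ne_zero hq.ne'
    obtain ⟨e⟩ := SiteExtRD.nonempty_HU_iso_rightDerived
      (Opens.grothendieckTopology X) ((LocCohZ.sectSuppF U).obj Q) (k + 1) V
    refine IsZero.of_iso ?_ e.symm
    have : TopCat.Sheaf.IsFlasque Q := Groth.Agent.S0454.result Q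
    have : TopCat.Sheaf.IsFlasque ((LocCohZ.sectSuppF U).obj Q) := Groth.Agent.S19245.result Q U
    have h6 := Groth.Agent.S0452.result ((LocCohZ.sectSuppF U).obj Q) V k
    exact @AddCommGrpCat.isZero_of_subsingleton _ h6
  refine SS.grothendieck_spectralSequence_flex
    (LocCohZ.sectSuppF U) S hT F _ _ ?_ ?_ ?_ ?_
  · intro n
    rw [if_pos (Int.natCast_nonneg n), Int.toNat_natCast]
    obtain ⟨e⟩ := LocCohSS.nonempty_ext_iso_rightDerived_coyoneda
      (LocCohZ.zq (inf_le_left : V ⊓ U ≤ V)) F n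
    exact ⟨e ≪≫ (SS.rightDerivedIsoOfIso (coyonedaSectSuppIso U V) n).app F⟩
  · intro n hn
    rw [if_neg (by lia)]
    exact AddCommGrpCat.isZero_of_subsingleton _
  · intro p q
    rw [if_pos ⟨Int.natCast_nonneg p, Int.natCast_nonneg q⟩, Int.toNat_natCast, Int.toNat_natCast]
    exact SiteExtRD.nonempty_HU_iso_rightDerived
      (Opens.grothendieckTopology X) _ p V
  · intro p q h
    rw [if_neg h]
    exact AddCommGrpCat.isZero_of_subsingleton _

lemma ext_subsingleton_of_isZero {A B : CohTop.Ab X} (hB : IsZero B) (n : ℕ) :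
    Subsingleton (Abelian.Ext.{u} A B n) := by
  refine subsingleton_of_forall_eq 0 fun x => ?_
  have h : x = x.comp (Abelian.Ext.mk₀ (𝟙 B)) (add_zero n) := (Abelian.Ext.comp_mk₀_id x).symm
  rw [h, hB.eq_of_src (𝟙 B) 0, Abelian.Ext.mk₀_zero, Abelian.Ext.comp_zero]

/-- `ℋ^q_Z F = 0` for all `q ≤ n` implies `H^n_{Z ∩ V}(V, F) = 0`. -/
theorem subsingleton_HZ_of_isZero_HZsh (F : CohTop.Ab X) (n : ℕ)
    (hz : ∀ q : ℕ, q ≤ n → IsZero ((LocCohZ.HZsh U q).obj F)) :
    Subsingleton (LocCohZ.HZ F n (inf_le_left : V ⊓ U ≤ V)) := by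
  obtain ⟨E, a, hfin, -, hE⟩ := exists_spectralSequence U V F
  have h := SSVanish.isZero_abutment_of_isZero_E2 E _ a (n : ℤ) (hfin n) (by
    intro p
    obtain ⟨e⟩ := hE p ((n : ℤ) - p)
    refine IsZero.of_iso ?_ e
    by_cases hpq : 0 ≤ p ∧ 0 ≤ (n : ℤ) - p
    · rw [if_pos hpq]
      have hq : ((n : ℤ) - p).toNat ≤ n := by omega
      have := ext_subsingleton_of_isZero
        (A := CohCx.freeSheaf (Opens.grothendieckTopology X) V) (hz _ hq) p.toNat
      exact @AddCommGrpCat.isZero_of_subsingleton _ this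
    · rw [if_neg hpq]
      exact AddCommGrpCat.isZero_of_subsingleton _)
  have h' : IsZero (AddCommGrpCat.of (LocCohZ.HZ F n (inf_le_left : V ⊓ U ≤ V))) := by
    have e : (if 0 ≤ (n : ℤ) then AddCommGrpCat.of
        (LocCohZ.HZ F (n : ℤ).toNat (inf_le_left : V ⊓ U ≤ V))
        else AddCommGrpCat.of PUnit.{u + 1}) =
        AddCommGrpCat.of (LocCohZ.HZ F n (inf_le_left : V ⊓ U ≤ V)) := by
      rw [if_pos (Int.natCast_nonneg n), Int.toNat_natCast]
    rw [← e]
    exact h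
  exact AddCommGrpCat.subsingleton_of_isZero h'

end Groth.Agent.Lib.Helper19.LocCohSSV
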