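import Groth.Agent.Lib.Cohomology.Helper3_LocCohSh
import Groth.Agent.Lib.Cohomology.helper5_RightDerivedShift
import Groth.Agent.Lib.Cohomology.helper5_RpushSheafify

/-!
# Vanishing of `R^i (j_* j⁻¹) F` from local vanishing of cohomology classes (helper19)

`G' U = j_* ∘ (restriction to U)`, with `(G' U F)(W) = F(jj U W)` definitionally
(`jj U W` is the open `U ∩ W`).  If every class in `H^(k+1)(jj U W, F)` vanishes locally on `W`
(`LocZero`), then `R^(k+1) (G' U) F = 0`.
-/

set_option autoImplicit false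
universe u
open CategoryTheory CategoryTheory.Limits TopologicalSpace Opposite

namespace Groth.Agent.Lib.Helper19.LocalVanish

open Abelian Groth.Agent.Lib.Cohomology Groth.Agent.Lib.Cohomology.OpenAdj
  Groth.Agent.Lib.Cohomology.Leray

variable {X : TopCat.{u}} (U : Opens X)

/-- `j_* (F|_U)` as a functor of `F` -/
noncomputable abbrev G' : CohTop.Ab X ⥤ CohTop.Ab X :=
  CohTop.restrFunctor U ⋙ CohTop.push (CohCx.incl U)

instance : (G' U).Additive := by unfold G'; infer_instance

instance : PreservesFiniteLimits (G' U) := by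
  have : PreservesFiniteLimits (CohTop.push (CohCx.incl U)) :=
    Groth.Agent.Lib.Cohomology.push_preservesFiniteLimits _
  unfold G'; infer_instance

lemma jj_mono {W' W : Opens X} (h : W' ≤ W) : jj U W' ≤ jj U W :=
  (U.isOpenEmbedding.isOpenMap.functor.map ((Opens.map (CohCx.incl U)).map (homOfLE h))).le

/-- every class of `H^i(U ∩ W, F)` vanishes locally on `W` -/
def LocZero (F : CohTop.Ab X) (i : ℕ) : Prop :=
  ∀ (W : Opens X) (ξ : CohTop.HU F i (jj U W)) (x : X), x ∈ W →
    ∃ (W' : Opens X) (hW' : W' ≤ W), x ∈ W' ∧ CohTop.res F i (jj_mono U hW') ξ = 0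

variable {S : ShortComplex (CohTop.Ab X)} (hS : S.ShortExact)

lemma res_sectδ {V' V : Opens X} (h : V' ≤ V) (t : S.X₃.obj.obj (op V)) :
    CohTop.res S.X₁ 1 h (sectδ hS V t) = sectδ hS V' (S.X₃.obj.map (homOfLE h).op t) := by
  change (Ext.mk₀ (CohCx.freeSheafMap (Opens.grothendieckTopology X) (homOfLE h))).comp
      ((Ext.mk₀ (CohFree.ofSect (Opens.grothendieckTopology X) V S.X₃ t)).comp hS.extClass
        (zero_add 1)) (zero_add 1) =
    (Ext.mk₀ (CohFree.ofSect (Opens.grothendieckTopology X) V' S.X₃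
      (S.X₃.obj.map (homOfLE h).op t))).comp hS.extClass (zero_add 1)
  rw [RpushSh.ofSect_res, ← Ext.mk₀_comp_mk₀, Ext.comp_assoc_of_second_deg_zero]

lemma res_extδ {V' V : Opens X} (h : V' ≤ V) (p : ℕ) (x : CohTop.HU S.X₃ p V) :
    CohTop.res S.X₁ (p + 1) h (extδ hS (zz V) p x) = extδ hS (zz V') p (CohTop.res S.X₃ p h x) := by
  change (Ext.mk₀ (CohCx.freeSheafMap (Opens.grothendieckTopology X) (homOfLE h))).comp
      (x.comp hS.extClass rfl) (zero_add (p + 1)) =
    ((Ext.mk₀ (CohCx.freeSheafMap (Opens.grothendieckTopology X) (homOfLE h))).comp x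
      (zero_add p)).comp hS.extClass rfl
  exact (Ext.comp_assoc _ _ _ (zero_add p) rfl (by omega)).symm

include hS in
lemma epi_map_g_of_locZero [Injective S.X₂] (h : LocZero U S.X₁ 1) : Epi ((G' U).map S.g) := by
  refine (TopCat.Sheaf.isLocallySurjective_iff_epi (X := X) (C := AddCommGrpCat.{u})
    ((G' U).map S.g)).1 ?_
  rw [TopCat.Presheaf.isLocallySurjective_iff]
  intro W t x hx
  obtain ⟨W', hW', hxW', h0⟩ := h W (sectδ hS (jj U W) t) x hx
  have hk : S.X₃.obj.map (homOfLE (jj_mono U hW')).op t ∈ (sectδ hS (jj U W')).ker :=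
    (res_sectδ hS (jj_mono U hW') t).symm.trans h0
  rw [sectδ_ker] at hk
  obtain ⟨s, hs⟩ := hk
  exact ⟨W', hW', ⟨s, hs⟩, hxW'⟩

include hS in
lemma isZero_rightDerived_one [Injective S.X₂] (h : LocZero U S.X₁ 1) :
    IsZero (((G' U).rightDerived 1).obj S.X₁) := by
  obtain ⟨π, w, hπ, -⟩ := RDShift.exists_rightDerived_one_cokernel hS (G' U)
  have := epi_map_g_of_locZero U hS h
  have hπ0 : π = 0 := by
    rw [← cancel_epi ((G' U).map S.g), w, comp_zero]
  rw [IsZero.iff_id_eq_zero, ← cancel_epi π, hπ0, zero_comp, zero_comp]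

include hS in
lemma locZero_X₃ [Injective S.X₂] (k : ℕ) (h : LocZero U S.X₁ (k + 2)) :
    LocZero U S.X₃ (k + 1) := by
  intro W ξ x hx
  obtain ⟨W', hW', hxW', h0⟩ := h W (extδ hS (zz (jj U W)) (k + 1) ξ) x hx
  refine ⟨W', hW', hxW', ?_⟩
  apply extδ_injective hS (zz (jj U W')) k
  exact ((res_extδ hS (jj_mono U hW') (k + 1) ξ).symm.trans h0).trans (map_zero _).symm

/-- local vanishing of the classes of `H^(k+1)(U ∩ W, F)` kills `R^(k+1)(j_* j⁻¹) F` -/
theorem isZero_rightDerived_of_locZero (k : ℕ) : ∀ (F : CohTop.Ab X), LocZero U F (k + 1) →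
    IsZero (((G' U).rightDerived (k + 1)).obj F) := by
  induction k with
  | zero =>
    intro F h
    exact isZero_rightDerived_one U (injSES_shortExact F) h
  | succ k ih =>
    intro F h
    have hS := injSES_shortExact F
    obtain ⟨e⟩ := RDShift.rightDerived_shift hS (G' U) k
    exact (ih _ (locZero_X₃ U hS k h)).of_iso e

end Groth.Agent.Lib.Helper19.LocalVanish
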