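import Groth.Agent.Lib.Helper19.ModPlainFG
import Groth.Agent.Lib.Helper43.ClosedPushAb

/-!
# Pushforward of modules along a closed immersion of ringed spaces (helper19)

Namespace `Groth.Agent.Lib.Helper19.ModClosedPush`.  Builds on helper43's `ClosedPush*`
(abelian sheaves) and transfers along `SheafOfModules.toSheaf`.
-/

set_option autoImplicit false
set_option linter.unusedSectionVars false
set_option linter.style.haveILetI false
universe u
open CategoryTheory CategoryTheory.Limits Opposite TopologicalSpace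

namespace Groth.Agent.Lib.Helper19.ModClosedPush

open ModSite Groth.Agent.Lib.Helper19.ModPlainFG Groth.Agent.Lib.Helper43.ClosedPush
  Groth.Agent.Lib.Helper43.ClosedPushAb

/-- sections which agree locally agree -/
lemma eq_of_locally_eq {Y : TopCat.{u}} {O : Sheaf (Opens.grothendieckTopology Y) CommRingCat.{u}}
    (M : ModSite.Mod O) (W : Opens Y) (s t : M.val.obj (op W))
    (h : ∀ z ∈ W, ∃ (W' : Opens Y) (k : W' ⟶ W), z ∈ W' ∧
      M.val.map k.op s = M.val.map k.op t) : s = t := by
  refine Groth.Agent.Lib.Helper94.JShriek.sect_ext_of_mem O M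
    ({ arrows := fun W' k => M.val.map k.op s = M.val.map k.op t
       downward_closed := ?_ } : Sieve W) ?_ s t (fun W' g hg => hg)
  · intro W' W'' k hk l
    have e1 := PresheafOfModules.map_comp_apply M.val k.op l.op s
    have e2 := PresheafOfModules.map_comp_apply M.val k.op l.op t
    exact e1.trans ((congrArg (M.val.map l.op) hk).trans e2.symm)
  · intro z hz
    obtain ⟨W', k, hz', hk⟩ := h z hz
    exact ⟨W', k, hk, hz'⟩

variable {Z X : TopCat.{u}} (i : Z ⟶ X)
  {O_Z : Sheaf (Opens.grothendieckTopology Z) CommRingCat.{u}}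
  {O_X : Sheaf (Opens.grothendieckTopology X) CommRingCat.{u}}
  (c : O_X ⟶ ((Opens.map i).sheafPushforwardContinuous CommRingCat.{u}
    (Opens.grothendieckTopology X) (Opens.grothendieckTopology Z)).obj O_Z)

/-- the pushforward functor -/
noncomputable abbrev pushF : ModSite.Mod O_Z ⥤ ModSite.Mod O_X :=
  (ModSite.RMor.ofFlat (Opens.map i) c).push

lemma toSheaf_push_map {F G : ModSite.Mod O_Z} (φ : F ⟶ G) :
    (SheafOfModules.toSheaf (ringSh O_X)).map ((pushF i c).map φ) =
      (CohTop.push i).map ((SheafOfModules.toSheaf (ringSh O_Z)).map φ) := rfl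

theorem push_map_epi' (hi : Topology.IsClosedEmbedding i) {F G : ModSite.Mod O_Z} (φ : F ⟶ G)
    [Epi φ] : Epi ((pushF i c).map φ) := by
  haveI := Groth.Agent.Lib.Helper94.ModSiteBasic.toSheaf_preservesFiniteColimits (ringSh O_Z)
  have h1 : Epi ((SheafOfModules.toSheaf (ringSh O_Z)).map φ) := inferInstance
  have h2 := push_map_epi hi ((SheafOfModules.toSheaf (ringSh O_Z)).map φ)
  haveI : (SheafOfModules.toSheaf (ringSh O_X)).Faithful := inferInstance
  haveI : (SheafOfModules.toSheaf (ringSh O_X)).ReflectsEpimorphisms :=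
    Functor.reflectsEpimorphisms_of_faithful _
  apply (SheafOfModules.toSheaf (ringSh O_X)).epi_of_epi_map
  exact h2

theorem push_preservesFiniteColimits' (hi : Topology.IsClosedEmbedding i) :
    PreservesFiniteColimits (pushF i c) := by
  rw [Functor.preservesFiniteColimits_iff_forall_exact_map_and_epi]
  intro S hS
  refine ⟨?_, ?_⟩
  · have hlim : PreservesFiniteLimits (pushF i c) := by
      have : PreservesLimitsOfSize.{0, 0} (pushF i c) :=
        (ModSite.RMor.adj (ModSite.RMor.ofFlat (Opens.map i) c)).rightAdjoint_preservesLimits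
      exact ⟨fun _ _ _ => inferInstance⟩
    exact ((Functor.preservesFiniteLimits_iff_forall_exact_map_and_mono (pushF i c)).mp
      hlim S hS).1
  · have := hS.epi_g
    exact push_map_epi' i c hi S.g

theorem push_faithful' (hi : Topology.IsInducing i) : (pushF i c).Faithful := by
  constructor
  intro F G φ ψ h
  have h1 : (CohTop.push i).map ((SheafOfModules.toSheaf (ringSh O_Z)).map φ) =
      (CohTop.push i).map ((SheafOfModules.toSheaf (ringSh O_Z)).map ψ) :=
    congrArg (SheafOfModules.toSheaf (ringSh O_X)).map h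
  haveI := push_faithful (i := i) hi
  have h2 := (CohTop.push i).map_injective h1
  exact (SheafOfModules.toSheaf (ringSh O_Z)).map_injective h2


/-- local lifting of a section of `O_Z` through the comorphism -/
lemma exists_lift_ring (hi : Topology.IsInducing i) (hc : Sheaf.IsLocallySurjective c)
    (W : Opens Z) (b : O_Z.obj.obj (op W)) (z : Z) (hz : z ∈ W) :
    ∃ (U' : Opens X) (kW : (Opens.map i).obj U' ⟶ W) (_ : i z ∈ U') (a : O_X.obj.obj (op U')),
      c.hom.app (op U') a = O_Z.obj.map kW.op b := by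
  have le1 : (Opens.map i).obj (r hi W) ≤ W := (map_r hi W).le
  have le2 : W ≤ (Opens.map i).obj (r hi W) := (map_r hi W).ge
  have hiz : i z ∈ r hi W := le2 hz
  haveI : Presheaf.IsLocallySurjective (Opens.grothendieckTopology X) c.hom := hc
  have hmem := Presheaf.imageSieve_mem (Opens.grothendieckTopology X) c.hom (U := op (r hi W))
    (O_Z.obj.map (homOfLE le1).op b)
  obtain ⟨U', k, ⟨a, ha⟩, hU'⟩ := hmem (i z) hiz
  refine ⟨U', (Opens.map i).map k ≫ homOfLE le1, hU', a, ha.trans ?_⟩
  rw [op_comp, Functor.map_comp]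
  rfl

theorem push_full' (hi : Topology.IsInducing i) (hc : Sheaf.IsLocallySurjective c) :
    (pushF i c).Full := by
  constructor
  intro F G g
  haveI := push_full (i := i) hi
  obtain ⟨h₀, hh₀⟩ : ∃ h₀ : (SheafOfModules.toSheaf (ringSh O_Z)).obj F ⟶
      (SheafOfModules.toSheaf (ringSh O_Z)).obj G,
      (CohTop.push i).map h₀ = (SheafOfModules.toSheaf (ringSh O_X)).map g :=
    ⟨(CohTop.push i).preimage ((SheafOfModules.toSheaf (ringSh O_X)).map g),
      Functor.map_preimage _ _⟩
  have nat : ∀ {W W' : Opens Z} (k : W' ⟶ W) (x : F.val.obj (op W)),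
      G.val.map k.op (h₀.hom.app (op W) x) = h₀.hom.app (op W') (F.val.map k.op x) := by
    intro W W' k x
    exact (ConcreteCategory.congr_hom (h₀.hom.naturality k.op) x).symm
  have hg : ∀ (U' : Opens X) (t : F.val.obj (op ((Opens.map i).obj U'))),
      h₀.hom.app (op ((Opens.map i).obj U')) t =
        (g.val.app (op U')).hom (show ((pushF i c).obj F).val.obj (op U') from t) := by
    intro U' t
    have := congrArg (fun f => f.hom.app (op U')) hh₀
    exact ConcreteCategory.congr_hom this t
  have lin : ∀ (W : (Opens Z)ᵒᵖ) (b : (ringSh O_Z).obj.obj W) (s : F.val.obj W),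
      h₀.hom.app W (b • s) = b • (show G.val.obj W from h₀.hom.app W s) := by
    intro W b s
    obtain ⟨W⟩ := W
    refine eq_of_locally_eq G W _ _ ?_
    intro z hz
    obtain ⟨U', kW, hU', a, ha⟩ := exists_lift_ring i c hi hc W b z hz
    refine ⟨(Opens.map i).obj U', kW, hU', ?_⟩
    have e1 : G.val.map kW.op (h₀.hom.app (op W) (b • s)) =
        h₀.hom.app (op ((Opens.map i).obj U')) (F.val.map kW.op (b • s)) := nat kW _
    have e2 : F.val.map kW.op (b • s) =
        (show (ringSh O_Z).obj.obj (op ((Opens.map i).obj U')) from c.hom.app (op U') a) •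
          (show sect F ((Opens.map i).obj U') from F.val.map kW.op s) := by
      refine (PresheafOfModules.map_smul F.val kW.op b s).trans ?_
      congr 1
      exact ha.symm
    have e3 : h₀.hom.app (op ((Opens.map i).obj U'))
        ((show (ringSh O_Z).obj.obj (op ((Opens.map i).obj U')) from c.hom.app (op U') a) •
          (show sect F ((Opens.map i).obj U') from F.val.map kW.op s)) =
        (show (ringSh O_Z).obj.obj (op ((Opens.map i).obj U')) from c.hom.app (op U') a) •
          (show sect G ((Opens.map i).obj U') from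
            h₀.hom.app (op ((Opens.map i).obj U')) (F.val.map kW.op s)) := by
      rw [hg, hg]
      exact (g.val.app (op U')).hom.map_smul (show (ringSh O_X).obj.obj (op U') from a)
        (show ((pushF i c).obj F).val.obj (op U') from F.val.map kW.op s)
    have e4 : G.val.map kW.op (b • (show G.val.obj (op W) from h₀.hom.app (op W) s)) =
        (show (ringSh O_Z).obj.obj (op ((Opens.map i).obj U')) from c.hom.app (op U') a) •
          (show sect G ((Opens.map i).obj U') from
            h₀.hom.app (op ((Opens.map i).obj U')) (F.val.map kW.op s)) := by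
      refine (PresheafOfModules.map_smul G.val kW.op b _).trans ?_
      congr 1
      · exact ha.symm
      · exact nat kW s
    exact e1.trans ((congrArg _ e2).trans (e3.trans e4.symm))
  refine ⟨⟨PresheafOfModules.homMk h₀.hom lin⟩, ?_⟩
  apply (SheafOfModules.toSheaf (ringSh O_X)).map_injective
  refine Eq.trans ?_ hh₀
  refine (toSheaf_push_map i c _).trans ?_
  congr 1


section EssImage

variable (hi : Topology.IsClosedEmbedding i)

/-- any two sections of `O_Z` over an empty open agree -/
lemma ring_eq_of_forall_not_mem (V : Opens Z) (hV : ∀ z, z ∉ V) (b b' : O_Z.obj.obj (op V)) :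
    b = b' :=
  eq_of_forall_not_mem (ModSite.unit O_Z) V hV b b'

/-- the canonical map `i⁻¹U' ⟶ W` for `U' ⟶ r W` -/
noncomputable def kZ {W : Opens Z} {U' : Opens X} (k : U' ⟶ r hi.isInducing W) :
    (Opens.map i).obj U' ⟶ W :=
  (Opens.map i).map k ≫ homOfLE (map_r hi.isInducing W).le

/-- local lifting of a section of `O_Z` through the comorphism, around any point of `r W` -/
lemma exists_lift_ring' (hc : Sheaf.IsLocallySurjective c)
    (W : Opens Z) (b : O_Z.obj.obj (op W)) (x : X) (hx : x ∈ r hi.isInducing W) :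
    ∃ (U' : Opens X) (k : U' ⟶ r hi.isInducing W) (_ : x ∈ U') (a : O_X.obj.obj (op U')),
      c.hom.app (op U') a = O_Z.obj.map (kZ i hi k).op b := by
  by_cases hxr : x ∈ Set.range i
  · obtain ⟨z, rfl⟩ := hxr
    haveI : Presheaf.IsLocallySurjective (Opens.grothendieckTopology X) c.hom := hc
    have hmem := Presheaf.imageSieve_mem (Opens.grothendieckTopology X) c.hom
      (U := op (r hi.isInducing W))
      (O_Z.obj.map (homOfLE (map_r hi.isInducing W).le).op b)
    obtain ⟨U', k, ⟨a, ha⟩, hU'⟩ := hmem (i z) hx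
    refine ⟨U', k, hU', a, ha.trans ?_⟩
    rw [kZ, op_comp, Functor.map_comp]
    rfl
  · refine ⟨r hi.isInducing W ⊓ compl hi, homOfLE inf_le_left, ⟨hx, hxr⟩, 0, ?_⟩
    refine ring_eq_of_forall_not_mem (O_Z := O_Z)
      ((Opens.map i).obj (r hi.isInducing W ⊓ compl hi)) ?_ _ _
    intro z hz
    exact hz.2 ⟨z, rfl⟩


/-- naturality of the comorphism, elementwise -/
lemma c_res {U V : Opens X} (l : V ⟶ U) (a : O_X.obj.obj (op U)) :
    c.hom.app (op V) (O_X.obj.map l.op a) =
      O_Z.obj.map ((Opens.map i).map l).op (c.hom.app (op U) a) := by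
  have n1 := congrArg (fun f => f.hom a) (c.hom.naturality l.op)
  exact n1

/-- restriction of sections of `O_Z` along a thin triangle -/
lemma ringZ_thin {A B D : Opens Z} (f : B ⟶ A) (g : D ⟶ B) (h : D ⟶ A) (b : O_Z.obj.obj (op A)) :
    O_Z.obj.map g.op (O_Z.obj.map f.op b) = O_Z.obj.map h.op b := by
  have := ConcreteCategory.congr_hom (map_map_thin O_Z.obj f.op g.op h.op) b
  exact this

/-- restriction of sections of a module along a thin triangle -/
lemma mod_thin {Y : TopCat.{u}} {O : Sheaf (Opens.grothendieckTopology Y) CommRingCat.{u}}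
    (M : ModSite.Mod O) {A B D : Opens Y} (f : B ⟶ A) (g : D ⟶ B) (h : D ⟶ A)
    (s : M.val.obj (op A)) : M.val.map g.op (M.val.map f.op s) = M.val.map h.op s := by
  rw [← PresheafOfModules.map_comp_apply, ← op_comp]
  rfl

/-- the action of `O_X` on sections of a module -/
def sm (G : ModSite.Mod O_X) {U : Opens X} (a : O_X.obj.obj (op U)) (s : G.val.obj (op U)) :
    G.val.obj (op U) :=
  (show (ringSh O_X).obj.obj (op U) from a) • s

section Sm

variable (G : ModSite.Mod O_X) {U : Opens X}

lemma sm_res {V : Opens X} (l : V ⟶ U) (a : O_X.obj.obj (op U)) (s : G.val.obj (op U)) :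
    G.val.map l.op (sm G a s) = sm G (O_X.obj.map l.op a) (G.val.map l.op s) :=
  PresheafOfModules.map_smul G.val l.op _ _

lemma sm_add_left (a a' : O_X.obj.obj (op U)) (s : G.val.obj (op U)) :
    sm G (a + a') s = sm G a s + sm G a' s :=
  add_smul (show (ringSh O_X).obj.obj (op U) from a) (show (ringSh O_X).obj.obj (op U) from a') s

lemma sm_sub_left (a a' : O_X.obj.obj (op U)) (s : G.val.obj (op U)) :
    sm G (a - a') s = sm G a s - sm G a' s :=
  sub_smul (show (ringSh O_X).obj.obj (op U) from a) (show (ringSh O_X).obj.obj (op U) from a') s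

lemma sm_add_right (a : O_X.obj.obj (op U)) (s s' : G.val.obj (op U)) :
    sm G a (s + s') = sm G a s + sm G a s' :=
  smul_add (show (ringSh O_X).obj.obj (op U) from a) s s'

lemma sm_mul (a a' : O_X.obj.obj (op U)) (s : G.val.obj (op U)) :
    sm G (a * a') s = sm G a (sm G a' s) :=
  mul_smul (show (ringSh O_X).obj.obj (op U) from a) (show (ringSh O_X).obj.obj (op U) from a') s

lemma sm_one (s : G.val.obj (op U)) : sm G (1 : O_X.obj.obj (op U)) s = s :=
  one_smul (show Type u from (ringSh O_X).obj.obj (op U)) s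

lemma sm_zero_left (s : G.val.obj (op U)) : sm G (0 : O_X.obj.obj (op U)) s = 0 :=
  zero_smul (show Type u from (ringSh O_X).obj.obj (op U)) s

lemma sm_zero_right (a : O_X.obj.obj (op U)) : sm G a (0 : G.val.obj (op U)) = 0 :=
  smul_zero (show (ringSh O_X).obj.obj (op U) from a)

end Sm


section Act

variable (hc : Sheaf.IsLocallySurjective c) (G : ModSite.Mod O_X)
  (hG : ∀ (U : Opens X) (a : O_X.obj.obj (op U)), c.hom.app (op U) a = 0 →
    ∀ s : G.val.obj (op U), sm G a s = 0)

include hG in
/-- two lifts of the same section of `O_Z` act in the same way -/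
lemma sm_eq_of_lifts {V : Opens X} (a a' : O_X.obj.obj (op V))
    (h : c.hom.app (op V) a = c.hom.app (op V) a') (s : G.val.obj (op V)) :
    sm G a s = sm G a' s := by
  have h0 : c.hom.app (op V) (a - a') = 0 := by
    rw [map_sub, h, sub_self]
  have h1 := hG V (a - a') h0 s
  rw [sm_sub_left] at h1
  exact sub_eq_zero.1 h1

/-- restricting a lift -/
lemma c_lift_res {W : Opens Z} (b : O_Z.obj.obj (op W)) {U' V : Opens X}
    (k : U' ⟶ r hi.isInducing W) (l : V ⟶ U') (k' : V ⟶ r hi.isInducing W)
    (a : O_X.obj.obj (op U'))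
    (ha : c.hom.app (op U') a = O_Z.obj.map (kZ i hi k).op b) :
    c.hom.app (op V) (O_X.obj.map l.op a) = O_Z.obj.map (kZ i hi k').op b := by
  rw [c_res, ha]
  exact ringZ_thin _ _ _ b

/-- `t` is the product `b • s` -/
def IsAct (W : Opens Z) (b : O_Z.obj.obj (op W)) (s t : G.val.obj (op (r hi.isInducing W))) :
    Prop :=
  ∀ x ∈ r hi.isInducing W, ∃ (U' : Opens X) (k : U' ⟶ r hi.isInducing W) (_ : x ∈ U')
    (a : O_X.obj.obj (op U')),
    c.hom.app (op U') a = O_Z.obj.map (kZ i hi k).op b ∧
      G.val.map k.op t = sm G a (G.val.map k.op s)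

variable {i c hi G}

include hG in
/-- the strong form of the defining property -/
lemma IsAct.res {W : Opens Z} {b : O_Z.obj.obj (op W)} {s t : G.val.obj (op (r hi.isInducing W))}
    (h : IsAct i c hi G W b s t) {U' : Opens X} (k : U' ⟶ r hi.isInducing W)
    (a : O_X.obj.obj (op U')) (ha : c.hom.app (op U') a = O_Z.obj.map (kZ i hi k).op b) :
    G.val.map k.op t = sm G a (G.val.map k.op s) := by
  refine eq_of_locally_eq G U' _ _ ?_
  intro x hx
  obtain ⟨U'', k'', hx'', a'', ha'', ht''⟩ := h x (leOfHom k hx)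
  refine ⟨U' ⊓ U'', homOfLE inf_le_left, ⟨hx, hx''⟩, ?_⟩
  have e1 : G.val.map (homOfLE (inf_le_left : U' ⊓ U'' ≤ U')).op (G.val.map k.op t) =
      G.val.map (homOfLE (inf_le_right : U' ⊓ U'' ≤ U'')).op (G.val.map k''.op t) :=
    (mod_thin G k _ (homOfLE inf_le_left ≫ k) t).trans
      (mod_thin G k'' _ (homOfLE inf_le_left ≫ k) t).symm
  rw [e1, ht'', sm_res, sm_res, mod_thin G k'' _ (homOfLE inf_le_left ≫ k) s,
    mod_thin G k _ (homOfLE inf_le_left ≫ k) s]
  refine sm_eq_of_lifts i c G hG _ _ ?_ _
  rw [c_lift_res i c hi b k'' _ (homOfLE inf_le_left ≫ k) a'' ha'',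
    c_lift_res i c hi b k _ (homOfLE inf_le_left ≫ k) a ha]

include hG in
lemma IsAct.unique {W : Opens Z} {b : O_Z.obj.obj (op W)}
    {s t t' : G.val.obj (op (r hi.isInducing W))}
    (h : IsAct i c hi G W b s t) (h' : IsAct i c hi G W b s t') : t = t' := by
  refine eq_of_locally_eq G _ _ _ ?_
  intro x hx
  obtain ⟨U', k, hx', a, ha, ht⟩ := h x hx
  exact ⟨U', k, hx', ht.trans (h'.res hG k a ha).symm⟩


variable (hi)

/-- local lifts of a section of `O_Z` -/
structure Lift (i : Z ⟶ X) (c : O_X ⟶ ((Opens.map i).sheafPushforwardContinuous CommRingCat.{u}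
    (Opens.grothendieckTopology X) (Opens.grothendieckTopology Z)).obj O_Z)
    (hi : Topology.IsClosedEmbedding i) (W : Opens Z) (b : O_Z.obj.obj (op W)) where
  /-- the open -/
  U' : Opens X
  /-- the inclusion -/
  k : U' ⟶ r hi.isInducing W
  /-- the lift -/
  a : O_X.obj.obj (op U')
  /-- it is a lift -/
  ha : c.hom.app (op U') a = O_Z.obj.map (kZ i hi k).op b

include hG hc in
theorem exists_isAct (W : Opens Z) (b : O_Z.obj.obj (op W))
    (s : G.val.obj (op (r hi.isInducing W))) :
    ∃ t : G.val.obj (op (r hi.isInducing W)), IsAct i c hi G W b s t := by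
  let GA : TopCat.Sheaf AddCommGrpCat.{u} X := (SheafOfModules.toSheaf (ringSh O_X)).obj G
  let U : Lift i c hi W b → Opens X := fun p => p.U'
  let sf : ∀ p : Lift i c hi W b, ToType (GA.1.obj (op (U p))) :=
    fun p => sm G p.a (G.val.map p.k.op s)
  have hcompat : TopCat.Presheaf.IsCompatible GA.1 U sf := by
    intro p q
    change G.val.map (Opens.infLELeft (U p) (U q)).op (sm G p.a (G.val.map p.k.op s)) =
      G.val.map (Opens.infLERight (U p) (U q)).op (sm G q.a (G.val.map q.k.op s))
    rw [sm_res, sm_res, mod_thin G p.k _ (Opens.infLELeft (U p) (U q) ≫ p.k) s,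
      mod_thin G q.k _ (Opens.infLELeft (U p) (U q) ≫ p.k) s]
    refine sm_eq_of_lifts i c G hG _ _ ?_ _
    rw [c_lift_res i c hi b p.k _ (Opens.infLELeft (U p) (U q) ≫ p.k) p.a p.ha,
      c_lift_res i c hi b q.k _ (Opens.infLELeft (U p) (U q) ≫ p.k) q.a q.ha]
  have hcover : r hi.isInducing W ≤ iSup U := by
    intro x hx
    obtain ⟨U', k, hx', a, ha⟩ := exists_lift_ring' i c hi hc W b x hx
    exact Opens.mem_iSup.2 ⟨⟨U', k, a, ha⟩, hx'⟩
  obtain ⟨t, ht, -⟩ := GA.existsUnique_gluing' U (r hi.isInducing W) (fun p => p.k) hcover sf hcompat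
  refine ⟨t, ?_⟩
  intro x hx
  obtain ⟨U', k, hx', a, ha⟩ := exists_lift_ring' i c hi hc W b x hx
  exact ⟨U', k, hx', a, ha, ht ⟨U', k, a, ha⟩⟩

/-- the action of `O_Z(W)` on `G(r W)` -/
noncomputable def act (W : Opens Z) (b : O_Z.obj.obj (op W))
    (s : G.val.obj (op (r hi.isInducing W))) : G.val.obj (op (r hi.isInducing W)) :=
  Classical.choose (exists_isAct hi hc hG W b s)

lemma act_spec (W : Opens Z) (b : O_Z.obj.obj (op W))
    (s : G.val.obj (op (r hi.isInducing W))) : IsAct i c hi G W b s (act hi hc hG W b s) :=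
  Classical.choose_spec (exists_isAct hi hc hG W b s)

lemma eq_act {W : Opens Z} {b : O_Z.obj.obj (op W)}
    {s t : G.val.obj (op (r hi.isInducing W))} (h : IsAct i c hi G W b s t) :
    t = act hi hc hG W b s :=
  h.unique hG (act_spec hi hc hG W b s)


include hc in
/-- common local lifts of two sections of `O_Z` -/
lemma exists_lift₂ (W : Opens Z) (b b' : O_Z.obj.obj (op W)) (x : X)
    (hx : x ∈ r hi.isInducing W) :
    ∃ (U' : Opens X) (k : U' ⟶ r hi.isInducing W) (_ : x ∈ U') (a a' : O_X.obj.obj (op U')),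
      c.hom.app (op U') a = O_Z.obj.map (kZ i hi k).op b ∧
        c.hom.app (op U') a' = O_Z.obj.map (kZ i hi k).op b' := by
  obtain ⟨U₁, k₁, hx₁, a₁, ha₁⟩ := exists_lift_ring' i c hi hc W b x hx
  obtain ⟨U₂, k₂, hx₂, a₂, ha₂⟩ := exists_lift_ring' i c hi hc W b' x hx
  refine ⟨U₁ ⊓ U₂, homOfLE inf_le_left ≫ k₁, ⟨hx₁, hx₂⟩,
    O_X.obj.map (homOfLE (inf_le_left : U₁ ⊓ U₂ ≤ U₁)).op a₁,
    O_X.obj.map (homOfLE (inf_le_right : U₁ ⊓ U₂ ≤ U₂)).op a₂, ?_, ?_⟩
  · exact c_lift_res i c hi b k₁ _ _ a₁ ha₁
  · exact c_lift_res i c hi b' k₂ _ _ a₂ ha₂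

lemma act_one (W : Opens Z) (s : G.val.obj (op (r hi.isInducing W))) :
    act hi hc hG W 1 s = s := by
  refine (eq_act hi hc hG ?_).symm
  intro x hx
  refine ⟨r hi.isInducing W, 𝟙 _, hx, 1, ?_, ?_⟩
  · rw [map_one, map_one]
    rfl
  · exact (sm_one G _).symm

lemma act_zero_left (W : Opens Z) (s : G.val.obj (op (r hi.isInducing W))) :
    act hi hc hG W 0 s = 0 := by
  refine (eq_act hi hc hG ?_).symm
  intro x hx
  refine ⟨r hi.isInducing W, 𝟙 _, hx, 0, ?_, ?_⟩
  · rw [map_zero, map_zero]
    rfl
  · rw [sm_zero_left, map_zero]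
    rfl

lemma act_zero_right (W : Opens Z) (b : O_Z.obj.obj (op W)) :
    act hi hc hG W b (0 : G.val.obj (op (r hi.isInducing W))) = 0 := by
  refine (eq_act hi hc hG ?_).symm
  intro x hx
  obtain ⟨U', k, hx', a, ha⟩ := exists_lift_ring' i c hi hc W b x hx
  refine ⟨U', k, hx', a, ha, ?_⟩
  rw [map_zero]
  exact (sm_zero_right G a).symm

lemma act_mul (W : Opens Z) (b b' : O_Z.obj.obj (op W))
    (s : G.val.obj (op (r hi.isInducing W))) :
    act hi hc hG W (b * b') s = act hi hc hG W b (act hi hc hG W b' s) := by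
  refine (eq_act hi hc hG ?_).symm
  intro x hx
  obtain ⟨U', k, hx', a, a', ha, ha'⟩ := exists_lift₂ hi hc W b b' x hx
  refine ⟨U', k, hx', a * a', ?_, ?_⟩
  · rw [map_mul, map_mul, ha, ha']
    rfl
  · rw [(act_spec hi hc hG W b _).res hG k a ha, (act_spec hi hc hG W b' s).res hG k a' ha',
      sm_mul]

lemma act_add_left (W : Opens Z) (b b' : O_Z.obj.obj (op W))
    (s : G.val.obj (op (r hi.isInducing W))) :
    act hi hc hG W (b + b') s = act hi hc hG W b s + act hi hc hG W b' s := by
  refine (eq_act hi hc hG ?_).symm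
  intro x hx
  obtain ⟨U', k, hx', a, a', ha, ha'⟩ := exists_lift₂ hi hc W b b' x hx
  refine ⟨U', k, hx', a + a', ?_, ?_⟩
  · rw [map_add, map_add, ha, ha']
    rfl
  · rw [map_add, (act_spec hi hc hG W b s).res hG k a ha,
      (act_spec hi hc hG W b' s).res hG k a' ha', sm_add_left]
    rfl

lemma act_add_right (W : Opens Z) (b : O_Z.obj.obj (op W))
    (s s' : G.val.obj (op (r hi.isInducing W))) :
    act hi hc hG W b (s + s') = act hi hc hG W b s + act hi hc hG W b s' := by
  refine (eq_act hi hc hG ?_).symm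
  intro x hx
  obtain ⟨U', k, hx', a, ha⟩ := exists_lift_ring' i c hi hc W b x hx
  refine ⟨U', k, hx', a, ha, ?_⟩
  rw [map_add, (act_spec hi hc hG W b s).res hG k a ha,
    (act_spec hi hc hG W b s').res hG k a ha, map_add]
  exact (sm_add_right G a _ _).symm

lemma act_res {W W' : Opens Z} (f : W' ⟶ W) (f' : r hi.isInducing W' ⟶ r hi.isInducing W)
    (b : O_Z.obj.obj (op W)) (s : G.val.obj (op (r hi.isInducing W))) :
    G.val.map f'.op (act hi hc hG W b s) =
      act hi hc hG W' (O_Z.obj.map f.op b) (G.val.map f'.op s) := by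
  have key : IsAct i c hi G W' (O_Z.obj.map f.op b) (G.val.map f'.op s)
      (G.val.map f'.op (act hi hc hG W b s)) := by
    intro x hx
    obtain ⟨U', k, hx', a, ha⟩ := exists_lift_ring' i c hi hc W' (O_Z.obj.map f.op b) x hx
    refine ⟨U', k, hx', a, ha, ?_⟩
    have ha' : c.hom.app (op U') a = O_Z.obj.map (kZ i hi (k ≫ f')).op b :=
      ha.trans (ringZ_thin _ _ _ b)
    have e := (act_spec hi hc hG W b s).res hG (k ≫ f') a ha'
    rw [mod_thin G f' k (k ≫ f'), mod_thin G f' k (k ≫ f')]
    exact e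
  exact eq_act hi hc hG key


/-- the abelian presheaf on `Z` underlying the module: `W ↦ G(r W)` -/
noncomputable abbrev P (G : ModSite.Mod O_X) : (Opens Z)ᵒᵖ ⥤ AddCommGrpCat.{u} :=
  (rF hi.isInducing).op ⋙ G.val.presheaf

/-- the module structure on `G(r W)` over `O_Z(W)` -/
noncomputable def modP (W : (Opens Z)ᵒᵖ) :
    Module ((ringSh O_Z).obj.obj W) ((P hi G).obj W) :=
  { smul := fun b s => act hi hc hG W.unop b s
    one_smul := fun s => act_one hi hc hG W.unop s
    mul_smul := fun b b' s => act_mul hi hc hG W.unop b b' s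
    smul_zero := fun b => act_zero_right hi hc hG W.unop b
    smul_add := fun b s s' => act_add_right hi hc hG W.unop b s s'
    add_smul := fun b b' s => act_add_left hi hc hG W.unop b b' s
    zero_smul := fun s => act_zero_left hi hc hG W.unop s }

/-- the presheaf of modules on `Z` -/
noncomputable def FP : PresheafOfModules.{u} (ringSh O_Z).obj :=
  letI := modP hi hc hG
  PresheafOfModules.ofPresheaf (P hi G) (by
    intro A B f b m
    exact act_res hi hc hG f.unop ((rF hi.isInducing).map f.unop) b m)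


include hG in
/-- sections of `G` over opens missing `Z` vanish -/
lemma subsingleton_of_le_compl (V : Opens X) (hV : V ≤ compl hi) :
    Subsingleton (G.val.obj (op V)) := by
  constructor
  intro s t
  have h0 : c.hom.app (op V) 1 = 0 :=
    ring_eq_of_forall_not_mem (O_Z := O_Z) ((Opens.map i).obj V)
      (fun z hz => hV hz ⟨z, rfl⟩) _ _
  have hs := hG V 1 h0 s
  rw [sm_one] at hs
  have ht := hG V 1 h0 t
  rw [sm_one] at ht
  exact hs.trans ht.symm

/-- the restriction maps `G(r(i⁻¹V)) ⟶ G(V)` -/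
noncomputable def tauP (G : ModSite.Mod O_X) :
    (TopCat.Presheaf.pushforward AddCommGrpCat.{u} i).obj (P hi G) ⟶ G.val.presheaf where
  app V := G.val.presheaf.map (homOfLE (le_r hi.isInducing V.unop)).op
  naturality := by
    intro V V' g
    exact (map_map_thin G.val.presheaf ((rF hi.isInducing).op.map ((Opens.map i).op.map g))
      (homOfLE (le_r hi.isInducing V'.unop)).op
        ((homOfLE (le_r hi.isInducing V.unop)).op ≫ g)).trans
      (map_map_thin G.val.presheaf _ _ _).symm

include hG in
lemma tauP_bijective (V : (Opens X)ᵒᵖ) : Function.Bijective ((tauP hi G).app V).hom := by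
  exact res_bijective (toSet ((SheafOfModules.toSheaf (ringSh O_X)).obj G)) (compl hi)
    (fun V hV => by
      have := subsingleton_of_le_compl hi hG V hV
      exact ⟨⟨⟨(0 : G.val.obj (op V))⟩, fun a => Subsingleton.elim (α := G.val.obj (op V)) _ _⟩⟩)
    (le_r hi.isInducing V.unop) (r_map_le hi V.unop)

include hG in
lemma isIso_tauP : IsIso (tauP hi G) := by
  rw [NatTrans.isIso_iff_isIso_app]
  intro V
  exact (ConcreteCategory.isIso_iff_bijective _).mpr (tauP_bijective hi hG V)

include hG in
lemma isSheaf_P : Presheaf.IsSheaf (Opens.grothendieckTopology Z) (P.{u} hi G) := by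
  haveI := isIso_tauP hi hG
  have h1 : TopCat.Presheaf.IsSheaf
      (P hi G ⋙ forget AddCommGrpCat.{u} : Z.Presheaf (Type u)) := by
    refine isSheaf_of_isSheaf_pushforward hi.isInducing (P hi G ⋙ forget AddCommGrpCat.{u}) ?_
    exact TopCat.Presheaf.isSheaf_of_iso
      (Functor.isoWhiskerRight (asIso (tauP hi G)) (forget AddCommGrpCat.{u})).symm
      (toSet ((SheafOfModules.toSheaf (ringSh O_X)).obj G)).2
  exact (Presheaf.isSheaf_iff_isSheaf_forget _ (P.{u} hi G) (forget AddCommGrpCat.{u})).mpr h1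

/-- the module on `Z` -/
noncomputable def FM : ModSite.Mod O_Z where
  val := FP hi hc hG
  isSheaf := isSheaf_P hi hG


/-- the comparison map `i_* F ⟶ G` -/
noncomputable def tauM : (pushF i c).obj (FM hi hc hG) ⟶ G :=
  ⟨PresheafOfModules.homMk (tauP hi G) (by
    intro V a m
    obtain ⟨V⟩ := V
    have ha : c.hom.app (op V) a =
        O_Z.obj.map (kZ i hi (homOfLE (le_r hi.isInducing V))).op (c.hom.app (op V) a) :=
      (ConcreteCategory.congr_hom
        (map_thin_id O_Z.obj (kZ i hi (homOfLE (le_r hi.isInducing V))).op) _).symm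
    exact (act_spec hi hc hG ((Opens.map i).obj V) (c.hom.app (op V) a) m).res hG
      (homOfLE (le_r hi.isInducing V)) a ha)⟩

lemma isIso_tauM : IsIso (tauM hi hc hG) := by
  have h1 : IsIso ((SheafOfModules.toSheaf (ringSh O_X)).map (tauM hi hc hG)) := by
    haveI : IsIso ((sheafToPresheaf _ _).map
        ((SheafOfModules.toSheaf (ringSh O_X)).map (tauM hi hc hG))) := by
      have h2 : (sheafToPresheaf _ _).map
          ((SheafOfModules.toSheaf (ringSh O_X)).map (tauM hi hc hG)) = tauP hi G := by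
        ext V x
        rfl
      rw [h2]
      exact isIso_tauP hi hG
    exact isIso_of_reflects_iso _ (sheafToPresheaf _ _)
  haveI : (SheafOfModules.toSheaf (ringSh O_X)).Faithful := inferInstance
  haveI : (SheafOfModules.toSheaf (ringSh O_X)).ReflectsMonomorphisms :=
    Functor.reflectsMonomorphisms_of_faithful _
  haveI : (SheafOfModules.toSheaf (ringSh O_X)).ReflectsEpimorphisms :=
    Functor.reflectsEpimorphisms_of_faithful _
  haveI : Mono (tauM hi hc hG) :=
    (SheafOfModules.toSheaf (ringSh O_X)).mono_of_mono_map inferInstance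
  haveI : Epi (tauM hi hc hG) :=
    (SheafOfModules.toSheaf (ringSh O_X)).epi_of_epi_map inferInstance
  exact isIso_of_mono_of_epi _

include hi hc hG in
theorem mem_essImage_of_annihilated : (pushF i c).essImage G := by
  haveI := isIso_tauM hi hc hG
  exact ⟨FM hi hc hG, ⟨asIso (tauM hi hc hG)⟩⟩

end Act

/-- the converse: modules in the essential image are annihilated by the kernel of `c` -/
theorem annihilated_of_mem_essImage (G : ModSite.Mod O_X) (h : (pushF i c).essImage G)
    (U : Opens X) (a : O_X.obj.obj (op U)) (ha : c.hom.app (op U) a = 0)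
    (s : G.val.obj (op U)) : sm G a s = 0 := by
  obtain ⟨F, ⟨e⟩⟩ := h
  have h1 : (e.inv.val.app (op U)).hom (sm G a s) =
      sm ((pushF i c).obj F) a ((e.inv.val.app (op U)).hom s) :=
    (e.inv.val.app (op U)).hom.map_smul (show (ringSh O_X).obj.obj (op U) from a) s
  have h2 : sm ((pushF i c).obj F) a ((e.inv.val.app (op U)).hom s) = 0 := by
    have h3 := pushMod_smul i c F U a ((e.inv.val.app (op U)).hom s)
    refine h3.trans ?_
    rw [ha]
    exact zero_smul ((ringSh O_Z).obj.obj (op ((Opens.map i).obj U)))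
      (A := sect F ((Opens.map i).obj U)) _
  have h4 : (e.hom.val.app (op U)).hom ((e.inv.val.app (op U)).hom (sm G a s)) = sm G a s := by
    have := congrArg (fun f => (f.val.app (op U)).hom (sm G a s)) e.inv_hom_id
    exact this
  rw [← h4, h1, h2, map_zero]

end EssImage

end Groth.Agent.Lib.Helper19.ModClosedPush
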