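import Groth.Agent.Lib.Helper19.ModStalkLift
import Groth.Agent.Lib.Helper19.HomColim
import Groth.Agent.Lib.Helper53.ToposFinColim
import Groth.Agent.Lib.Helper94.ModFlat

/-!
# A finite type module which is a directed colimit on a quasi-compact space (helper19)

Namespace `Groth.Agent.Lib.Helper19.ModColimFT`.
-/

set_option autoImplicit false
set_option linter.unusedSectionVars false
set_option linter.style.haveILetI false
universe u
open CategoryTheory CategoryTheory.Limits Opposite TopologicalSpace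

namespace Groth.Agent.Lib.Helper19.ModColimFT

open Groth.Agent.Lib.Helper19.ModRes Groth.Agent.Lib.Helper19.ModLift
  Groth.Agent.Lib.Helper19.AbGen Groth.Agent.Lib.Helper19.ModFG Groth.Agent.Lib.Helper19.ModFP
  Groth.Agent.Lib.Helper19.ModStalkLift Groth.Agent.Lib.Helper19.CechTop
open ModSite

section Site

variable {C : Type u} [SmallCategory C] {J : GrothendieckTopology C} (O : Sheaf J CommRingCat.{u})

/-- sections of a filtered colimit of modules locally come from a member of the diagram -/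
theorem exists_sieve_colimit {I : Type u} [SmallCategory I] [IsFiltered I] (D : I ⥤ Mod O)
    (c : Cocone D) (hc : IsColimit c) (U₀ : C) (t : sect c.pt U₀) :
    ∃ S ∈ J U₀, ∀ {V : C} (f : V ⟶ U₀), S f →
      ∃ (i : I) (a : sect (D.obj i) V), (c.ι.app i).val.app (op V) a = c.pt.val.map f.op t := by
  haveI := Groth.Agent.Lib.Helper94.ModSiteBasic.toSheaf_preservesColimitsOfSize (ringSh O)
  haveI : PreservesColimitsOfShape I (CechTop.U J) :=
    (Groth.Agent.Helper53.TFC.preservesFilteredColimits_U J).preserves_filtered_colimits I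
  have hc' := isColimitOfPreserves (SheafOfModules.toSheaf (ringSh O) ⋙ CechTop.U J) hc
  have hJE := Groth.Agent.Helper53.TF.JE_cocone_legs _ hc'
  have hmem := Groth.Agent.Helper53.TF.coverSieve_mem_of_JE _ hJE U₀ t
  refine ⟨_, hmem, ?_⟩
  rintro V f ⟨i, y, hy⟩
  exact ⟨i, y, hy⟩

end Site

section Top

variable {X : TopCat.{u}} (O : Sheaf (Opens.grothendieckTopology X) CommRingCat.{u})

/-- if finitely many generators of `F|_W` lift along `φ` near `x`, then `φ` is an
epimorphism near `x` -/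
theorem exists_epi_restr_of_gens {G F : ModSite.Mod O} (φ : G ⟶ F) (x : X) (W : Opens X)
    {I : Type u} [Finite I] (π : SheafOfModules.free I ⟶ F.over W) [Epi π]
    (key : ∀ i : I, ∃ (V : Opens X) (k : V ⟶ W), x ∈ V ∧
      liftSieve ((SheafOfModules.overFunctor.{u} (ringSh O) W).map φ)
        ((F.over W).freeHomEquiv π i) k) (hW : x ∈ W) :
    ∃ U : Opens X, x ∈ U ∧ U ≤ W ∧ Epi ((ModSite.restr O U).map φ) := by
  choose V k hV hk using key
  obtain ⟨V₀, hV₀, hle, hW₀⟩ : ∃ V₀ : Opens X, x ∈ V₀ ∧ (∀ i, V₀ ≤ V i) ∧ V₀ ≤ W := by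
    refine ⟨(⨅ i, V i) ⊓ W, ⟨?_, hW⟩, fun i => inf_le_left.trans (iInf_le V i), inf_le_right⟩
    rw [SetLike.mem_coe, ← SetLike.mem_coe, Opens.coe_iInf]
    exact Set.mem_iInter.2 hV
  have H : ∀ i, liftSieve ((SheafOfModules.overFunctor.{u} (ringSh O) W).map φ)
      ((F.over W).freeHomEquiv π i) (homOfLE hW₀) := by
    intro i
    have := (liftSieve ((SheafOfModules.overFunctor.{u} (ringSh O) W).map φ)
      ((F.over W).freeHomEquiv π i)).downward_closed (hk i) (homOfLE (hle i))
    rwa [Subsingleton.elim (homOfLE (hle i) ≫ k i) (homOfLE hW₀)] at this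
  obtain ⟨q, hq⟩ := exists_lift_of_forall_mem (homOfLE hW₀)
    ((SheafOfModules.overFunctor.{u} (ringSh O) W).map φ) π H
  haveI : Epi ((res (ringSh O) (homOfLE hW₀)).map
      ((SheafOfModules.overFunctor.{u} (ringSh O) W).map φ)) := epi_of_epi_fac hq
  refine ⟨V₀, hV₀, hW₀, ?_⟩
  have nat := (SheafOfModules.overFunctorMap (ringSh O) (homOfLE hW₀)).hom.naturality φ
  have e : (ModSite.restr O V₀).map φ =
      (resOverIso (homOfLE hW₀) G).inv ≫ (res (ringSh O) (homOfLE hW₀)).map
        ((SheafOfModules.overFunctor.{u} (ringSh O) W).map φ) ≫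
          (resOverIso (homOfLE hW₀) F).hom := by
    refine ((Iso.eq_inv_comp _).2 ?_)
    exact nat.symm
  rw [e]
  have i1 : Epi (resOverIso (homOfLE hW₀) F).hom :=
    @IsIso.epi_of_iso _ _ _ _ _ (Iso.isIso_hom _)
  have i2 : Epi (resOverIso (homOfLE hW₀) G).inv :=
    @IsIso.epi_of_iso _ _ _ _ _ (Iso.isIso_inv _)
  exact @epi_comp _ _ _ _ _ _ i2 _ (@epi_comp _ _ _ _ _ _ this _ i1)

/-- being an epimorphism is local -/
theorem epi_of_coversTop {I : Type*} (V : I → Opens X)
    (hV : (Opens.grothendieckTopology X).CoversTop V) {G F : ModSite.Mod O} (φ : G ⟶ F)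
    (h : ∀ i, Epi ((ModSite.restr O (V i)).map φ)) : Epi φ := by
  have hc : IsZero (cokernel φ) :=
    Groth.Agent.Lib.Helper19.SheafHomColim.isZero_of_coversTop V hV _ (fun i => by
      have e : (restr O (V i)).obj (cokernel φ) ≅ cokernel ((restr O (V i)).map φ) :=
        PreservesCokernel.iso _ _
      haveI := h i
      exact IsZero.of_iso (isZero_cokernel_of_epi _) e)
  exact Preadditive.epi_of_isZero_cokernel φ hc

/-- local form: near each point some `F_i → F` is an epimorphism -/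
theorem exists_epi_restr_colimit {I : Type u} [Preorder I] [Nonempty I] [IsDirected I (· ≤ ·)]
    (D : I ⥤ ModSite.Mod O) (c : Cocone D) (hc : IsColimit c)
    [hF : SheafOfModules.IsFiniteType (R := ModSite.ringSh O) c.pt] (x : X) :
    ∃ (U : Opens X) (i : I), x ∈ U ∧ Epi ((ModSite.restr O U).map (c.ι.app i)) := by
  classical
  rw [isFiniteType_iff] at hF
  obtain ⟨S, hS, hS'⟩ := hF ⊤
  obtain ⟨W, h, hh, hW⟩ := hS x (by trivial)
  obtain ⟨P, ⟨K, _, ⟨e⟩⟩, p, _⟩ := hS' h hh
  obtain ⟨π, hπ, _⟩ : ∃ π : SheafOfModules.free K ⟶ c.pt.over W, π = e.inv ≫ p ∧ Epi π :=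
    ⟨_, rfl, inferInstance⟩
  have key : ∀ k : K, ∃ (V : Opens X) (f : V ⟶ W) (i : I) (a : sect (D.obj i) V), x ∈ V ∧
      (c.ι.app i).val.app (op V) a = c.pt.val.map f.op
        (((c.pt.over W).freeHomEquiv π k).val (op (Over.mk (𝟙 W)))) := by
    intro k
    obtain ⟨T, hT, hT'⟩ := exists_sieve_colimit O D c hc W
      (((c.pt.over W).freeHomEquiv π k).val (op (Over.mk (𝟙 W))))
    obtain ⟨V, f, hf, hV⟩ := hT x hW
    obtain ⟨i, a, ha⟩ := hT' f hf
    exact ⟨V, f, i, a, hV, ha⟩
  choose V f i a hV ha using key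
  cases nonempty_fintype K
  obtain ⟨i₀, hi₀⟩ := Finset.exists_le (Finset.univ.image i)
  have hle : ∀ k, i k ≤ i₀ := fun k => hi₀ _ (Finset.mem_image_of_mem i (Finset.mem_univ k))
  obtain ⟨U, hU, -, hepi⟩ := exists_epi_restr_of_gens O (c.ι.app i₀) x W π (fun k => by
    refine ⟨V k, f k, hV k, (D.map (homOfLE (hle k))).val.app (op (V k)) (a k), ?_⟩
    have h1 : (c.ι.app i₀).val.app (op (V k)) ((D.map (homOfLE (hle k))).val.app (op (V k)) (a k)) =
        (c.ι.app (i k)).val.app (op (V k)) (a k) := by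
      rw [← c.w (homOfLE (hle k))]
      rfl
    refine (h1.trans (ha k)).trans ?_
    exact PresheafOfModules.sections_property ((c.pt.over W).freeHomEquiv π k)
      (Over.homMk (f k) : Over.mk (f k) ⟶ Over.mk (𝟙 W)).op) hW
  exact ⟨U, i₀, hU, hepi⟩

/-- **A finite type directed colimit on a quasi-compact space is a quotient of a member.** -/
theorem exists_epi_colimit [CompactSpace X] {I : Type u} [Preorder I] [Nonempty I]
    [IsDirected I (· ≤ ·)] (D : I ⥤ ModSite.Mod O) (c : Cocone D) (hc : IsColimit c)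
    [hF : SheafOfModules.IsFiniteType (R := ModSite.ringSh O) c.pt] :
    ∃ i : I, Epi (c.ι.app i) := by
  classical
  choose U i hU hepi using exists_epi_restr_colimit O D c hc
  obtain ⟨t, ht⟩ := isCompact_univ.elim_finite_subcover (fun x => (U x : Set X))
    (fun x => (U x).isOpen) (fun y _ => Set.mem_iUnion.2 ⟨y, hU y⟩)
  obtain ⟨i₁, hi₁⟩ := Finset.exists_le (t.image i)
  refine ⟨i₁, epi_of_coversTop O (fun x : t => U x.1) ?_ _ ?_⟩
  · intro W y hy
    obtain ⟨x, hx⟩ := Set.mem_iUnion.1 (ht (Set.mem_univ y))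
    obtain ⟨hxt, hyx⟩ := Set.mem_iUnion.1 hx
    refine ⟨W ⊓ U x, homOfLE inf_le_left, ?_, ⟨hy, hyx⟩⟩
    exact (Sieve.mem_ofObjects_iff ..).mpr ⟨⟨x, hxt⟩, ⟨homOfLE inf_le_right⟩⟩
  · intro x
    have hle : i x.1 ≤ i₁ := hi₁ _ (Finset.mem_image_of_mem i x.2)
    have hw := c.w (homOfLE hle)
    have hfac : (ModSite.restr O (U x.1)).map (D.map (homOfLE hle)) ≫
        (ModSite.restr O (U x.1)).map (c.ι.app i₁) =
          (ModSite.restr O (U x.1)).map (c.ι.app (i x.1)) := by
      rw [← Functor.map_comp, hw]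
    haveI := hepi x.1
    exact epi_of_epi_fac hfac

/-- with injective transition maps, some `F_i → F` is an isomorphism -/
theorem exists_isIso_colimit [CompactSpace X] {I : Type u} [Preorder I] [Nonempty I]
    [IsDirected I (· ≤ ·)] (D : I ⥤ ModSite.Mod O) (c : Cocone D) (hc : IsColimit c)
    [hF : SheafOfModules.IsFiniteType (R := ModSite.ringSh O) c.pt]
    (hmono : ∀ (i j : I) (f : i ⟶ j), Mono (D.map f)) : ∃ i : I, IsIso (c.ι.app i) := by
  obtain ⟨i, hi⟩ := exists_epi_colimit O D c hc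
  haveI := hmono
  haveI : IsGrothendieckAbelian.{u} (ModSite.Mod O) := Groth.Agent.S0484.result _ (ringSh O)
  haveI : HasExactColimitsOfShape (Under i) (ModSite.Mod O) := inferInstance
  haveI : Mono (c.ι.app i) := hc.mono_ι_app_of_isFiltered i
  exact ⟨i, isIso_of_mono_of_epi _⟩

end Top

end Groth.Agent.Lib.Helper19.ModColimFT
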