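import Groth.Agent.Lib.Helper19.ModStalkLift
import Groth.Agent.Lib.Helper19.AbMatrix

/-!
# Epimorphisms between finite locally free modules of the same rank (helper19)

Namespace `Groth.Agent.Lib.Helper19.ModLocFree`.
-/

set_option autoImplicit false
set_option linter.unusedSectionVars false
set_option linter.style.haveILetI false
universe u
open CategoryTheory CategoryTheory.Limits Opposite TopologicalSpace

namespace Groth.Agent.Lib.Helper19.ModLocFree

open Groth.Agent.Lib.Helper19.ModRes Groth.Agent.Lib.Helper19.ModLift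
  Groth.Agent.Lib.Helper19.AbGen Groth.Agent.Lib.Helper19.ModFG Groth.Agent.Lib.Helper19.ModFP
  Groth.Agent.Lib.Helper19.AbMatrix

section General

variable {C : Type u} [SmallCategory C] {J : GrothendieckTopology C} (R : Sheaf J RingCat.{u})

instance hasFiniteBiproducts_sheafOfModules : HasFiniteBiproducts (SheafOfModules.{u} R) :=
  HasFiniteBiproducts.of_hasFiniteProducts

/-- endomorphisms of the unit commute when the rings of sections are commutative -/
lemma unit_end_comm (hR : ∀ (Y : Cᵒᵖ) (a b : R.obj.obj Y), a * b = b * a)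
    (f g : SheafOfModules.unit R ⟶ SheafOfModules.unit R) : f ≫ g = g ≫ f := by
  apply (SheafOfModules.unit R).unitHomEquiv.injective
  ext Y
  rw [SheafOfModules.unitHomEquiv_comp_apply, SheafOfModules.unitHomEquiv_comp_apply]
  have h1 : ∀ (φ : SheafOfModules.unit R ⟶ SheafOfModules.unit R) (a : R.obj.obj Y),
      (φ.val.app Y).hom (show (SheafOfModules.unit R).val.obj Y from a) =
        (show (SheafOfModules.unit R).val.obj Y from
          a * (show R.obj.obj Y from (φ.val.app Y).hom
            (show (SheafOfModules.unit R).val.obj Y from (1 : R.obj.obj Y)))) := by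
    intro φ a
    have := (φ.val.app Y).hom.map_smul a
      (show (SheafOfModules.unit R).val.obj Y from (1 : R.obj.obj Y))
    refine Eq.trans ?_ this
    congr 1
    exact (mul_one a).symm
  change (g.val.app Y).hom ((f.val.app Y).hom
      (show (SheafOfModules.unit R).val.obj Y from (1 : R.obj.obj Y))) =
    (f.val.app Y).hom ((g.val.app Y).hom
      (show (SheafOfModules.unit R).val.obj Y from (1 : R.obj.obj Y)))
  refine (h1 g _).trans ((hR Y _ _).trans (h1 f _).symm)

/-- `free (ULift (Fin r))` as a biproduct -/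
noncomputable def freeIsoBiproduct (r : ℕ) :
    SheafOfModules.free (R := R) (ULift.{u} (Fin r)) ≅
      ⨁ fun _ : Fin r => SheafOfModules.unit R :=
  Sigma.whiskerEquiv (f := fun _ : ULift.{u} (Fin r) => SheafOfModules.unit R)
    (g := fun _ : Fin r => SheafOfModules.unit R) Equiv.ulift (fun _ => Iso.refl _) ≪≫
    (biproduct.isoCoproduct _).symm

/-- a split epimorphism between free modules of the same finite rank is an isomorphism -/
theorem isIso_of_rightInverse_free (hR : ∀ (Y : Cᵒᵖ) (a b : R.obj.obj Y), a * b = b * a)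
    (r : ℕ) {P Q : SheafOfModules.{u} R}
    (eP : P ≅ SheafOfModules.free (ULift.{u} (Fin r)))
    (eQ : Q ≅ SheafOfModules.free (ULift.{u} (Fin r)))
    (ψ : P ⟶ Q) (q : Q ⟶ P) (h : q ≫ ψ = 𝟙 Q) : IsIso ψ :=
  isIso_of_rightInverse (SheafOfModules.unit R) (unit_end_comm R hR) r
    (eP ≪≫ freeIsoBiproduct R r) (eQ ≪≫ freeIsoBiproduct R r) ψ q h

end General

section Slice

variable {C : Type u} [SmallCategory C] [HasPullbacks C] {J : GrothendieckTopology C}
  {R : Sheaf J RingCat.{u}}

/-- restriction of a free module is free -/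
noncomputable def resFreeIso {U W : C} (h : W ⟶ U) (I : Type u) :
    (res R h).obj (SheafOfModules.free I) ≅ SheafOfModules.free I :=
  (SheafOfModules.mapFreeIso (res R h) I (SheafOfModules.overMapUnitIso h).symm).symm

/-- a trivialisation over `U` restricts to a trivialisation over `W ⟶ U` -/
noncomputable def trivOfHom (M : SheafOfModules.{u} R) {U W : C} (h : W ⟶ U) {I : Type u}
    (e : M.over U ≅ SheafOfModules.free I) : M.over W ≅ SheafOfModules.free I :=
  (resOverIso h M).symm ≪≫ (res R h).mapIso e ≪≫ resFreeIso h I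

end Slice

section Top

open ModSite

variable {X : TopCat.{u}} (O : TopCat.Sheaf CommRingCat.{u} X)

theorem exists_isIso_restr (r : ℕ) {F G : ModSite.Mod O} (φ : F ⟶ G) [Epi φ] (x : X)
    {UF UG : Opens X} (hxF : x ∈ UF) (hxG : x ∈ UG)
    (eF : (ModSite.restr O UF).obj F ≅ SheafOfModules.free (ULift.{u} (Fin r)))
    (eG : (ModSite.restr O UG).obj G ≅ SheafOfModules.free (ULift.{u} (Fin r))) :
    ∃ V : Opens X, x ∈ V ∧ IsIso ((ModSite.restr O V).map φ) := by
  have hW : x ∈ UF ⊓ UG := ⟨hxF, hxG⟩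
  let eF' := trivOfHom F (homOfLE inf_le_left : UF ⊓ UG ⟶ UF) eF
  let eG' := trivOfHom G (homOfLE inf_le_right : UF ⊓ UG ⟶ UG) eG
  haveI : Epi ((SheafOfModules.overFunctor.{u} (ringSh O) (UF ⊓ UG)).map φ) :=
    (SheafOfModules.overFunctor.{u} (ringSh O) (UF ⊓ UG)).map_epi φ
  obtain ⟨T, hT, hT'⟩ := exists_lift'
    ((SheafOfModules.overFunctor.{u} (ringSh O) (UF ⊓ UG)).map φ)
    (⟨_, inferInstance, ⟨eG'⟩⟩ : FreeFin (G.over (UF ⊓ UG))) (𝟙 _)
  obtain ⟨V, k, hk, hV⟩ := hT x hW
  obtain ⟨q, hq⟩ := hT' k hk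
  replace hq := hq.trans ((res (ringSh O) k).map_id _)
  have hiso : IsIso ((res (ringSh O) k).map
      ((SheafOfModules.overFunctor.{u} (ringSh O) (UF ⊓ UG)).map φ)) :=
    isIso_of_rightInverse_free ((ringSh O).over V) (fun Y a b => mul_comm (G := O.obj.obj (op Y.unop.left)) a b) r
      ((res (ringSh O) k).mapIso eF' ≪≫ resFreeIso k _)
      ((res (ringSh O) k).mapIso eG' ≪≫ resFreeIso k _) _ q hq
  refine ⟨V, hV, ?_⟩
  have nat := (SheafOfModules.overFunctorMap (ringSh O) k).hom.naturality φ
  have e : (ModSite.restr O V).map φ =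
      (resOverIso k F).inv ≫ (res (ringSh O) k).map
        ((SheafOfModules.overFunctor.{u} (ringSh O) (UF ⊓ UG)).map φ) ≫
          (resOverIso k G).hom := by
    refine ((Iso.eq_inv_comp _).2 ?_)
    exact nat.symm
  rw [e]
  have i1 : IsIso (resOverIso k G).hom := Iso.isIso_hom _
  have i2 : IsIso (resOverIso k F).inv := Iso.isIso_inv _
  exact @IsIso.comp_isIso _ _ _ _ _ _ _ i2 (@IsIso.comp_isIso _ _ _ _ _ _ _ hiso i1)

/-- **An epimorphism between finite locally free modules of the same rank is an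
isomorphism.** -/
theorem isIso_iff_epi_of_locallyFree (r : ℕ) {F G : ModSite.Mod O}
    (hF : ∀ x : X, ∃ U : Opens X, x ∈ U ∧
      Nonempty ((ModSite.restr O U).obj F ≅ SheafOfModules.free (ULift.{u} (Fin r))))
    (hG : ∀ x : X, ∃ U : Opens X, x ∈ U ∧
      Nonempty ((ModSite.restr O U).obj G ≅ SheafOfModules.free (ULift.{u} (Fin r))))
    (φ : F ⟶ G) : IsIso φ ↔ Epi φ := by
  constructor
  · intro h
    infer_instance
  · intro h
    have key : ∀ x : X, ∃ V : Opens X, x ∈ V ∧ IsIso ((ModSite.restr O V).map φ) := by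
      intro x
      obtain ⟨UF, hxF, ⟨eF⟩⟩ := hF x
      obtain ⟨UG, hxG, ⟨eG⟩⟩ := hG x
      exact exists_isIso_restr O r φ x hxF hxG eF eG
    choose V hV hV' using key
    refine Groth.Agent.Lib.Helper19.SheafHomColim.isIso_of_coversTop V ?_ φ hV'
    intro U y hy
    refine ⟨U ⊓ V y, homOfLE inf_le_left, ?_, ⟨hy, hV y⟩⟩
    exact (Sieve.mem_ofObjects_iff ..).mpr ⟨y, ⟨homOfLE inf_le_right⟩⟩

end Top

end Groth.Agent.Lib.Helper19.ModLocFree
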