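import Groth.Agent.Lib.Helper19.ModColimFT
import Groth.Agent.Lib.Helper94.JShriekFree
import Groth.Agent.Lib.Helper19.ModLocFree

/-!
# Sections of a direct sum of modules over a quasi-compact open (helper19)

Namespace `Groth.Agent.Lib.Helper19.ModCoprodSect`.
-/

set_option autoImplicit false
set_option linter.unusedSectionVars false
set_option linter.style.haveILetI false
universe u
open CategoryTheory CategoryTheory.Limits Opposite TopologicalSpace

namespace Groth.Agent.Lib.Helper19.ModCoprodSect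

open Groth.Agent.Lib.Helper19.ModColimFT
open ModSite

section Site

variable {C : Type u} [SmallCategory C] {J : GrothendieckTopology C} (O : Sheaf J CommRingCat.{u})

/-- evaluation of sections over `V`, as an additive functor -/
noncomputable abbrev Γ (V : C) : Mod O ⥤ ModuleCat.{u} ((ringSh O).obj.obj (op V)) :=
  SheafOfModules.forget (ringSh O) ⋙ PresheafOfModules.evaluation _ (op V)

lemma sum_val_app {M N : Mod O} {T : Type*} (s : Finset T) (φ : T → (M ⟶ N)) (V : C)
    (a : sect M V) :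
    ((∑ x ∈ s, φ x).val.app (op V)).hom a = ∑ x ∈ s, ((φ x).val.app (op V)).hom a := by
  have h := (Γ O V).map_sum φ s
  have h2 := congrArg (fun g : (Γ O V).obj M ⟶ (Γ O V).obj N => g.hom a) h
  simp only [ModuleCat.hom_sum] at h2
  exact h2.trans (LinearMap.sum_apply _ _ _)

/-- sections of a finite coproduct are sums of sections of the summands -/
lemma exists_sum_of_finite {T : Type u} [Fintype T] (G : T → Mod O) (V : C)
    (a : sect (∐ G) V) :
    ∃ b : ∀ x, sect (G x) V, a = ∑ x, ((Sigma.ι G x).val.app (op V)).hom (b x) := by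
  classical
  have htot : ∑ x : T, Sigma.π G x ≫ Sigma.ι G x = 𝟙 (∐ G) := by
    apply Sigma.hom_ext
    intro y
    rw [Preadditive.comp_sum, Category.comp_id, Finset.sum_eq_single y]
    · rw [Sigma.ι_π_eq_id_assoc]
    · intro x _ hxy
      rw [Sigma.ι_π_of_ne_assoc G (Ne.symm hxy), zero_comp]
    · intro h
      exact absurd (Finset.mem_univ y) h
  refine ⟨fun x => ((Sigma.π G x).val.app (op V)).hom a, ?_⟩
  have h1 := sum_val_app O Finset.univ (fun x : T => Sigma.π G x ≫ Sigma.ι G x) V a
  rw [htot] at h1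
  exact h1

variable {I : Type u} [DecidableEq I] (F : I → Mod O) [HasCoproduct F]

/-- the subgroup of sections of `∐ F` over `V` which are finite sums of sections of the `F i` -/
noncomputable def FS (V : C) : AddSubgroup (sect (∐ F) V) :=
  AddSubgroup.closure (⋃ i, Set.range ((Sigma.ι F i).val.app (op V)).hom)

lemma ι_mem_FS (V : C) (i : I) (t : sect (F i) V) :
    ((Sigma.ι F i).val.app (op V)).hom t ∈ FS O F V :=
  AddSubgroup.subset_closure (Set.mem_iUnion.2 ⟨i, ⟨t, rfl⟩⟩)

lemma π_ι_self (V : C) (i : I) (t : sect (F i) V) :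
    ((Sigma.π F i).val.app (op V)).hom (((Sigma.ι F i).val.app (op V)).hom t) = t := by
  have h := Sigma.ι_π_eq_id F i
  have h2 := congrArg (fun g : F i ⟶ F i => (g.val.app (op V)).hom t) h
  exact h2

lemma π_ι_of_ne (V : C) {i j : I} (hij : i ≠ j) (t : sect (F i) V) :
    ((Sigma.π F j).val.app (op V)).hom (((Sigma.ι F i).val.app (op V)).hom t) = 0 := by
  have h := Sigma.ι_π_of_ne F hij
  have h2 := congrArg (fun g : F i ⟶ F j => (g.val.app (op V)).hom t) h
  exact h2

/-- stable normal form of an element of `FS` -/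
lemma exists_finset_stable (V : C) (s : sect (∐ F) V) (hs : s ∈ FS O F V) :
    ∃ S : Finset I, ∀ S' : Finset I, S ⊆ S' →
      s = ∑ i ∈ S', ((Sigma.ι F i).val.app (op V)).hom
        (((Sigma.π F i).val.app (op V)).hom s) := by
  induction hs using AddSubgroup.closure_induction with
  | mem x hx =>
    obtain ⟨j, t, rfl⟩ := Set.mem_iUnion.1 hx
    refine ⟨{j}, fun S' hS' => ?_⟩
    have hj : j ∈ S' := hS' (Finset.mem_singleton_self j)
    rw [Finset.sum_eq_single j]
    · rw [π_ι_self]
    · intro i _ hij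
      rw [π_ι_of_ne O F V (Ne.symm hij), map_zero]
    · intro h
      exact absurd hj h
  | zero =>
    refine ⟨∅, fun S' _ => ?_⟩
    simp
  | add x y _ _ hx hy =>
    obtain ⟨Sx, hSx⟩ := hx
    obtain ⟨Sy, hSy⟩ := hy
    refine ⟨Sx ∪ Sy, fun S' hS' => ?_⟩
    have h1 := hSx S' (Finset.union_subset_left hS')
    have h2 := hSy S' (Finset.union_subset_right hS')
    simp only [map_add, Finset.sum_add_distrib]
    rw [← h1, ← h2]
  | neg x _ hx =>
    obtain ⟨Sx, hSx⟩ := hx
    refine ⟨Sx, fun S' hS' => ?_⟩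
    have h1 := hSx S' hS'
    simp only [map_neg, Finset.sum_neg_distrib]
    rw [← h1]

/-- normal form of an element of `FS` -/
lemma exists_finset_of_mem_FS (V : C) (s : sect (∐ F) V) (hs : s ∈ FS O F V) :
    ∃ S : Finset I, s = ∑ i ∈ S, ((Sigma.ι F i).val.app (op V)).hom
        (((Sigma.π F i).val.app (op V)).hom s) ∧
      ∀ i, i ∉ S → ((Sigma.π F i).val.app (op V)).hom s = 0 := by
  obtain ⟨S, hS⟩ := exists_finset_stable O F V s hs
  refine ⟨S, hS S (Finset.Subset.refl S), fun i hi => ?_⟩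
  have h1 := hS S (Finset.Subset.refl S)
  have h2 := hS (insert i S) (Finset.subset_insert i S)
  rw [Finset.sum_insert hi, ← h1] at h2
  have h3 : ((Sigma.ι F i).val.app (op V)).hom (((Sigma.π F i).val.app (op V)).hom s) = 0 := by
    have := h2
    rwa [right_eq_add] at this
  have h4 := congrArg ((Sigma.π F i).val.app (op V)).hom h3
  rwa [π_ι_self, map_zero] at h4

open CoproductsFromFiniteFiltered in
/-- every section of `∐ F` is locally a finite sum -/
theorem exists_sieve_mem_FS (U₀ : C) (s : sect (∐ F) U₀) :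
    ∃ S ∈ J U₀, ∀ {V : C} (f : V ⟶ U₀), S f →
      ∃ y : sect (∐ F) V, y ∈ FS O F V ∧ y = (∐ F).val.map f.op s := by
  obtain ⟨S, hS, hS'⟩ := exists_sieve_colimit O (liftToFinsetObj (Discrete.functor F))
    (finiteSubcoproductsCocone F) (isColimitFiniteSubproductsCocone F) U₀ s
  refine ⟨S, hS, fun {V} f hf => ?_⟩
  obtain ⟨T, a, ha⟩ := hS' f hf
  obtain ⟨leg, hleg⟩ : ∃ leg : (∐ fun x : {x // x ∈ T} => (Discrete.functor F).obj x.1) ⟶ ∐ F,
      leg = (finiteSubcoproductsCocone F).ι.app T := ⟨_, rfl⟩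
  obtain ⟨a', ha'⟩ : ∃ a' : sect (∐ fun x : {x // x ∈ T} => (Discrete.functor F).obj x.1) V,
      a' = a := ⟨a, rfl⟩
  have key : (leg.val.app (op V)).hom a' ∈ FS O F V := by
    obtain ⟨b, hb⟩ := exists_sum_of_finite O
      (fun x : {x // x ∈ T} => (Discrete.functor F).obj x.1) V a'
    rw [hb, map_sum]
    refine AddSubgroup.sum_mem _ (fun x _ => ?_)
    have h : Sigma.ι (fun x : {x // x ∈ T} => (Discrete.functor F).obj x.1) x ≫ leg =
        Sigma.ι F x.1.as := by
      rw [hleg]
      exact Sigma.ι_desc (f := fun x : {x // x ∈ T} => (Discrete.functor F).obj x.1)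
        (fun y => Sigma.ι F y.1.as) x
    have h2 := congrArg (fun g : (Discrete.functor F).obj x.1 ⟶ ∐ F =>
      (g.val.app (op V)).hom (b x)) h
    have h3 := ι_mem_FS O F V x.1.as (b x)
    exact (show _ = _ from h2) ▸ h3
  subst hleg
  subst ha'
  exact ⟨_, key, ha⟩

/-- normal form predicate -/
def NF (V : C) (S : Finset I) (y : sect (∐ F) V) : Prop :=
  y = ∑ i ∈ S, ((Sigma.ι F i).val.app (op V)).hom (((Sigma.π F i).val.app (op V)).hom y) ∧
    ∀ i, i ∉ S → ((Sigma.π F i).val.app (op V)).hom y = 0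

lemma NF.mono {V : C} {S S' : Finset I} {y : sect (∐ F) V} (h : NF O F V S y) (hS : S ⊆ S') :
    NF O F V S' y := by
  refine ⟨?_, fun i hi => h.2 i (fun hi' => hi (hS hi'))⟩
  rw [← Finset.sum_subset hS (fun i _ hi => by rw [h.2 i hi, map_zero])]
  exact h.1

lemma res_sum {V W : C} (g : W ⟶ V) (S : Finset I) (y : sect (∐ F) V) :
    (∐ F).val.map g.op (∑ i ∈ S, ((Sigma.ι F i).val.app (op V)).hom
        (((Sigma.π F i).val.app (op V)).hom y)) =
      ∑ i ∈ S, ((Sigma.ι F i).val.app (op W)).hom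
        (((Sigma.π F i).val.app (op W)).hom ((∐ F).val.map g.op y)) := by
  rw [map_sum]
  refine Finset.sum_congr rfl (fun i _ => ?_)
  have h1 := PresheafOfModules.naturality_apply (Sigma.ι F i).val g.op
    (((Sigma.π F i).val.app (op V)).hom y)
  have h2 := PresheafOfModules.naturality_apply (Sigma.π F i).val g.op y
  exact h1.symm.trans (congrArg _ h2.symm)

lemma NF.res {V W : C} (g : W ⟶ V) {S : Finset I} {y : sect (∐ F) V} (h : NF O F V S y) :
    NF O F W S ((∐ F).val.map g.op y) := by
  refine ⟨?_, fun i hi => ?_⟩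
  · rw [← res_sum O F g S y, ← h.1]
  · have h2 := PresheafOfModules.naturality_apply (Sigma.π F i).val g.op y
    refine h2.trans ?_
    rw [h.2 i hi]
    exact map_zero _

end Site


section Top

variable {X : TopCat.{u}} (O : Sheaf (Opens.grothendieckTopology X) CommRingCat.{u})
  {I : Type u} [DecidableEq I] (F : I → Mod O) [HasCoproduct F]

/-- over a quasi-compact open, every section of `∐ F` has a normal form -/
theorem exists_finset_sum (U : Opens X) (hU : IsCompact (U : Set X)) (s : sect (∐ F) U) :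
    ∃ S : Finset I, s = ∑ i ∈ S, ((Sigma.ι F i).val.app (op U)).hom
      (((Sigma.π F i).val.app (op U)).hom s) := by
  classical
  obtain ⟨T, hT, hT'⟩ := exists_sieve_mem_FS O F U s
  have key : ∀ x : U, ∃ (V : Opens X) (f : V ⟶ U) (S : Finset I), x.1 ∈ V ∧
      NF O F V S ((∐ F).val.map f.op s) := by
    intro x
    obtain ⟨V, f, hf, hxV⟩ := hT x.1 x.2
    obtain ⟨y, hy, rfl⟩ := hT' f hf
    obtain ⟨S, hS⟩ := exists_finset_of_mem_FS O F V _ hy
    exact ⟨V, f, S, hxV, hS⟩
  choose V f S hxV hNF using key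
  obtain ⟨t, ht⟩ := hU.elim_finite_subcover (fun x : U => (V x : Set X))
    (fun x => (V x).isOpen) (fun y hy => Set.mem_iUnion.2 ⟨⟨y, hy⟩, hxV ⟨y, hy⟩⟩)
  refine ⟨t.biUnion S, ?_⟩
  · -- equality of sections, checked locally
    let R : Sieve U :=
      { arrows := fun W _ => ∃ x ∈ t, W ≤ V x
        downward_closed := by
          rintro W W' g ⟨x, hx, hW⟩ g'
          exact ⟨x, hx, (leOfHom g').trans hW⟩ }
    have hR : R ∈ Opens.grothendieckTopology X U := by
      intro y hy
      obtain ⟨x, hx⟩ := Set.mem_iUnion.1 (ht hy)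
      obtain ⟨hxt, hyx⟩ := Set.mem_iUnion.1 hx
      exact ⟨V x, f x, ⟨x, hxt, le_rfl⟩, hyx⟩
    refine Groth.Agent.Lib.Helper94.JShriek.sect_ext_of_mem O (∐ F) R hR _ _ ?_
    rintro W g ⟨x, hxt, hW⟩
    rw [res_sum O F g (t.biUnion S) s]
    have hg : g = homOfLE hW ≫ f x := Subsingleton.elim _ _
    have h1 : NF O F W (S x) ((∐ F).val.map g.op s) := by
      have := (hNF x).res O F (homOfLE hW)
      rw [hg]
      have e : (∐ F).val.map (homOfLE hW ≫ f x).op s =
          (∐ F).val.map (homOfLE hW).op ((∐ F).val.map (f x).op s) :=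
        PresheafOfModules.map_comp_apply _ _ _ _
      rw [e]
      exact this
    exact (h1.mono O F (Finset.subset_biUnion_of_mem S hxt)).1

/-- **Sections of a direct sum over a quasi-compact open.** -/
theorem sections_coprod (U : Opens X) (hU : IsCompact (U : Set X)) :
    (∀ s : sect (∐ F) U, ∃ (S : Finset I) (t : ∀ i, sect (F i) U),
        s = ∑ i ∈ S, ((Sigma.ι F i).val.app (op U)).hom (t i)) ∧
      ∀ (S : Finset I) (t : ∀ i, sect (F i) U),
        ∑ i ∈ S, ((Sigma.ι F i).val.app (op U)).hom (t i) = 0 → ∀ i ∈ S, t i = 0 := by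
  constructor
  · intro s
    obtain ⟨S, hS⟩ := exists_finset_sum O F U hU s
    exact ⟨S, fun i => ((Sigma.π F i).val.app (op U)).hom s, hS⟩
  · intro S t h j hj
    have h1 := congrArg ((Sigma.π F j).val.app (op U)).hom h
    rw [map_sum, map_zero, Finset.sum_eq_single j] at h1
    · rwa [π_ι_self] at h1
    · intro i _ hij
      exact π_ι_of_ne O F U hij (t i)
    · intro h
      exact absurd hj h

end Top

end Groth.Agent.Lib.Helper19.ModCoprodSect
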