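import Groth.Agent.Lib.Helper19.ModLift
import Groth.Agent.Lib.Helper19.AbGen

/-!
# Finitely generated / finitely presented sheaves of modules: local criteria (helper19)

Namespace `Groth.Agent.Lib.Helper19.ModFG`.
-/

set_option autoImplicit false
set_option linter.unusedSectionVars false
set_option linter.style.haveILetI false
universe u
open CategoryTheory CategoryTheory.Limits Opposite

namespace Groth.Agent.Lib.Helper19.ModFG

open Groth.Agent.Lib.Helper19.ModRes Groth.Agent.Lib.Helper19.ModLift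
  Groth.Agent.Lib.Helper19.AbGen

section General

variable {C : Type u} [SmallCategory C] {J : GrothendieckTopology C} {R : Sheaf J RingCat.{u}}

/-- finite free modules -/
def FreeFin (P : SheafOfModules.{u} R) : Prop :=
  ∃ (I : Type u) (_ : Finite I), Nonempty (P ≅ SheafOfModules.free I)

lemma freeFin_free (I : Type u) [Finite I] : FreeFin (SheafOfModules.free (R := R) I) :=
  ⟨I, inferInstance, ⟨Iso.refl _⟩⟩

lemma FreeFin.coprod {P Q : SheafOfModules.{u} R} (hP : FreeFin P) (hQ : FreeFin Q) :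
    FreeFin (P ⨿ Q) := by
  obtain ⟨I, _, ⟨e⟩⟩ := hP
  obtain ⟨I', _, ⟨e'⟩⟩ := hQ
  exact ⟨I ⊕ I', inferInstance, ⟨coprod.mapIso e e' ≪≫ SheafOfModules.freeSumIso I I'⟩⟩

lemma FreeFin.of_iso {P Q : SheafOfModules.{u} R} (hP : FreeFin P) (e : P ≅ Q) : FreeFin Q := by
  obtain ⟨I, _, ⟨e'⟩⟩ := hP
  exact ⟨I, inferInstance, ⟨e.symm ≪≫ e'⟩⟩

/-- globally finitely generated -/
def FG (A : SheafOfModules.{u} R) : Prop :=
  ∃ (P : SheafOfModules.{u} R) (_ : FreeFin P) (p : P ⟶ A), Epi p

lemma FG_iff (A : SheafOfModules.{u} R) :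
    FG A ↔ ∃ σ : A.GeneratingSections, σ.IsFiniteType := by
  constructor
  · rintro ⟨P, ⟨I, hI, ⟨e⟩⟩, p, hp⟩
    refine ⟨{ I := I, s := A.freeHomEquiv (e.inv ≫ p), epi := ?_ }, ⟨hI⟩⟩
    rw [Equiv.symm_apply_apply]
    infer_instance
  · rintro ⟨σ, hσ⟩
    exact ⟨SheafOfModules.free σ.I, ⟨σ.I, hσ.finite, ⟨Iso.refl _⟩⟩, σ.π, σ.epi⟩

lemma FG.of_epi {A B : SheafOfModules.{u} R} (hA : FG A) (f : A ⟶ B) [Epi f] : FG B := by
  obtain ⟨P, hP, p, _⟩ := hA
  exact ⟨P, hP, p ≫ f, inferInstance⟩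

lemma FG.of_iso {A B : SheafOfModules.{u} R} (hA : FG A) (e : A ≅ B) : FG B := hA.of_epi e.hom

/-- globally finitely presented -/
def FP (A : SheafOfModules.{u} R) : Prop :=
  ∃ (P₁ P₀ : SheafOfModules.{u} R) (_ : FreeFin P₁) (_ : FreeFin P₀) (ρ : P₁ ⟶ P₀) (p : P₀ ⟶ A)
    (w : ρ ≫ p = 0), (ShortComplex.mk ρ p w).Exact ∧ Epi p

lemma FP.FG {A : SheafOfModules.{u} R} (hA : FP A) : FG A := by
  obtain ⟨P₁, P₀, _, h₀, ρ, p, w, _, hp⟩ := hA
  exact ⟨P₀, h₀, p, hp⟩

lemma FP_iff (A : SheafOfModules.{u} R) :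
    FP A ↔ ∃ P : A.Presentation, P.IsFinite := by
  constructor
  · rintro ⟨P₁, P₀, ⟨I₁, hI₁, ⟨e₁⟩⟩, ⟨I₀, hI₀, ⟨e₀⟩⟩, ρ, p, w, hT, hp⟩
    have w' : (e₁.inv ≫ ρ ≫ e₀.hom) ≫ (e₀.inv ≫ p) = 0 := by simp [w]
    have H' : IsColimit (CokernelCofork.ofπ (e₀.inv ≫ p) w') :=
      isColimitTransport ρ p w hT.gIsCokernel _ _ w' e₁ e₀ (Iso.refl _) (by simp) (by simp)
    refine ⟨SheafOfModules.presentationOfIsCokernelFree _ _ w' H', ?_⟩
    exact ⟨⟨hI₀⟩, ⟨hI₁⟩⟩
  · rintro ⟨P, hP⟩
    refine ⟨_, _, ⟨P.relations.I, hP.isFiniteType_relations.finite, ⟨Iso.refl _⟩⟩,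
      ⟨P.generators.I, hP.isFiniteType_generators.finite, ⟨Iso.refl _⟩⟩,
      (SheafOfModules.freeHomEquiv _).symm P.relations.s ≫ (kernel.ι _), P.generators.π,
      by simp, ShortComplex.exact_of_g_is_cokernel _ P.isColimit, inferInstance⟩

end General

section Functor

variable {C : Type u} [SmallCategory C] {J : GrothendieckTopology C} {R : Sheaf J RingCat.{u}}
  {D : Type u} [SmallCategory D] {K : GrothendieckTopology D} {S : Sheaf K RingCat.{u}}
  (F : SheafOfModules.{u} R ⥤ SheafOfModules.{u} S) [PreservesColimitsOfSize.{u, u} F]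
  (η : SheafOfModules.unit S ≅ F.obj (SheafOfModules.unit R))

include η in
lemma FreeFin.map {P : SheafOfModules.{u} R} (hP : FreeFin P) : FreeFin (F.obj P) := by
  obtain ⟨I, _, ⟨e⟩⟩ := hP
  exact ⟨I, inferInstance, ⟨F.mapIso e ≪≫ (SheafOfModules.mapFreeIso F I η).symm⟩⟩

include η in
lemma FG.map {A : SheafOfModules.{u} R} (hA : FG A) : FG (F.obj A) := by
  obtain ⟨P, hP, p, _⟩ := hA
  exact ⟨F.obj P, hP.map F η, F.map p, inferInstance⟩

include η in
lemma FP.map [PreservesFiniteLimits F] [F.PreservesZeroMorphisms] {A : SheafOfModules.{u} R}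
    (hA : FP A) : FP (F.obj A) := by
  obtain ⟨P₁, P₀, h₁, h₀, ρ, p, w, hT, _⟩ := hA
  haveI : PreservesFiniteColimits F := PreservesColimitsOfSize.preservesFiniteColimits F
  exact ⟨F.obj P₁, F.obj P₀, h₁.map F η, h₀.map F η, F.map ρ, F.map p,
    by rw [← F.map_comp, w, F.map_zero], hT.map F, inferInstance⟩

end Functor

section Local

variable {C : Type u} [SmallCategory C] {J : GrothendieckTopology C} (R : Sheaf J RingCat.{u})

set_option backward.isDefEq.respectTransparency.types false in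
instance isRightAdjoint_overFunctor (W : C) : (SheafOfModules.overFunctor.{u} R W).IsRightAdjoint :=
  inferInstanceAs (SheafOfModules.pushforward.{u} (𝟙 (R.over W))).IsRightAdjoint

/-- restriction to a slice preserves colimits (as in helper94's `JShriekExt`, for any `R`) -/
instance preservesColimits_overFunctor (W : C) :
    PreservesColimitsOfSize.{u, u} (SheafOfModules.overFunctor.{u} R W) := by
  have h1 : PreservesColimitsOfSize.{u, u}
      (SheafOfModules.overFunctor.{u} R W ⋙ SheafOfModules.toSheaf (R.over W)) := by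
    have e : SheafOfModules.overFunctor.{u} R W ⋙ SheafOfModules.toSheaf (R.over W) =
        SheafOfModules.toSheaf R ⋙
          (Over.forget W).sheafPushforwardContinuous AddCommGrpCat.{u} (J.over W) J := rfl
    rw [e]
    have := Groth.Agent.Lib.Helper94.ModSiteBasic.toSheaf_preservesColimitsOfSize R
    have : PreservesColimitsOfSize.{u, u}
        ((Over.forget W).sheafPushforwardContinuous AddCommGrpCat.{u} (J.over W) J) :=
      ((Over.forget W).sheafAdjunctionCocontinuous AddCommGrpCat.{u} (J.over W)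
        J).leftAdjoint_preservesColimits
    infer_instance
  have := Groth.Agent.Lib.Helper94.ModSiteBasic.toSheaf_preservesColimitsOfSize (R.over W)
  have : ReflectsColimitsOfSize.{u, u} (SheafOfModules.toSheaf (R.over W)) :=
    reflectsColimits_of_reflectsIsomorphisms
  exact preservesColimits_of_reflects_of_preserves _ (SheafOfModules.toSheaf (R.over W))

instance (W : C) : PreservesFiniteColimits (SheafOfModules.overFunctor.{u} R W) :=
  PreservesColimitsOfSize.preservesFiniteColimits _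

instance (W : C) : PreservesFiniteLimits (SheafOfModules.overFunctor.{u} R W) := inferInstance

instance (W : C) : (SheafOfModules.overFunctor.{u} R W).Additive :=
  haveI := preservesBinaryBiproducts_of_preservesBinaryProducts (SheafOfModules.overFunctor.{u} R W)
  Functor.additive_of_preservesBinaryBiproducts _

variable [HasPullbacks C]

instance {U W : C} (h : W ⟶ U) : PreservesColimitsOfSize.{u, u} (res R h) := inferInstance

instance {U W : C} (h : W ⟶ U) : PreservesFiniteColimits (res R h) :=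
  PreservesColimitsOfSize.preservesFiniteColimits _

instance {U W : C} (h : W ⟶ U) : (res R h).PreservesEpimorphisms :=
  Functor.preservesEpimorphisms_of_adjunction (Adjunction.ofIsLeftAdjoint (res R h))

instance {U W : C} (h : W ⟶ U) : PreservesFiniteLimits (res R h) := inferInstance

instance {U W : C} (h : W ⟶ U) : (res R h).Additive :=
  haveI := preservesBinaryBiproducts_of_preservesBinaryProducts (res R h)
  Functor.additive_of_preservesBinaryBiproducts _

variable {R}

lemma FreeFin.res {U W : C} (h : W ⟶ U) {P : SheafOfModules.{u} (R.over U)} (hP : FreeFin P) :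
    FreeFin ((ModRes.res R h).obj P) :=
  hP.map (ModRes.res R h) (SheafOfModules.overMapUnitIso h).symm

lemma FG.res {U W : C} (h : W ⟶ U) {A : SheafOfModules.{u} (R.over U)} (hA : FG A) :
    FG ((ModRes.res R h).obj A) :=
  hA.map (ModRes.res R h) (SheafOfModules.overMapUnitIso h).symm

lemma FP.res {U W : C} (h : W ⟶ U) {A : SheafOfModules.{u} (R.over U)} (hA : FP A) :
    FP ((ModRes.res R h).obj A) :=
  hA.map (ModRes.res R h) (SheafOfModules.overMapUnitIso h).symm

/-- the comparison `(M|_U)|_W ≅ M|_W` -/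
noncomputable abbrev resOverIso {U W : C} (h : W ⟶ U) (M : SheafOfModules.{u} R) :
    (ModRes.res R h).obj (M.over U) ≅ M.over W :=
  (SheafOfModules.overFunctorMap R h).app M

lemma FG.over_of_hom (M : SheafOfModules.{u} R) {U W : C} (h : W ⟶ U) (hM : FG (M.over U)) :
    FG (M.over W) :=
  (hM.res h).of_iso (resOverIso h M)

omit [HasPullbacks C] in
/-- locally-locally implies locally -/
lemma exists_sieve_bind {Q : C → Prop} {U : C} {S : Sieve U} (hS : S ∈ J U)
    (H : ∀ {W : C} (h : W ⟶ U), S h → ∃ T ∈ J W, ∀ {W' : C} (k : W' ⟶ W), T k → Q W') :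
    ∃ S' ∈ J U, ∀ {W : C} (h : W ⟶ U), S' h → Q W := by
  choose T hT hT' using @H
  refine ⟨Sieve.bind S (fun Y f hf => T f hf), J.bind_covering hS (fun Y f hf => hT f hf), ?_⟩
  rintro W h ⟨Y, g, f, hf, hg, rfl⟩
  exact hT' f hf g hg

/-- local criterion for finite type -/
theorem isFiniteType_iff (M : SheafOfModules.{u} R) :
    M.IsFiniteType ↔ ∀ U : C, ∃ S ∈ J U, ∀ {W : C} (h : W ⟶ U), S h → FG (M.over W) := by
  constructor
  · rintro ⟨σ, hσ⟩ U
    refine ⟨Sieve.ofObjects σ.X U, σ.coversTop U, ?_⟩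
    intro W h hh
    obtain ⟨i, ⟨k⟩⟩ := (Sieve.mem_ofObjects_iff ..).mp hh
    exact FG.over_of_hom M k ((FG_iff _).2 ⟨σ.generators i, hσ.isFiniteType i⟩)
  · intro H
    choose S hS hS' using H
    let I : Type u := {W : C // FG (M.over W)}
    have hI : ∀ i : I, ∃ σ : (M.over i.1).GeneratingSections, σ.IsFiniteType :=
      fun i => (FG_iff _).1 i.2
    choose σ hσ using hI
    have hcov : J.CoversTop (Subtype.val : I → C) := by
      intro U
      refine J.superset_covering ?_ (hS U)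
      intro W h hh
      exact (Sieve.mem_ofObjects_iff ..).mpr ⟨⟨W, hS' U h hh⟩, ⟨𝟙 W⟩⟩
    let τ : SheafOfModules.LocalGeneratorsData.{u} M :=
      { I := I, X := Subtype.val, coversTop := hcov, generators := σ }
    have hτ : τ.IsFiniteType := by
      constructor
      exact hσ
    constructor
    exact ⟨τ, hτ⟩

/-- local lifting for finite free sources -/
theorem exists_lift' {U : C} {A B P : SheafOfModules.{u} (R.over U)} (g : A ⟶ B) [Epi g]
    (hP : FreeFin P) (π : P ⟶ B) :
    ∃ S ∈ J U, ∀ {W : C} (h : W ⟶ U), S h →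
      ∃ q : (res R h).obj P ⟶ (res R h).obj A, q ≫ (res R h).map g = (res R h).map π := by
  obtain ⟨I, _, ⟨e⟩⟩ := hP
  obtain ⟨S, hS, hS'⟩ := exists_lift g (e.inv ≫ π)
  refine ⟨S, hS, ?_⟩
  intro W h hh
  obtain ⟨q, hq⟩ := hS' h hh
  refine ⟨(res R h).map e.hom ≫ (SheafOfModules.mapFreeIso (res R h) I
    (SheafOfModules.overMapUnitIso h).symm).inv ≫ q, ?_⟩
  rw [Category.assoc, Category.assoc, hq, Iso.inv_hom_id_assoc, ← Functor.map_comp,
    Iso.hom_inv_id_assoc]

/-- **Extensions of finite type modules are of finite type** (any small site with pullbacks). -/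
theorem isFiniteType_of_shortExact {S : ShortComplex (SheafOfModules.{u} R)}
    (hS : S.ShortExact) [h₁ : S.X₁.IsFiniteType] [h₃ : S.X₃.IsFiniteType] :
    S.X₂.IsFiniteType := by
  rw [isFiniteType_iff] at h₁ h₃ ⊢
  intro U
  obtain ⟨S₁, hS₁, hS₁'⟩ := h₁ U
  obtain ⟨S₃, hS₃, hS₃'⟩ := h₃ U
  refine exists_sieve_bind (J.intersection_covering hS₁ hS₃) ?_
  intro W h hh
  rw [Sieve.inter_apply] at hh
  obtain ⟨P₁, hP₁, p₁, _⟩ := hS₁' h hh.1
  obtain ⟨P₃, hP₃, p₃, _⟩ := hS₃' h hh.2
  have hSW : (S.map (SheafOfModules.overFunctor.{u} R W)).ShortExact :=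
    hS.map_of_exact (SheafOfModules.overFunctor.{u} R W)
  haveI := hSW.epi_g
  obtain ⟨T, hT, hT'⟩ := exists_lift' (S.map (SheafOfModules.overFunctor.{u} R W)).g hP₃ p₃
  refine ⟨T, hT, ?_⟩
  intro W' k hk
  obtain ⟨q, hq⟩ := hT' k hk
  have hSk : ((S.map (SheafOfModules.overFunctor.{u} R W)).map (res R k)).ShortExact :=
    hSW.map_of_exact (res R k)
  haveI e3 : Epi ((res R k).map p₃) := (res R k).map_epi p₃
  haveI e1 : Epi ((res R k).map p₁) := (res R k).map_epi p₁
  haveI : Epi (q ≫ ((S.map (SheafOfModules.overFunctor.{u} R W)).map (res R k)).g) := by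
    change Epi (q ≫ (res R k).map _)
    rw [hq]
    exact e3
  have hepi := @epi_desc_of_shortExact _ _ _ _ hSk _ _ ((res R k).map p₁) e1 q this
  have hFG : FG ((res R k).obj (S.X₂.over W)) :=
    ⟨_, (hP₁.res k).coprod (hP₃.res k), _, hepi⟩
  exact hFG.of_iso (resOverIso k S.X₂)

end Local

end Groth.Agent.Lib.Helper19.ModFG
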