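import Groth.Agent.Lib.Helper19.ModFG

/-!
# Kernels and cokernels of maps from finite type to finitely presented modules (helper19)

Namespace `Groth.Agent.Lib.Helper19.ModFP`.
-/

set_option autoImplicit false
set_option linter.unusedSectionVars false
set_option linter.style.haveILetI false
universe u
open CategoryTheory CategoryTheory.Limits Opposite

namespace Groth.Agent.Lib.Helper19.ModFP

open Groth.Agent.Lib.Helper19.ModRes Groth.Agent.Lib.Helper19.ModLift
  Groth.Agent.Lib.Helper19.AbGen Groth.Agent.Lib.Helper19.ModFG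

variable {C : Type u} [SmallCategory C] {J : GrothendieckTopology C} {R : Sheaf J RingCat.{u}}

lemma FP.of_iso {A B : SheafOfModules.{u} R} (hA : FP A) (e : A ≅ B) : FP B := by
  obtain ⟨P₁, P₀, h₁, h₀, ρ, p, w, hT, _⟩ := hA
  have w' : ρ ≫ p ≫ e.hom = 0 := by rw [reassoc_of% w, zero_comp]
  refine ⟨P₁, P₀, h₁, h₀, ρ, p ≫ e.hom, w', ?_, inferInstance⟩
  exact ShortComplex.exact_of_iso
    (ShortComplex.isoMk (S₁ := ShortComplex.mk ρ p w) (S₂ := ShortComplex.mk ρ (p ≫ e.hom) w')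
      (Iso.refl _) (Iso.refl _) e (by simp) (by simp)) hT

variable [HasPullbacks C]

instance {U W : C} (h : W ⟶ U) : (res R h).PreservesMonomorphisms :=
  Functor.preservesMonomorphisms_of_adjunction (Adjunction.ofIsRightAdjoint (res R h))

instance (W : C) : (SheafOfModules.overFunctor.{u} R W).PreservesMonomorphisms :=
  Functor.preservesMonomorphisms_of_adjunction
    (Adjunction.ofIsRightAdjoint (SheafOfModules.overFunctor.{u} R W))

instance (W : C) : (SheafOfModules.overFunctor.{u} R W).PreservesEpimorphisms :=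
  preservesEpimorphisms_of_preservesColimitsOfShape _

lemma FP.over_of_hom (M : SheafOfModules.{u} R) {U W : C} (h : W ⟶ U) (hM : FP (M.over U)) :
    FP (M.over W) :=
  FP.of_iso (hM.res h) (resOverIso h M)

/-- local criterion for finite presentation -/
theorem isFinitePresentation_iff (M : SheafOfModules.{u} R) :
    M.IsFinitePresentation ↔
      ∀ U : C, ∃ S ∈ J U, ∀ {W : C} (h : W ⟶ U), S h → FP (M.over W) := by
  constructor
  · rintro ⟨σ, hσ⟩ U
    refine ⟨Sieve.ofObjects σ.X U, σ.coversTop U, ?_⟩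
    intro W h hh
    obtain ⟨i, ⟨k⟩⟩ := (Sieve.mem_ofObjects_iff ..).mp hh
    exact FP.over_of_hom M k ((FP_iff _).2 ⟨σ.presentation i, hσ.isFinite_presentation i⟩)
  · intro H
    choose S hS hS' using H
    let I : Type u := {W : C // FP (M.over W)}
    have hI : ∀ i : I, ∃ σ : (M.over i.1).Presentation, σ.IsFinite :=
      fun i => (FP_iff _).1 i.2
    choose σ hσ using hI
    have hcov : J.CoversTop (Subtype.val : I → C) := by
      intro U
      refine J.superset_covering ?_ (hS U)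
      intro W h hh
      exact (Sieve.mem_ofObjects_iff ..).mpr ⟨⟨W, hS' U h hh⟩, ⟨𝟙 W⟩⟩
    let τ : SheafOfModules.QuasicoherentData.{u, u, u, u} M :=
      { I := I, X := Subtype.val, coversTop := hcov, presentation := σ }
    have hτ : τ.IsFinitePresentation := by
      constructor
      exact hσ
    constructor
    exact ⟨τ, hτ⟩

section Ab

variable {𝒜 : Type*} [Category 𝒜] [Abelian 𝒜]

lemma epi_of_kernel_data' {K G F Pm Pn Pr : 𝒜} (ι : K ⟶ G) (θ : G ⟶ F) [Mono ι]
    (z : ι ≫ θ = 0) (hS : (ShortComplex.mk ι θ z).Exact)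
    (ρ : Pm ⟶ Pn) (p : Pn ⟶ F) (w : ρ ≫ p = 0)
    (hT : (ShortComplex.mk ρ p w).Exact) (α : Pn ⟶ G) (hα : α ≫ θ = p) (γ : Pr ⟶ G) [Epi γ]
    (β : Pr ⟶ Pn) (hβ : β ≫ p = γ ≫ θ) :
    ∃ c : Pm ⨿ Pr ⟶ K, Epi c := by
  have h1 : (ρ ≫ α) ≫ θ = 0 := by rw [Category.assoc, hα, w]
  have h2 : (γ - β ≫ α) ≫ θ = 0 := by
    rw [Preadditive.sub_comp, Category.assoc, hα, hβ, sub_self]
  exact ⟨_, epi_of_kernel_data (S := ShortComplex.mk ι θ z) ρ p w hT α γ β hβ
    (hS.lift _ h1) (hS.lift_f _ h1) (hS.lift _ h2) (hS.lift_f _ h2)⟩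

lemma exact_of_cokernel_data' {G F Q Pm Pn Pr : 𝒜} (φ : G ⟶ F) (π : F ⟶ Q) [Epi π]
    (z : φ ≫ π = 0) (hS : (ShortComplex.mk φ π z).Exact)
    (ρ : Pm ⟶ Pn) (p : Pn ⟶ F) (w : ρ ≫ p = 0)
    (hT : (ShortComplex.mk ρ p w).Exact) [Epi p]
    (γ : Pr ⟶ G) [Epi γ] (β : Pr ⟶ Pn) (hβ : β ≫ p = γ ≫ φ) :
    ∃ w' : coprod.desc ρ β ≫ p ≫ π = 0,
      (ShortComplex.mk (coprod.desc ρ β) (p ≫ π) w').Exact :=
  exact_of_cokernel_data (S := ShortComplex.mk φ π z) hS ρ p w hT γ β hβ

end Ab

/-- **Kernel of an epimorphism from finite type onto finite presentation is of finite type.** -/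
theorem isFiniteType_kernel {G F : SheafOfModules.{u} R} (θ : G ⟶ F) [Epi θ]
    [hG : G.IsFiniteType] [hF : F.IsFinitePresentation] : (kernel θ).IsFiniteType := by
  rw [isFiniteType_iff] at hG ⊢
  rw [isFinitePresentation_iff] at hF
  intro U
  obtain ⟨S₁, hS₁, hS₁'⟩ := hG U
  obtain ⟨S₃, hS₃, hS₃'⟩ := hF U
  refine exists_sieve_bind (J.intersection_covering hS₁ hS₃) ?_
  intro W h hh
  rw [Sieve.inter_apply] at hh
  obtain ⟨Pr, hPr, γ, hγ⟩ := hS₁' h hh.1
  obtain ⟨Pm, Pn, hPm, hPn, ρ, p, w, hT, hp⟩ := hS₃' h hh.2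
  haveI : Epi ((SheafOfModules.overFunctor.{u} R W).map θ) :=
    (SheafOfModules.overFunctor.{u} R W).map_epi θ
  obtain ⟨Tα, hTα, hTα'⟩ := exists_lift' ((SheafOfModules.overFunctor.{u} R W).map θ) hPn p
  obtain ⟨Tβ, hTβ, hTβ'⟩ :=
    exists_lift' p hPr (γ ≫ (SheafOfModules.overFunctor.{u} R W).map θ)
  refine ⟨Tα ⊓ Tβ, J.intersection_covering hTα hTβ, ?_⟩
  intro W' k hk
  rw [Sieve.inter_apply] at hk
  obtain ⟨α, hα⟩ := hTα' k hk.1
  obtain ⟨β, hβ⟩ := hTβ' k hk.2
  have z : (res R k).map ((SheafOfModules.overFunctor.{u} R W).map (kernel.ι θ)) ≫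
      (res R k).map ((SheafOfModules.overFunctor.{u} R W).map θ) = 0 := by
    rw [← Functor.map_comp, ← Functor.map_comp, kernel.condition, Functor.map_zero,
      Functor.map_zero]
  have hS' : (ShortComplex.mk _ _ z).Exact :=
    ((ShortComplex.kernelSequence_exact θ).map (SheafOfModules.overFunctor.{u} R W)).map (res R k)
  haveI : Mono ((res R k).map ((SheafOfModules.overFunctor.{u} R W).map (kernel.ι θ))) := by
    haveI : Mono ((SheafOfModules.overFunctor.{u} R W).map (kernel.ι θ)) :=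
      (SheafOfModules.overFunctor.{u} R W).map_mono _
    exact (res R k).map_mono _
  have w' : (res R k).map ρ ≫ (res R k).map p = 0 := by
    rw [← Functor.map_comp, w, Functor.map_zero]
  have hT' : (ShortComplex.mk ((res R k).map ρ) ((res R k).map p) w').Exact := hT.map (res R k)
  haveI : Epi ((res R k).map γ) := (res R k).map_epi γ
  rw [Functor.map_comp] at hβ
  obtain ⟨c, hc⟩ := epi_of_kernel_data' _ _ z hS' _ _ w' hT' α hα _ β hβ
  have hFG : FG ((res R k).obj ((kernel θ).over W)) :=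
    ⟨_, (hPm.res k).coprod (hPr.res k), c, hc⟩
  exact hFG.of_iso (resOverIso k (kernel θ))

/-- **Cokernel of a map from finite type to finite presentation is of finite presentation.** -/
theorem isFinitePresentation_cokernel {G F : SheafOfModules.{u} R} (φ : G ⟶ F)
    [hG : G.IsFiniteType] [hF : F.IsFinitePresentation] : (cokernel φ).IsFinitePresentation := by
  rw [isFiniteType_iff] at hG
  rw [isFinitePresentation_iff] at hF ⊢
  intro U
  obtain ⟨S₁, hS₁, hS₁'⟩ := hG U
  obtain ⟨S₃, hS₃, hS₃'⟩ := hF U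
  refine exists_sieve_bind (J.intersection_covering hS₁ hS₃) ?_
  intro W h hh
  rw [Sieve.inter_apply] at hh
  obtain ⟨Pr, hPr, γ, hγ⟩ := hS₁' h hh.1
  obtain ⟨Pm, Pn, hPm, hPn, ρ, p, w, hT, hp⟩ := hS₃' h hh.2
  obtain ⟨Tβ, hTβ, hTβ'⟩ :=
    exists_lift' p hPr (γ ≫ (SheafOfModules.overFunctor.{u} R W).map φ)
  refine ⟨Tβ, hTβ, ?_⟩
  intro W' k hk
  obtain ⟨β, hβ⟩ := hTβ' k hk
  have z : (res R k).map ((SheafOfModules.overFunctor.{u} R W).map φ) ≫
      (res R k).map ((SheafOfModules.overFunctor.{u} R W).map (cokernel.π φ)) = 0 := by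
    rw [← Functor.map_comp, ← Functor.map_comp, cokernel.condition, Functor.map_zero,
      Functor.map_zero]
  have hS' : (ShortComplex.mk _ _ z).Exact :=
    ((ShortComplex.cokernelSequence_exact φ).map (SheafOfModules.overFunctor.{u} R W)).map
      (res R k)
  haveI : Epi ((res R k).map ((SheafOfModules.overFunctor.{u} R W).map (cokernel.π φ))) := by
    haveI : Epi ((SheafOfModules.overFunctor.{u} R W).map (cokernel.π φ)) :=
      (SheafOfModules.overFunctor.{u} R W).map_epi _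
    exact (res R k).map_epi _
  have w' : (res R k).map ρ ≫ (res R k).map p = 0 := by
    rw [← Functor.map_comp, w, Functor.map_zero]
  have hT' : (ShortComplex.mk ((res R k).map ρ) ((res R k).map p) w').Exact := hT.map (res R k)
  haveI : Epi ((res R k).map γ) := (res R k).map_epi γ
  haveI : Epi ((res R k).map p) := (res R k).map_epi p
  rw [Functor.map_comp] at hβ
  obtain ⟨w'', hE⟩ := exact_of_cokernel_data' _ _ z hS' _ _ w' hT' _ β hβ
  have hFP : FP ((res R k).obj ((cokernel φ).over W)) :=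
    ⟨_, _, (hPm.res k).coprod (hPr.res k), hPn.res k, _, _, w'', hE, epi_comp _ _⟩
  exact FP.of_iso hFP (resOverIso k (cokernel φ))

end Groth.Agent.Lib.Helper19.ModFP
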