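import Groth.Agent.Lib.Helper19.ModStalkLift
import Groth.Agent.Lib.Helper19.ModFP
import Groth.Agent.Lib.Helper19.ModLocFree
import Groth.Agent.Lib.Helper19.ModCoprodSect

/-!
# A finitely presented module which is "free at `x`" is free near `x` (helper19)

Namespace `Groth.Agent.Lib.Helper19.ModFreeNear`.  Slice-level argument on a ringed space.
-/

set_option autoImplicit false
set_option linter.unusedSectionVars false
set_option linter.style.haveILetI false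
universe u
open CategoryTheory CategoryTheory.Limits Opposite TopologicalSpace

namespace Groth.Agent.Lib.Helper19.ModFreeNear

open Groth.Agent.Lib.Helper19.ModRes Groth.Agent.Lib.Helper19.ModLift
  Groth.Agent.Lib.Helper19.AbGen Groth.Agent.Lib.Helper19.ModFG Groth.Agent.Lib.Helper19.ModFP
  Groth.Agent.Lib.Helper19.ModStalkLift Groth.Agent.Lib.Helper19.ModLocFree

variable {X : TopCat.{u}} {R : Sheaf (Opens.grothendieckTopology X) RingCat.{u}} (x : X)

/-- injectivity of `φ` on sections, near `x` -/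
def InjAt {V : Opens X} {P A : SheafOfModules.{u} (R.over V)} (φ : P ⟶ A) : Prop :=
  ∀ (Y : Over V), x ∈ Y.left → ∀ a a' : P.val.obj (op Y),
    φ.val.app (op Y) a = φ.val.app (op Y) a' →
    ∃ (Y' : Over V) (k : Y' ⟶ Y), x ∈ Y'.left ∧ P.val.map k.op a = P.val.map k.op a'

variable {x}

lemma InjAt.res {V W : Opens X} (h : W ⟶ V) {P A : SheafOfModules.{u} (R.over V)} {φ : P ⟶ A}
    (hφ : InjAt x φ) : InjAt x ((res R h).map φ) := by
  intro Y hY a a' haa
  obtain ⟨a₁, ha₁⟩ : ∃ a₁ : P.val.obj (op ((Over.map h).obj Y)), a₁ = a := ⟨a, rfl⟩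
  obtain ⟨a₁', ha₁'⟩ : ∃ a₁' : P.val.obj (op ((Over.map h).obj Y)), a₁' = a' := ⟨a', rfl⟩
  have haa₁ : φ.val.app (op ((Over.map h).obj Y)) a₁ = φ.val.app (op ((Over.map h).obj Y)) a₁' := by
    rw [ha₁, ha₁']
    exact haa
  obtain ⟨Y'', k, hY'', hk⟩ := hφ ((Over.map h).obj Y) hY a₁ a₁' haa₁
  let Y' : Over W := Over.mk (k.left ≫ Y.hom)
  let k' : Y' ⟶ Y := Over.homMk k.left rfl
  let j : (Over.map h).obj Y' ⟶ Y'' := Over.homMk (𝟙 _) (Subsingleton.elim _ _)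
  have hj : (Over.map h).map k' = j ≫ k := by
    ext
    exact Subsingleton.elim _ _
  refine ⟨Y', k', hY'', ?_⟩
  have key : P.val.map ((Over.map h).map k').op a₁ = P.val.map ((Over.map h).map k').op a₁' := by
    rw [hj, op_comp, PresheafOfModules.map_comp_apply, PresheafOfModules.map_comp_apply, hk]
  rw [ha₁, ha₁'] at key
  exact key

lemma InjAt.comp_iso {V : Opens X} {P A B : SheafOfModules.{u} (R.over V)} {φ : P ⟶ A}
    (hφ : InjAt x φ) (e : A ≅ B) : InjAt x (φ ≫ e.hom) := by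
  intro Y hY a a' haa
  refine hφ Y hY a a' ?_
  have h1 : e.inv.val.app (op Y) ((φ ≫ e.hom).val.app (op Y) a) =
      e.inv.val.app (op Y) ((φ ≫ e.hom).val.app (op Y) a') := by rw [haa]
  have h2 : ∀ b : P.val.obj (op Y), e.inv.val.app (op Y) ((φ ≫ e.hom).val.app (op Y) b) =
      φ.val.app (op Y) b := by
    intro b
    have h3 : (φ ≫ e.hom) ≫ e.inv = φ := by simp
    exact congrArg (fun g : P ⟶ A => g.val.app (op Y) b) h3
  rw [h2, h2] at h1
  exact h1

lemma sectOfElt_congr {U W : Opens X} (h : W ⟶ U) {A : SheafOfModules.{u} (R.over U)}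
    {a a' : A.val.obj (op (Over.mk h))} (haa : a = a') : sectOfElt h a = sectOfElt h a' := by
  rw [haa]

/-- two maps out of a finite free module which agree after composing with a map which is
injective near `x` agree near `x` -/
theorem exists_res_eq {V : Opens X} (hV : x ∈ V) {P A Q : SheafOfModules.{u} (R.over V)}
    {φ : P ⟶ A} (hφ : InjAt x φ) (hQ : FreeFin Q) (c₁ c₂ : Q ⟶ P) (hc : c₁ ≫ φ = c₂ ≫ φ) :
    ∃ (V' : Opens X) (h : V' ⟶ V), x ∈ V' ∧ (res R h).map c₁ = (res R h).map c₂ := by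
  obtain ⟨I, _, ⟨e⟩⟩ := hQ
  have hc' : (e.inv ≫ c₁) ≫ φ = (e.inv ≫ c₂) ≫ φ := by
    rw [Category.assoc, Category.assoc, hc]
  have key : ∀ i : I, ∃ (V' : Opens X) (h : V' ⟶ V), x ∈ V' ∧
      (P.freeHomEquiv (e.inv ≫ c₁) i).val (op (Over.mk h)) =
        (P.freeHomEquiv (e.inv ≫ c₂) i).val (op (Over.mk h)) := by
    intro i
    have h1 : SheafOfModules.sectionsMap φ (P.freeHomEquiv (e.inv ≫ c₁) i) =
        SheafOfModules.sectionsMap φ (P.freeHomEquiv (e.inv ≫ c₂) i) := by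
      rw [← SheafOfModules.freeHomEquiv_comp_apply, ← SheafOfModules.freeHomEquiv_comp_apply, hc']
    have h2 : φ.val.app (op (Over.mk (𝟙 V)))
          ((P.freeHomEquiv (e.inv ≫ c₁) i).val (op (Over.mk (𝟙 V)))) =
        φ.val.app (op (Over.mk (𝟙 V)))
          ((P.freeHomEquiv (e.inv ≫ c₂) i).val (op (Over.mk (𝟙 V)))) :=
      congrArg (fun t : A.sections => t.val (op (Over.mk (𝟙 V)))) h1
    obtain ⟨Y', k, hY', hk⟩ := hφ (Over.mk (𝟙 V)) hV _ _ h2
    refine ⟨Y'.left, Y'.hom, hY', ?_⟩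
    have hk' : (Over.homMk Y'.hom : Over.mk Y'.hom ⟶ Over.mk (𝟙 V)) = k := by
      ext
      exact Subsingleton.elim _ _
    have e1 := PresheafOfModules.sections_property (P.freeHomEquiv (e.inv ≫ c₁) i)
      (Over.homMk Y'.hom : Over.mk Y'.hom ⟶ Over.mk (𝟙 V)).op
    have e2 := PresheafOfModules.sections_property (P.freeHomEquiv (e.inv ≫ c₂) i)
      (Over.homMk Y'.hom : Over.mk Y'.hom ⟶ Over.mk (𝟙 V)).op
    rw [hk'] at e1 e2
    exact e1.symm.trans (hk.trans e2)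
  choose V' k hV' hk using key
  obtain ⟨V₀, hV₀, hle, hW₀⟩ : ∃ V₀ : Opens X, x ∈ V₀ ∧ (∀ i, V₀ ≤ V' i) ∧ V₀ ≤ V := by
    refine ⟨(⨅ i, V' i) ⊓ V, ⟨?_, hV⟩, fun i => inf_le_left.trans (iInf_le V' i), inf_le_right⟩
    rw [SetLike.mem_coe, ← SetLike.mem_coe, Opens.coe_iInf]
    exact Set.mem_iInter.2 hV'
  refine ⟨V₀, homOfLE hW₀, hV₀, ?_⟩
  have H : ∀ i, (P.freeHomEquiv (e.inv ≫ c₁) i).val (op (Over.mk (homOfLE hW₀))) =
      (P.freeHomEquiv (e.inv ≫ c₂) i).val (op (Over.mk (homOfLE hW₀))) := by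
    intro i
    have e1 := PresheafOfModules.sections_property (P.freeHomEquiv (e.inv ≫ c₁) i)
      (Over.homMk (homOfLE (hle i)) (Subsingleton.elim _ _) :
        Over.mk (homOfLE hW₀) ⟶ Over.mk (k i)).op
    have e2 := PresheafOfModules.sections_property (P.freeHomEquiv (e.inv ≫ c₂) i)
      (Over.homMk (homOfLE (hle i)) (Subsingleton.elim _ _) :
        Over.mk (homOfLE hW₀) ⟶ Over.mk (k i)).op
    rw [← e1, ← e2, hk i]
  have H2 : resFree (homOfLE hW₀) (e.inv ≫ c₁) = resFree (homOfLE hW₀) (e.inv ≫ c₂) := by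
    apply ((res R (homOfLE hW₀)).obj P).freeHomEquiv.injective
    funext i
    rw [freeHomEquiv_resFree, freeHomEquiv_resFree, resSec_eq_sectOfElt, resSec_eq_sectOfElt]
    exact sectOfElt_congr _ (H i)
  have H3 : (res R (homOfLE hW₀)).map (e.inv ≫ c₁) = (res R (homOfLE hW₀)).map (e.inv ≫ c₂) := by
    have := H2
    dsimp only [resFree] at this
    exact (cancel_epi _).1 this
  have H4 : ∀ c : Q ⟶ P, (res R (homOfLE hW₀)).map c =
      (res R (homOfLE hW₀)).map e.hom ≫ (res R (homOfLE hW₀)).map (e.inv ≫ c) := by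
    intro c
    rw [← Functor.map_comp, Iso.hom_inv_id_assoc]
  rw [H4 c₁, H4 c₂, H3]

variable (x) in
/-- `A` becomes free on `I` after finitely many restrictions to neighbourhoods of `x` -/
inductive Triv (I : Type u) : ∀ (V : Opens X), SheafOfModules.{u} (R.over V) → Prop
  | base {V : Opens X} {A : SheafOfModules.{u} (R.over V)} (hV : x ∈ V)
      (e : A ≅ SheafOfModules.free I) : Triv I V A
  | step {V V' : Opens X} {A : SheafOfModules.{u} (R.over V)} (h : V' ⟶ V)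
      (hA : Triv I V' ((res R h).obj A)) : Triv I V A

theorem Triv.exists_iso {I : Type u} (M : SheafOfModules.{u} R) {V : Opens X}
    {A : SheafOfModules.{u} (R.over V)} (hA : Triv x I V A) (e : A ≅ M.over V) :
    ∃ V' : Opens X, x ∈ V' ∧ Nonempty (M.over V' ≅ SheafOfModules.free I) := by
  induction hA with
  | base hV e' => exact ⟨_, hV, ⟨e.symm ≪≫ e'⟩⟩
  | step h hA ih => exact ih ((res R h).mapIso e ≪≫ resOverIso h M)

/-- the staged argument: a map from a finite free module to a finitely presented module which is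
injective at `x` and surjective near `x` is an isomorphism near `x` -/
theorem triv_of_injAt {U : Opens X} (_hU : x ∈ U) {P A : SheafOfModules.{u} (R.over U)}
    (I : Type u) [Finite I] (eP : P ≅ SheafOfModules.free I) (φ : P ⟶ A) (hφ : InjAt x φ)
    (hFP : ∀ (V : Opens X) (h : V ⟶ U), x ∈ V → FP ((res R h).obj A))
    (hEpi : ∃ (V : Opens X) (h : V ⟶ U), x ∈ V ∧ Epi ((res R h).map φ)) : Triv x I U A := by
  obtain ⟨V₁, h₁, hV₁, hepi₁⟩ := hEpi
  refine Triv.step h₁ ?_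
  have hφ₁ := hφ.res h₁
  have eP₁ : (res R h₁).obj P ≅ SheafOfModules.free I :=
    (res R h₁).mapIso eP ≪≫ resFreeIso h₁ I
  obtain ⟨Q₁, Q₀, hQ₁, hQ₀, ρ, π, w, hT, hπ⟩ := hFP V₁ h₁ hV₁
  obtain ⟨I₀, _, ⟨e₀⟩⟩ := hQ₀
  have w' : (ρ ≫ e₀.hom) ≫ (e₀.inv ≫ π) = 0 := by
    rw [Category.assoc, Iso.hom_inv_id_assoc, w]
  have hT' : (ShortComplex.mk (ρ ≫ e₀.hom) (e₀.inv ≫ π) w').Exact :=
    ShortComplex.exact_of_iso
      (ShortComplex.isoMk (S₁ := ShortComplex.mk ρ π w)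
        (S₂ := ShortComplex.mk (ρ ≫ e₀.hom) (e₀.inv ≫ π) w')
        (Iso.refl _) e₀ (Iso.refl _) (by simp) (by simp)) hT
  haveI hπ' : Epi (e₀.inv ≫ π) := epi_comp _ _
  obtain ⟨S, hS, hS'⟩ := exists_lift ((res R h₁).map φ) (e₀.inv ≫ π)
  obtain ⟨V₂, h₂, hh₂, hV₂⟩ := hS x hV₁
  obtain ⟨q, hq⟩ := hS' h₂ hh₂
  refine Triv.step h₂ ?_
  have hb : ((SheafOfModules.mapFreeIso (res R h₂) I₀ (SheafOfModules.overMapUnitIso h₂).symm).inv ≫ q) ≫
      (res R h₂).map ((res R h₁).map φ) = (res R h₂).map (e₀.inv ≫ π) := by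
    rw [Category.assoc, hq]
    dsimp only [resFree]
    rw [Iso.inv_hom_id_assoc]
  obtain ⟨b₂, hb₂⟩ : ∃ b₂ : (res R h₂).obj (SheafOfModules.free I₀) ⟶ (res R h₂).obj ((res R h₁).obj P),
      b₂ ≫ (res R h₂).map ((res R h₁).map φ) = (res R h₂).map (e₀.inv ≫ π) := ⟨_, hb⟩
  have hc : ((res R h₂).map (ρ ≫ e₀.hom) ≫ b₂) ≫ (res R h₂).map ((res R h₁).map φ) =
      0 ≫ (res R h₂).map ((res R h₁).map φ) := by
    rw [Category.assoc, hb₂, ← Functor.map_comp, w', Functor.map_zero, zero_comp]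
  obtain ⟨V₃, h₃, hV₃, h3⟩ := exists_res_eq hV₂ (hφ₁.res h₂) (hQ₁.res h₂)
    ((res R h₂).map (ρ ≫ e₀.hom) ≫ b₂) 0 hc
  refine Triv.step h₃ ?_
  have hb₃ : (res R h₃).map b₂ ≫ (res R h₃).map ((res R h₂).map ((res R h₁).map φ)) =
      (res R h₃).map ((res R h₂).map (e₀.inv ≫ π)) := by
    rw [← Functor.map_comp, hb₂]
  have hρb : (res R h₃).map ((res R h₂).map (ρ ≫ e₀.hom)) ≫ (res R h₃).map b₂ = 0 := by
    rw [← Functor.map_comp, h3, Functor.map_zero]
  have w₃ : (res R h₃).map ((res R h₂).map (ρ ≫ e₀.hom)) ≫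
      (res R h₃).map ((res R h₂).map (e₀.inv ≫ π)) = 0 := by
    rw [← Functor.map_comp, ← Functor.map_comp, w', Functor.map_zero, Functor.map_zero]
  have hT₃ : (ShortComplex.mk _ _ w₃).Exact := (hT'.map (res R h₂)).map (res R h₃)
  haveI hπ₃ : Epi ((res R h₃).map ((res R h₂).map (e₀.inv ≫ π))) :=
    (res R h₃).map_epi _
  haveI : Epi (ShortComplex.mk _ _ w₃).g := hπ₃
  obtain ⟨ψ₃, hψ⟩ : ∃ ψ₃ : (res R h₃).obj ((res R h₂).obj ((res R h₁).obj A)) ⟶
      (res R h₃).obj ((res R h₂).obj ((res R h₁).obj P)),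
      (res R h₃).map ((res R h₂).map (e₀.inv ≫ π)) ≫ ψ₃ = (res R h₃).map b₂ :=
    ⟨hT₃.desc _ hρb, hT₃.g_desc _ hρb⟩
  have h1 : ψ₃ ≫ (res R h₃).map ((res R h₂).map ((res R h₁).map φ)) = 𝟙 _ := by
    rw [← cancel_epi ((res R h₃).map ((res R h₂).map (e₀.inv ≫ π))), ← Category.assoc, hψ, hb₃,
      Category.comp_id]
  have h2 : ((res R h₃).map ((res R h₂).map ((res R h₁).map φ)) ≫ ψ₃) ≫
      (res R h₃).map ((res R h₂).map ((res R h₁).map φ)) =
      𝟙 _ ≫ (res R h₃).map ((res R h₂).map ((res R h₁).map φ)) := by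
    rw [Category.assoc, h1, Category.comp_id, Category.id_comp]
  have eP₃ : (res R h₃).obj ((res R h₂).obj ((res R h₁).obj P)) ≅ SheafOfModules.free I :=
    (res R h₃).mapIso ((res R h₂).mapIso eP₁ ≪≫ resFreeIso h₂ I) ≪≫ resFreeIso h₃ I
  have hFF : FreeFin ((res R h₃).obj ((res R h₂).obj ((res R h₁).obj P))) :=
    ⟨I, inferInstance, ⟨eP₃⟩⟩
  obtain ⟨V₄, h₄, hV₄, h4⟩ := exists_res_eq hV₃ ((hφ₁.res h₂).res h₃) hFF _ _ h2
  refine Triv.step h₄ (Triv.base hV₄ ?_)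
  refine Iso.mk ((res R h₄).map ψ₃) ((res R h₄).map ((res R h₃).map ((res R h₂).map ((res R h₁).map φ))))
    ?_ ?_ ≪≫ (res R h₄).mapIso eP₃ ≪≫ resFreeIso h₄ I
  · rw [← Functor.map_comp, h1, CategoryTheory.Functor.map_id]
  · rw [← Functor.map_comp, h4, CategoryTheory.Functor.map_id]

end Groth.Agent.Lib.Helper19.ModFreeNear
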