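import Groth.Agent.Lib.Helper19.ModFreeNear

/-!
# Free stalk + finite presentation ⟹ free near the point (helper19)

Namespace `Groth.Agent.Lib.Helper19.ModFreeStalk`.
-/

set_option autoImplicit false
set_option linter.unusedSectionVars false
set_option linter.style.haveILetI false
universe u
open CategoryTheory CategoryTheory.Limits Opposite TopologicalSpace

namespace Groth.Agent.Lib.Helper19.ModFreeStalk

open Groth.Agent.Lib.Helper19.ModRes Groth.Agent.Lib.Helper19.ModLift
  Groth.Agent.Lib.Helper19.AbGen Groth.Agent.Lib.Helper19.ModFG Groth.Agent.Lib.Helper19.ModFP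
  Groth.Agent.Lib.Helper19.ModStalkLift Groth.Agent.Lib.Helper19.ModLocFree
  Groth.Agent.Lib.Helper19.ModFreeNear
open ModSite

variable {X : TopCat.{u}} (O : Sheaf (Opens.grothendieckTopology X) CommRingCat.{u}) (x : X)

section Germs

variable (M : ModSite.Mod O)

lemma exists_germ_eq (m : stalkAb (Opens.pointGrothendieckTopology x) M) :
    ∃ (W : Opens X) (hW : x ∈ W) (s : sect M W),
      germ (Opens.pointGrothendieckTopology x) M W ⟨⟨hW⟩⟩ s = m := by
  obtain ⟨Y, ⟨⟨hY⟩⟩, g₀, rfl⟩ :=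
    (Opens.pointGrothendieckTopology x).toPresheafFiber_jointly_surjective
      (P := (toAb M).obj) m
  exact ⟨Y, hY, g₀, rfl⟩

lemma exists_germRing_eq (c : stalkRing (Opens.pointGrothendieckTopology x) O) :
    ∃ (W : Opens X) (hW : x ∈ W) (r : O.obj.obj (op W)),
      germRing (Opens.pointGrothendieckTopology x) W ⟨⟨hW⟩⟩ r = c := by
  obtain ⟨Y, ⟨⟨hY⟩⟩, g₀, rfl⟩ :=
    (Opens.pointGrothendieckTopology x).toPresheafFiber_jointly_surjective
      (P := O.obj) c
  exact ⟨Y, hY, g₀, rfl⟩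

lemma germ_res {W V : Opens X} (k : V ⟶ W) (hV : x ∈ V) (hW : x ∈ W) (s : sect M W) :
    germ (Opens.pointGrothendieckTopology x) M V ⟨⟨hV⟩⟩ (M.val.map k.op s) =
      germ (Opens.pointGrothendieckTopology x) M W ⟨⟨hW⟩⟩ s :=
  (Opens.pointGrothendieckTopology x).toPresheafFiber_w_apply k ⟨⟨hV⟩⟩ (toAb M).obj s

lemma germRing_res {W V : Opens X} (k : V ⟶ W) (hV : x ∈ V) (hW : x ∈ W) (r : O.obj.obj (op W)) :
    germRing (Opens.pointGrothendieckTopology x) V ⟨⟨hV⟩⟩ (O.obj.map k.op r) =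
      germRing (Opens.pointGrothendieckTopology x) W ⟨⟨hW⟩⟩ r :=
  (Opens.pointGrothendieckTopology x).toPresheafFiber_w_apply k ⟨⟨hV⟩⟩ O.obj r

lemma exists_res_eq_of_germ_eq {W : Opens X} (hW : x ∈ W) (s s' : sect M W)
    (h : germ (Opens.pointGrothendieckTopology x) M W ⟨⟨hW⟩⟩ s =
      germ (Opens.pointGrothendieckTopology x) M W ⟨⟨hW⟩⟩ s') :
    ∃ (V : Opens X) (k : V ⟶ W), x ∈ V ∧ M.val.map k.op s = M.val.map k.op s' := by
  obtain ⟨V, f, ⟨⟨hV⟩⟩, -, h3⟩ := ((Opens.pointGrothendieckTopology x).toPresheafFiber_eq_iff'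
    (P := (toAb M).obj) W ⟨⟨hW⟩⟩ _ _).1 h
  exact ⟨V, f, hV, h3⟩

lemma exists_res_eq_of_germRing_eq {W : Opens X} (hW : x ∈ W) (r r' : O.obj.obj (op W))
    (h : germRing (Opens.pointGrothendieckTopology x) W ⟨⟨hW⟩⟩ r =
      germRing (Opens.pointGrothendieckTopology x) W ⟨⟨hW⟩⟩ r') :
    ∃ (V : Opens X) (k : V ⟶ W), x ∈ V ∧ O.obj.map k.op r = O.obj.map k.op r' := by
  obtain ⟨V, f, ⟨⟨hV⟩⟩, -, h3⟩ := ((Opens.pointGrothendieckTopology x).toPresheafFiber_eq_iff'
    (P := O.obj) W ⟨⟨hW⟩⟩ _ _).1 h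
  exact ⟨V, f, hV, h3⟩

end Germs

section GeneralSite

variable {C : Type u} [SmallCategory C] {J : GrothendieckTopology C} {R : Sheaf J RingCat.{u}}

lemma unit_app_eq_smul {M : SheafOfModules.{u} R} (g : SheafOfModules.unit R ⟶ M) (Y : Cᵒᵖ)
    (c : R.obj.obj Y) :
    (g.val.app Y).hom (show (SheafOfModules.unit R).val.obj Y from c) =
      c • (show M.val.obj Y from (M.unitHomEquiv g).val Y) := by
  have := (g.val.app Y).hom.map_smul c
    (show (SheafOfModules.unit R).val.obj Y from (1 : R.obj.obj Y))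
  refine Eq.trans ?_ this
  congr 1
  exact (mul_one c).symm

lemma sum_val_app' {M N : SheafOfModules.{u} R} {T : Type*} (s : Finset T) (φ : T → (M ⟶ N))
    (V : Cᵒᵖ) (a : M.val.obj V) :
    ((∑ x ∈ s, φ x).val.app V).hom a = ∑ x ∈ s, ((φ x).val.app V).hom a := by
  have h := (SheafOfModules.forget R ⋙ PresheafOfModules.evaluation _ V).map_sum φ s
  have h2 := congrArg (fun g : (SheafOfModules.forget R ⋙ PresheafOfModules.evaluation _ V).obj M ⟶
    (SheafOfModules.forget R ⋙ PresheafOfModules.evaluation _ V).obj N => g.hom a) h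
  simp only [ModuleCat.hom_sum] at h2
  exact h2.trans (LinearMap.sum_apply _ _ _)

/-- sections of a finite free module are combinations of the basis sections -/
lemma exists_sum_free {T : Type u} [Fintype T] (V : Cᵒᵖ)
    (a : (SheafOfModules.free (R := R) T).val.obj V) :
    ∃ b : T → R.obj.obj V, a = ∑ i, ((SheafOfModules.ιFree (R := R) i).val.app V).hom
      (show (SheafOfModules.unit R).val.obj V from b i) := by
  classical
  let G : T → SheafOfModules.{u} R := fun _ => SheafOfModules.unit R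
  have htot : ∑ i : T, Sigma.π G i ≫ Sigma.ι G i = 𝟙 (∐ G) := by
    apply Sigma.hom_ext
    intro y
    rw [Preadditive.comp_sum, Category.comp_id, Finset.sum_eq_single y]
    · rw [Sigma.ι_π_eq_id_assoc]
    · intro i _ hxy
      rw [Sigma.ι_π_of_ne_assoc G (Ne.symm hxy), zero_comp]
    · intro h
      exact absurd (Finset.mem_univ y) h
  refine ⟨fun i => ((Sigma.π G i).val.app V).hom a, ?_⟩
  have h1 := sum_val_app' Finset.univ (fun i : T => Sigma.π G i ≫ Sigma.ι G i) V a
  rw [htot] at h1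
  exact h1

end GeneralSite

section Main

variable {O}
variable (F : ModSite.Mod O) {U : Opens X} {T : Type u}

/-- the section of `F|_U` given by an element of `F(U)` -/
noncomputable def secOf (t : F.val.obj (op U)) : (F.over U).sections :=
  PresheafOfModules.sectionsMk
    (fun Y => (show (F.over U).val.obj Y from F.val.map Y.unop.hom.op t))
    (fun Y Z f => by
      change F.val.map f.unop.left.op (F.val.map Y.unop.hom.op t) = F.val.map Z.unop.hom.op t
      rw [← PresheafOfModules.map_comp_apply, ← op_comp, Over.w])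

lemma secOf_val (t : F.val.obj (op U)) (Y : (Over U)ᵒᵖ) :
    (secOf F t).val Y = F.val.map Y.unop.hom.op t := rfl

/-- the map `O_U^T ⟶ F|_U` given by a family of elements of `F(U)` -/
noncomputable def phi (s : T → F.val.obj (op U)) : SheafOfModules.free T ⟶ F.over U :=
  (F.over U).freeHomEquiv.symm (fun i => secOf F (s i))

lemma phi_ι (s : T → F.val.obj (op U)) (i : T) (Y : (Over U)ᵒᵖ)
    (c : ((ringSh O).over U).obj.obj Y) :
    ((phi F s).val.app Y).hom (((SheafOfModules.ιFree i).val.app Y).hom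
      (show (SheafOfModules.unit ((ringSh O).over U)).val.obj Y from c)) =
      c • (show (F.over U).val.obj Y from F.val.map Y.unop.hom.op (s i)) := by
  have h1 : SheafOfModules.ιFree i ≫ phi F s = (F.over U).unitHomEquiv.symm (secOf F (s i)) := by
    rw [← SheafOfModules.unitHomEquiv_symm_freeHomEquiv_apply]
    congr 1
    exact congrFun (Equiv.apply_symm_apply (F.over U).freeHomEquiv _) i
  have h2 := unit_app_eq_smul ((F.over U).unitHomEquiv.symm (secOf F (s i))) Y c
  rw [Equiv.apply_symm_apply] at h2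
  rw [← h1] at h2
  exact h2

lemma phi_sum [Fintype T] (s : T → F.val.obj (op U)) (Y : (Over U)ᵒᵖ)
    (b : T → ((ringSh O).over U).obj.obj Y) :
    ((phi F s).val.app Y).hom (∑ i, ((SheafOfModules.ιFree i).val.app Y).hom
      (show (SheafOfModules.unit ((ringSh O).over U)).val.obj Y from b i)) =
      ∑ i, b i • (show (F.over U).val.obj Y from F.val.map Y.unop.hom.op (s i)) := by
  rw [map_sum]
  exact Finset.sum_congr rfl (fun i _ => phi_ι F s i Y (b i))

/-- the same sum, computed in `F(Y.left)` -/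
lemma sum_smul_eq [Fintype T] (s : T → F.val.obj (op U)) (Y : Over U)
    (b : T → O.obj.obj (op Y.left)) :
    (∑ i, (show ((ringSh O).over U).obj.obj (op Y) from b i) •
      (show (F.over U).val.obj (op Y) from F.val.map Y.hom.op (s i))) =
    (show (F.over U).val.obj (op Y) from
      (∑ i, (show (ringSh O).obj.obj (op Y.left) from b i) •
        (show sect F Y.left from F.val.map Y.hom.op (s i)) : sect F Y.left)) := rfl

variable {x}

lemma germ_smul' (W : Opens X) (hW : x ∈ W) (r : O.obj.obj (op W)) (t : sect F W) :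
    germ (Opens.pointGrothendieckTopology x) F W ⟨⟨hW⟩⟩
      ((show (ringSh O).obj.obj (op W) from r) • t) =
    germRing (Opens.pointGrothendieckTopology x) W ⟨⟨hW⟩⟩ r •
      germ (Opens.pointGrothendieckTopology x) F W ⟨⟨hW⟩⟩ t :=
  germ_smul (Opens.pointGrothendieckTopology x) F W ⟨⟨hW⟩⟩ r t

lemma germ_comb [Fintype T] (s : T → F.val.obj (op U)) (hU : x ∈ U) (Y : Over U) (hY : x ∈ Y.left)
    (b : T → O.obj.obj (op Y.left)) :
    germ (Opens.pointGrothendieckTopology x) F Y.left ⟨⟨hY⟩⟩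
      (∑ i, (show (ringSh O).obj.obj (op Y.left) from b i) •
        (show sect F Y.left from F.val.map Y.hom.op (s i)) : sect F Y.left) =
    ∑ i, germRing (Opens.pointGrothendieckTopology x) Y.left ⟨⟨hY⟩⟩ (b i) •
      germ (Opens.pointGrothendieckTopology x) F U ⟨⟨hU⟩⟩ (s i) := by
  have h := map_sum
    ((Opens.pointGrothendieckTopology x).toPresheafFiber Y.left ⟨⟨hY⟩⟩ (toAb F).obj).hom
    (fun i => (show (toAb F).obj.obj (op Y.left) from
      ((show (ringSh O).obj.obj (op Y.left) from b i) •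
        (show sect F Y.left from F.val.map Y.hom.op (s i)) : sect F Y.left))) Finset.univ
  refine Eq.trans ?_ (h.trans ?_)
  · rfl
  refine Finset.sum_congr rfl (fun i _ => ?_)
  refine (germ_smul' F Y.left hY (b i) _).trans ?_
  congr 1
  exact germ_res O x F Y.hom hY hU (s i)

end Main

section LinAlg

lemma sum_smul_symm_single {K : Type*} [CommRing K] {M : Type*} [AddCommGroup M] [Module K M]
    {T : Type*} [Fintype T] [DecidableEq T] (e : M ≃ₗ[K] (T → K)) (a : T → K) :
    ∑ i, a i • e.symm (Pi.single i 1) = e.symm a := by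
  have h : a = ∑ i, a i • (Pi.single i (1 : K) : T → K) := by
    ext j
    simp [Finset.sum_apply, Pi.single_apply]
  conv_rhs => rw [h]
  simp [map_sum, map_smul]

end LinAlg

section Main2

variable {O} {x}
variable (F : ModSite.Mod O) {U : Opens X} (hU : x ∈ U) {T : Type u} [Fintype T] [DecidableEq T]
  (s : T → F.val.obj (op U))
  (e : stalkMod (Opens.pointGrothendieckTopology x) F ≃ₗ[stalkRing (Opens.pointGrothendieckTopology x) O]
    (T → stalkRing (Opens.pointGrothendieckTopology x) O))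
  (hs : ∀ i, germ (Opens.pointGrothendieckTopology x) F U ⟨⟨hU⟩⟩ (s i) = e.symm (Pi.single i 1))

include hs in
lemma germ_comb' (Y : Over U) (hY : x ∈ Y.left) (b : T → O.obj.obj (op Y.left)) :
    germ (Opens.pointGrothendieckTopology x) F Y.left ⟨⟨hY⟩⟩
      (∑ i, (show (ringSh O).obj.obj (op Y.left) from b i) •
        (show sect F Y.left from F.val.map Y.hom.op (s i)) : sect F Y.left) =
    e.symm (fun i => germRing (Opens.pointGrothendieckTopology x) Y.left ⟨⟨hY⟩⟩ (b i)) := by
  rw [germ_comb F s hU Y hY b, ← sum_smul_symm_single e]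
  exact Finset.sum_congr rfl (fun i _ => by rw [hs i])

include hs in
theorem injAt_phi : InjAt x (phi F s) := by
  intro Y hY a a' haa
  obtain ⟨b, hb⟩ := exists_sum_free (R := (ringSh O).over U) (op Y) (a - a')
  obtain ⟨b', hb'⟩ : ∃ b' : T → O.obj.obj (op Y.left), b' = b := ⟨b, rfl⟩
  have h0 : ((phi F s).val.app (op Y)).hom (a - a') = 0 := by
    rw [map_sub]
    exact sub_eq_zero.2 haa
  have h1 : (∑ i, b i • (show (F.over U).val.obj (op Y) from F.val.map Y.hom.op (s i))) = 0 := by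
    rw [← phi_sum F s (op Y) b, ← hb]
    exact h0
  have h2 : germ (Opens.pointGrothendieckTopology x) F Y.left ⟨⟨hY⟩⟩
      (∑ i, (show (ringSh O).obj.obj (op Y.left) from b' i) •
        (show sect F Y.left from F.val.map Y.hom.op (s i)) : sect F Y.left) = 0 := by
    have h3 : (∑ i, (show (ringSh O).obj.obj (op Y.left) from b' i) •
        (show sect F Y.left from F.val.map Y.hom.op (s i)) : sect F Y.left) = 0 := by
      rw [hb']
      exact h1
    rw [h3]
    exact map_zero _
  rw [germ_comb' F hU s e hs Y hY b'] at h2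
  have h4 : (fun i => germRing (Opens.pointGrothendieckTopology x) Y.left ⟨⟨hY⟩⟩ (b' i)) = 0 := by
    have := congrArg e h2
    rwa [LinearEquiv.apply_symm_apply, map_zero] at this
  have key : ∀ i : T, ∃ (V : Opens X) (k : V ⟶ Y.left), x ∈ V ∧ O.obj.map k.op (b' i) = 0 := by
    intro i
    have h5 : germRing (Opens.pointGrothendieckTopology x) Y.left ⟨⟨hY⟩⟩ (b' i) =
        germRing (Opens.pointGrothendieckTopology x) Y.left ⟨⟨hY⟩⟩ 0 := by
      rw [show germRing (Opens.pointGrothendieckTopology x) Y.left ⟨⟨hY⟩⟩ (b' i) = 0 from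
        congrFun h4 i]
      exact (map_zero _).symm
    obtain ⟨V, k, hV, hk⟩ := exists_res_eq_of_germRing_eq O x hY _ _ h5
    exact ⟨V, k, hV, hk.trans (map_zero _)⟩
  choose V k hV hk using key
  obtain ⟨V₀, hV₀, hle, hW₀⟩ : ∃ V₀ : Opens X, x ∈ V₀ ∧ (∀ i, V₀ ≤ V i) ∧ V₀ ≤ Y.left := by
    refine ⟨(⨅ i, V i) ⊓ Y.left, ⟨?_, hY⟩, fun i => inf_le_left.trans (iInf_le V i), inf_le_right⟩
    rw [SetLike.mem_coe, ← SetLike.mem_coe, Opens.coe_iInf]
    exact Set.mem_iInter.2 hV
  let Y' : Over U := Over.mk (homOfLE hW₀ ≫ Y.hom)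
  let kk : Y' ⟶ Y := Over.homMk (homOfLE hW₀) rfl
  refine ⟨Y', kk, hV₀, ?_⟩
  have h6 : (SheafOfModules.free (R := (ringSh O).over U) T).val.map kk.op (a - a') = 0 := by
    rw [hb, map_sum]
    refine Finset.sum_eq_zero (fun i _ => ?_)
    have nat := PresheafOfModules.naturality_apply
      (SheafOfModules.ιFree (R := (ringSh O).over U) i).val kk.op
      (show (SheafOfModules.unit ((ringSh O).over U)).val.obj (op Y) from b i)
    refine nat.symm.trans ?_
    have h7 : (SheafOfModules.unit ((ringSh O).over U)).val.map kk.op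
        (show (SheafOfModules.unit ((ringSh O).over U)).val.obj (op Y) from b i) = 0 := by
      have h8 : O.obj.map (homOfLE hW₀).op (b' i) = 0 := by
        have : (homOfLE hW₀ : V₀ ⟶ Y.left) = homOfLE (hle i) ≫ k i := Subsingleton.elim _ _
        rw [this, op_comp, Functor.map_comp]
        change O.obj.map (homOfLE (hle i)).op (O.obj.map (k i).op (b' i)) = 0
        rw [hk i]
        exact map_zero _
      rw [hb'] at h8
      exact h8
    rw [h7]
    exact map_zero _
  rw [map_sub] at h6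
  exact sub_eq_zero.1 h6

omit [DecidableEq T] in
lemma map_comb {W V : Opens X} (hWU : W ≤ U) (k : V ⟶ W) (b : T → O.obj.obj (op W)) :
    F.val.map k.op (∑ i, (show (ringSh O).obj.obj (op W) from b i) •
        (show sect F W from F.val.map (homOfLE hWU).op (s i)) : sect F W) =
      (∑ i, (show (ringSh O).obj.obj (op V) from O.obj.map k.op (b i)) •
        (show sect F V from F.val.map (k ≫ homOfLE hWU).op (s i)) : sect F V) := by
  rw [map_sum]
  refine Finset.sum_congr rfl (fun i _ => ?_)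
  refine (PresheafOfModules.map_smul F.val k.op _ _).trans ?_
  congr 1
  exact (PresheafOfModules.map_comp_apply F.val (homOfLE hWU).op k.op (s i)).symm

include hs in
theorem exists_epi_res_phi (hFG : FG (F.over U)) :
    ∃ (V : Opens X) (h : V ⟶ U), x ∈ V ∧ Epi ((res (ringSh O) h).map (phi F s)) := by
  obtain ⟨P, ⟨I, _, ⟨eI⟩⟩, p, _⟩ := hFG
  obtain ⟨π, hπ, _⟩ : ∃ π : SheafOfModules.free I ⟶ F.over U, π = eI.inv ≫ p ∧ Epi π :=
    ⟨_, rfl, inferInstance⟩
  have key : ∀ j : I, ∃ (V : Opens X) (k : V ⟶ U), x ∈ V ∧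
      liftSieve (phi F s) ((F.over U).freeHomEquiv π j) k := by
    intro j
    obtain ⟨t, ht⟩ : ∃ t : sect F U, t = ((F.over U).freeHomEquiv π j).val (op (Over.mk (𝟙 U))) :=
      ⟨_, rfl⟩
    have rep : ∀ i : T, ∃ (W : Opens X) (hW : x ∈ W) (r : O.obj.obj (op W)),
        germRing (Opens.pointGrothendieckTopology x) W ⟨⟨hW⟩⟩ r =
          e (germ (Opens.pointGrothendieckTopology x) F U ⟨⟨hU⟩⟩ t) i :=
      fun i => exists_germRing_eq O x _
    choose W hW rr hrr using rep
    obtain ⟨W₀, hW₀, hle, hWU⟩ : ∃ W₀ : Opens X, x ∈ W₀ ∧ (∀ i, W₀ ≤ W i) ∧ W₀ ≤ U := by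
      refine ⟨(⨅ i, W i) ⊓ U, ⟨?_, hU⟩, fun i => inf_le_left.trans (iInf_le W i), inf_le_right⟩
      rw [SetLike.mem_coe, ← SetLike.mem_coe, Opens.coe_iInf]
      exact Set.mem_iInter.2 hW
    have hb : ∀ i, germRing (Opens.pointGrothendieckTopology x) W₀ ⟨⟨hW₀⟩⟩
        (O.obj.map (homOfLE (hle i)).op (rr i)) =
          e (germ (Opens.pointGrothendieckTopology x) F U ⟨⟨hU⟩⟩ t) i :=
      fun i => (germRing_res O x (homOfLE (hle i)) hW₀ (hW i) (rr i)).trans (hrr i)
    have hg : germ (Opens.pointGrothendieckTopology x) F W₀ ⟨⟨hW₀⟩⟩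
        (∑ i, (show (ringSh O).obj.obj (op W₀) from O.obj.map (homOfLE (hle i)).op (rr i)) •
          (show sect F W₀ from F.val.map (homOfLE hWU).op (s i)) : sect F W₀) =
        germ (Opens.pointGrothendieckTopology x) F W₀ ⟨⟨hW₀⟩⟩ (F.val.map (homOfLE hWU).op t) := by
      rw [germ_res O x F (homOfLE hWU) hW₀ hU t]
      refine (germ_comb' F hU s e hs (Over.mk (homOfLE hWU)) hW₀
        (fun i => O.obj.map (homOfLE (hle i)).op (rr i))).trans ?_
      exact (congrArg e.symm (funext hb)).trans (e.symm_apply_apply _)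
    obtain ⟨V, k, hV, hk⟩ := exists_res_eq_of_germ_eq O x F hW₀ _ _ hg
    refine ⟨V, k ≫ homOfLE hWU, hV, ?_⟩
    rw [map_comb F s hWU k] at hk
    refine ⟨∑ i, ((SheafOfModules.ιFree (R := (ringSh O).over U) i).val.app
      (op (Over.mk (k ≫ homOfLE hWU)))).hom
        (show (SheafOfModules.unit ((ringSh O).over U)).val.obj (op (Over.mk (k ≫ homOfLE hWU))) from
          O.obj.map k.op (O.obj.map (homOfLE (hle i)).op (rr i))), ?_⟩
    refine (phi_sum F s (op (Over.mk (k ≫ homOfLE hWU))) _).trans ?_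
    refine (sum_smul_eq F s (Over.mk (k ≫ homOfLE hWU)) _).trans ?_
    refine hk.trans ?_
    have e1 := PresheafOfModules.sections_property ((F.over U).freeHomEquiv π j)
      (Over.homMk (k ≫ homOfLE hWU) : Over.mk (k ≫ homOfLE hWU) ⟶ Over.mk (𝟙 U)).op
    rw [← e1, ← ht]
    exact (PresheafOfModules.map_comp_apply F.val (homOfLE hWU).op k.op t).symm
  choose V k hV hk using key
  obtain ⟨V₀, hV₀, hle, hW₀⟩ : ∃ V₀ : Opens X, x ∈ V₀ ∧ (∀ i, V₀ ≤ V i) ∧ V₀ ≤ U := by
    refine ⟨(⨅ i, V i) ⊓ U, ⟨?_, hU⟩, fun i => inf_le_left.trans (iInf_le V i), inf_le_right⟩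
    rw [SetLike.mem_coe, ← SetLike.mem_coe, Opens.coe_iInf]
    exact Set.mem_iInter.2 hV
  have H : ∀ i, liftSieve (phi F s) ((F.over U).freeHomEquiv π i) (homOfLE hW₀) := by
    intro i
    have := (liftSieve (phi F s) ((F.over U).freeHomEquiv π i)).downward_closed (hk i)
      (homOfLE (hle i))
    rwa [Subsingleton.elim (homOfLE (hle i) ≫ k i) (homOfLE hW₀)] at this
  obtain ⟨q, hq⟩ := exists_lift_of_forall_mem (homOfLE hW₀) (phi F s) π H
  exact ⟨V₀, homOfLE hW₀, hV₀, epi_of_epi_fac hq⟩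

end Main2

section Final

variable {O}

/-- **A finitely presented module whose stalk at `x` is free of rank `r` is free of rank `r` on a
neighbourhood of `x`.** -/
theorem exists_free_restr (F : ModSite.Mod O)
    [hF : SheafOfModules.IsFinitePresentation (R := ringSh O) F] (x : X) (r : ℕ)
    (hx : Nonempty (stalkMod (Opens.pointGrothendieckTopology x) F
      ≃ₗ[stalkRing (Opens.pointGrothendieckTopology x) O]
        (Fin r → stalkRing (Opens.pointGrothendieckTopology x) O))) :
    ∃ U : Opens X, x ∈ U ∧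
      Nonempty ((ModSite.restr O U).obj F ≅ SheafOfModules.free (ULift.{u} (Fin r))) := by
  classical
  obtain ⟨e₀⟩ := hx
  let e : stalkMod (Opens.pointGrothendieckTopology x) F
      ≃ₗ[stalkRing (Opens.pointGrothendieckTopology x) O]
        (ULift.{u} (Fin r) → stalkRing (Opens.pointGrothendieckTopology x) O) :=
    e₀ ≪≫ₗ (LinearEquiv.funCongrLeft _ _ Equiv.ulift)
  rw [isFinitePresentation_iff] at hF
  obtain ⟨S, hS, hS'⟩ := hF ⊤
  obtain ⟨U₀, h₀, hh₀, hU₀⟩ := hS x (by trivial)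
  have hFP₀ : FP (F.over U₀) := hS' h₀ hh₀
  have rep : ∀ i : ULift.{u} (Fin r), ∃ (W : Opens X) (hW : x ∈ W) (s : sect F W),
      germ (Opens.pointGrothendieckTopology x) F W ⟨⟨hW⟩⟩ s = e.symm (Pi.single i 1) :=
    fun i => exists_germ_eq O x F _
  choose W hW s hs using rep
  obtain ⟨U, hU, hle, hUU₀⟩ : ∃ U : Opens X, x ∈ U ∧ (∀ i, U ≤ W i) ∧ U ≤ U₀ := by
    refine ⟨(⨅ i, W i) ⊓ U₀, ⟨?_, hU₀⟩, fun i => inf_le_left.trans (iInf_le W i), inf_le_right⟩
    rw [SetLike.mem_coe, ← SetLike.mem_coe, Opens.coe_iInf]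
    exact Set.mem_iInter.2 hW
  have hs' : ∀ i, germ (Opens.pointGrothendieckTopology x) F U ⟨⟨hU⟩⟩
      (F.val.map (homOfLE (hle i)).op (s i)) = e.symm (Pi.single i 1) :=
    fun i => (germ_res O x F (homOfLE (hle i)) hU (hW i) (s i)).trans (hs i)
  have hFPU : FP (F.over U) := FP.over_of_hom F (homOfLE hUU₀) hFP₀
  have hFGU : FG (F.over U) := by
    obtain ⟨P₁, P₀, h₁, h₀, ρ, p, w, hT, hp⟩ := hFPU
    exact ⟨P₀, h₀, p, hp⟩
  have hInj := injAt_phi F hU (fun i => F.val.map (homOfLE (hle i)).op (s i)) e hs'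
  have hEpi := exists_epi_res_phi F hU (fun i => F.val.map (homOfLE (hle i)).op (s i)) e hs' hFGU
  have triv := triv_of_injAt hU (ULift.{u} (Fin r)) (Iso.refl _)
    (phi F (fun i => F.val.map (homOfLE (hle i)).op (s i))) hInj
    (fun V h _ => hFPU.res h) hEpi
  exact Triv.exists_iso F triv (Iso.refl _)

end Final

end Groth.Agent.Lib.Helper19.ModFreeStalk
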