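import Groth.Agent.Lib.Helper19.ModFP

/-!
# Generators and presentations with index types in a class `c` (helper19)

Namespace `Groth.Agent.Lib.Helper19.ModGenC`.  For `c = fun I => Finite I` these are the predicates
`FreeFin / FG / FP` of `ModFG`; for `c = fun _ => True` they describe local generation,
quasi-coherence and local freeness.
-/

set_option autoImplicit false
set_option linter.unusedSectionVars false
set_option linter.style.haveILetI false
universe u
open CategoryTheory CategoryTheory.Limits Opposite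

namespace Groth.Agent.Lib.Helper19.ModGenC

open Groth.Agent.Lib.Helper19.ModRes Groth.Agent.Lib.Helper19.ModLift
  Groth.Agent.Lib.Helper19.AbGen Groth.Agent.Lib.Helper19.ModFG Groth.Agent.Lib.Helper19.ModFP

section General

variable {C : Type u} [SmallCategory C] {J : GrothendieckTopology C} {R : Sheaf J RingCat.{u}}
  (c : Type u → Prop)

/-- free on an index type in the class `c` -/
def FreeC (P : SheafOfModules.{u} R) : Prop :=
  ∃ (I : Type u) (_ : c I), Nonempty (P ≅ SheafOfModules.free I)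

/-- generated by a family of global sections indexed by a type in `c` -/
def GenC (A : SheafOfModules.{u} R) : Prop :=
  ∃ (P : SheafOfModules.{u} R) (_ : FreeC c P) (p : P ⟶ A), Epi p

/-- presented by generators and relations indexed by types in `c` -/
def PresC (A : SheafOfModules.{u} R) : Prop :=
  ∃ (P₁ P₀ : SheafOfModules.{u} R) (_ : FreeC c P₁) (_ : FreeC c P₀) (ρ : P₁ ⟶ P₀) (p : P₀ ⟶ A)
    (w : ρ ≫ p = 0), (ShortComplex.mk ρ p w).Exact ∧ Epi p

lemma freeFin_iff (P : SheafOfModules.{u} R) : FreeFin P ↔ FreeC (fun I => Finite I) P := Iff.rfl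

lemma FG_iff_genC (A : SheafOfModules.{u} R) : FG A ↔ GenC (fun I => Finite I) A := Iff.rfl

lemma FP_iff_presC (A : SheafOfModules.{u} R) : FP A ↔ PresC (fun I => Finite I) A := Iff.rfl

variable {c}

lemma FreeC.of_iso {P Q : SheafOfModules.{u} R} (hP : FreeC c P) (e : P ≅ Q) : FreeC c Q := by
  obtain ⟨I, hI, ⟨e'⟩⟩ := hP
  exact ⟨I, hI, ⟨e.symm ≪≫ e'⟩⟩

lemma GenC.of_epi {A B : SheafOfModules.{u} R} (hA : GenC c A) (f : A ⟶ B) [Epi f] :
    GenC c B := by
  obtain ⟨P, hP, p, _⟩ := hA
  exact ⟨P, hP, p ≫ f, inferInstance⟩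

lemma GenC.of_iso {A B : SheafOfModules.{u} R} (hA : GenC c A) (e : A ≅ B) : GenC c B :=
  hA.of_epi e.hom

lemma PresC.of_iso {A B : SheafOfModules.{u} R} (hA : PresC c A) (e : A ≅ B) : PresC c B := by
  obtain ⟨P₁, P₀, h₁, h₀, ρ, p, w, hT, _⟩ := hA
  have w' : ρ ≫ p ≫ e.hom = 0 := by rw [reassoc_of% w, zero_comp]
  refine ⟨P₁, P₀, h₁, h₀, ρ, p ≫ e.hom, w', ?_, inferInstance⟩
  exact ShortComplex.exact_of_iso
    (ShortComplex.isoMk (S₁ := ShortComplex.mk ρ p w) (S₂ := ShortComplex.mk ρ (p ≫ e.hom) w')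
      (Iso.refl _) (Iso.refl _) e (by simp) (by simp)) hT

lemma genC_iff (A : SheafOfModules.{u} R) :
    GenC (fun _ => True) A ↔ Nonempty A.GeneratingSections := by
  constructor
  · rintro ⟨P, ⟨I, -, ⟨e⟩⟩, p, hp⟩
    refine ⟨{ I := I, s := A.freeHomEquiv (e.inv ≫ p), epi := ?_ }⟩
    rw [Equiv.symm_apply_apply]
    infer_instance
  · rintro ⟨σ⟩
    exact ⟨SheafOfModules.free σ.I, ⟨σ.I, trivial, ⟨Iso.refl _⟩⟩, σ.π, σ.epi⟩

lemma presC_iff (A : SheafOfModules.{u} R) :
    PresC (fun _ => True) A ↔ Nonempty A.Presentation := by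
  constructor
  · rintro ⟨P₁, P₀, ⟨I₁, -, ⟨e₁⟩⟩, ⟨I₀, -, ⟨e₀⟩⟩, ρ, p, w, hT, hp⟩
    have w' : (e₁.inv ≫ ρ ≫ e₀.hom) ≫ (e₀.inv ≫ p) = 0 := by simp [w]
    have H' : IsColimit (CokernelCofork.ofπ (e₀.inv ≫ p) w') :=
      isColimitTransport ρ p w hT.gIsCokernel _ _ w' e₁ e₀ (Iso.refl _) (by simp) (by simp)
    exact ⟨SheafOfModules.presentationOfIsCokernelFree _ _ w' H'⟩
  · rintro ⟨P⟩
    exact ⟨_, _, ⟨P.relations.I, trivial, ⟨Iso.refl _⟩⟩, ⟨P.generators.I, trivial, ⟨Iso.refl _⟩⟩,
      (SheafOfModules.freeHomEquiv _).symm P.relations.s ≫ (kernel.ι _), P.generators.π,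
      by simp, ShortComplex.exact_of_g_is_cokernel _ P.isColimit, inferInstance⟩

end General

section Functor

variable {C : Type u} [SmallCategory C] {J : GrothendieckTopology C} {R : Sheaf J RingCat.{u}}
  {D : Type u} [SmallCategory D] {K : GrothendieckTopology D} {S : Sheaf K RingCat.{u}}
  {c : Type u → Prop}
  (F : SheafOfModules.{u} R ⥤ SheafOfModules.{u} S) [PreservesColimitsOfSize.{u, u} F]
  (η : SheafOfModules.unit S ≅ F.obj (SheafOfModules.unit R))

include η in
lemma FreeC.map {P : SheafOfModules.{u} R} (hP : FreeC c P) : FreeC c (F.obj P) := by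
  obtain ⟨I, hI, ⟨e⟩⟩ := hP
  exact ⟨I, hI, ⟨F.mapIso e ≪≫ (SheafOfModules.mapFreeIso F I η).symm⟩⟩

include η in
lemma GenC.map {A : SheafOfModules.{u} R} (hA : GenC c A) : GenC c (F.obj A) := by
  obtain ⟨P, hP, p, _⟩ := hA
  exact ⟨F.obj P, hP.map F η, F.map p, inferInstance⟩

include η in
lemma PresC.map [PreservesFiniteLimits F] [F.PreservesZeroMorphisms] {A : SheafOfModules.{u} R}
    (hA : PresC c A) : PresC c (F.obj A) := by
  obtain ⟨P₁, P₀, h₁, h₀, ρ, p, w, hT, _⟩ := hA
  haveI : PreservesFiniteColimits F := PreservesColimitsOfSize.preservesFiniteColimits F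
  exact ⟨F.obj P₁, F.obj P₀, h₁.map F η, h₀.map F η, F.map ρ, F.map p,
    by rw [← F.map_comp, w, F.map_zero], hT.map F, inferInstance⟩

end Functor

section Local

variable {C : Type u} [SmallCategory C] [HasPullbacks C] {J : GrothendieckTopology C}
  {R : Sheaf J RingCat.{u}} {c : Type u → Prop}

lemma FreeC.over_of_hom (M : SheafOfModules.{u} R) {U W : C} (h : W ⟶ U)
    (hM : FreeC c (M.over U)) : FreeC c (M.over W) :=
  (hM.map (ModRes.res R h) (SheafOfModules.overMapUnitIso h).symm).of_iso (resOverIso h M)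

lemma GenC.over_of_hom (M : SheafOfModules.{u} R) {U W : C} (h : W ⟶ U)
    (hM : GenC c (M.over U)) : GenC c (M.over W) :=
  (hM.map (ModRes.res R h) (SheafOfModules.overMapUnitIso h).symm).of_iso (resOverIso h M)

lemma PresC.over_of_hom (M : SheafOfModules.{u} R) {U W : C} (h : W ⟶ U)
    (hM : PresC c (M.over U)) : PresC c (M.over W) :=
  (hM.map (ModRes.res R h) (SheafOfModules.overMapUnitIso h).symm).of_iso (resOverIso h M)

/-- a property of slices holds locally -/
def Loc (Q : ∀ W : C, SheafOfModules.{u} (R.over W) → Prop) (M : SheafOfModules.{u} R) : Prop :=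
  ∀ U : C, ∃ S ∈ J U, ∀ {W : C} (h : W ⟶ U), S h → Q W (M.over W)

theorem nonempty_localGeneratorsData_iff (M : SheafOfModules.{u} R) :
    Nonempty (SheafOfModules.LocalGeneratorsData.{u} M) ↔
      Loc (fun _ A => GenC (fun _ => True) A) M := by
  constructor
  · rintro ⟨σ⟩ U
    refine ⟨Sieve.ofObjects σ.X U, σ.coversTop U, ?_⟩
    intro W h hh
    obtain ⟨i, ⟨k⟩⟩ := (Sieve.mem_ofObjects_iff ..).mp hh
    exact GenC.over_of_hom M k ((genC_iff _).2 ⟨σ.generators i⟩)
  · intro H
    choose S hS hS' using H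
    let I : Type u := {W : C // GenC (fun _ => True) (M.over W)}
    have hI : ∀ i : I, Nonempty (M.over i.1).GeneratingSections := fun i => (genC_iff _).1 i.2
    have hcov : J.CoversTop (Subtype.val : I → C) := by
      intro U
      refine J.superset_covering ?_ (hS U)
      intro W h hh
      exact (Sieve.mem_ofObjects_iff ..).mpr ⟨⟨W, hS' U h hh⟩, ⟨𝟙 W⟩⟩
    exact ⟨{ I := I, X := Subtype.val, coversTop := hcov, generators := fun i => (hI i).some }⟩

theorem isQuasicoherent_iff (M : SheafOfModules.{u} R) :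
    M.IsQuasicoherent ↔ Loc (fun _ A => PresC (fun _ => True) A) M := by
  constructor
  · rintro ⟨⟨σ⟩⟩ U
    refine ⟨Sieve.ofObjects σ.X U, σ.coversTop U, ?_⟩
    intro W h hh
    obtain ⟨i, ⟨k⟩⟩ := (Sieve.mem_ofObjects_iff ..).mp hh
    exact PresC.over_of_hom M k ((presC_iff _).2 ⟨σ.presentation i⟩)
  · intro H
    choose S hS hS' using H
    let I : Type u := {W : C // PresC (fun _ => True) (M.over W)}
    have hI : ∀ i : I, Nonempty (M.over i.1).Presentation := fun i => (presC_iff _).1 i.2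
    have hcov : J.CoversTop (Subtype.val : I → C) := by
      intro U
      refine J.superset_covering ?_ (hS U)
      intro W h hh
      exact (Sieve.mem_ofObjects_iff ..).mpr ⟨⟨W, hS' U h hh⟩, ⟨𝟙 W⟩⟩
    let τ : SheafOfModules.QuasicoherentData.{u, u, u, u} M :=
      { I := I, X := Subtype.val, coversTop := hcov, presentation := fun i => (hI i).some }
    constructor
    exact ⟨τ⟩

theorem isLocallyFree_iff (M : SheafOfModules.{u} R) :
    M.IsLocallyFree ↔ Loc (fun _ A => FreeC (fun _ => True) A) M := by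
  constructor
  · rintro ⟨σ, hσ⟩ U
    refine ⟨Sieve.ofObjects σ.X U, σ.coversTop U, ?_⟩
    intro W h hh
    obtain ⟨i, ⟨k⟩⟩ := (Sieve.mem_ofObjects_iff ..).mp hh
    haveI := hσ.isIso i
    exact FreeC.over_of_hom M k ⟨_, trivial, ⟨(asIso (σ.generators i).π).symm⟩⟩
  · intro H
    choose S hS hS' using H
    let I : Type u := {W : C // FreeC (fun _ => True) (M.over W)}
    have hI : ∀ i : I, ∃ σ : (M.over i.1).GeneratingSections, IsIso σ.π := by
      rintro ⟨W, K, -, ⟨e⟩⟩
      refine ⟨{ I := K, s := (M.over W).freeHomEquiv e.inv, epi := ?_ }, ?_⟩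
      · rw [Equiv.symm_apply_apply]
        infer_instance
      · change IsIso ((M.over W).freeHomEquiv.symm ((M.over W).freeHomEquiv e.inv))
        rw [Equiv.symm_apply_apply]
        infer_instance
    choose σ hσ using hI
    have hcov : J.CoversTop (Subtype.val : I → C) := by
      intro U
      refine J.superset_covering ?_ (hS U)
      intro W h hh
      exact (Sieve.mem_ofObjects_iff ..).mpr ⟨⟨W, hS' U h hh⟩, ⟨𝟙 W⟩⟩
    let τ : SheafOfModules.LocalGeneratorsData.{u} M :=
      { I := I, X := Subtype.val, coversTop := hcov, generators := σ }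
    have hτ : τ.IsLocallyFreeData := by
      constructor
      exact hσ
    constructor
    exact ⟨τ, hτ⟩

end Local

end Groth.Agent.Lib.Helper19.ModGenC
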