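import Groth.Agent.Lib.Helper19.ModRes
import Groth.Agent.Lib.Helper94.ModSiteBasic

/-!
# Local lifting of maps out of finite free modules along epimorphisms (helper19)

Namespace `Groth.Agent.Lib.Helper19.ModLift`.
-/

set_option autoImplicit false
set_option linter.unusedSectionVars false
set_option linter.style.haveILetI false
universe u
open CategoryTheory CategoryTheory.Limits Opposite

namespace Groth.Agent.Lib.Helper19.ModLift

open Groth.Agent.Lib.Helper19.ModRes

variable {C : Type u} [SmallCategory C] [HasPullbacks C] {J : GrothendieckTopology C}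
  {R : Sheaf J RingCat.{u}}

/-- the section of the restriction to `C/W` determined by an element over `W` -/
noncomputable def sectOfElt {U W : C} (h : W ⟶ U) {A : SheafOfModules.{u} (R.over U)}
    (a : A.val.obj (op (Over.mk h))) : ((res R h).obj A).sections :=
  PresheafOfModules.sectionsMk
    (fun Y => A.val.map (Over.homMk Y.unop.hom : (Over.map h).obj Y.unop ⟶ Over.mk h).op a)
    (fun Y Z f => by
      change A.val.map ((Over.map h).map f.unop).op
        (A.val.map (Over.homMk Y.unop.hom : (Over.map h).obj Y.unop ⟶ Over.mk h).op a) = _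
      rw [← PresheafOfModules.map_comp_apply]
      exact A.val.congr_map_apply (by rw [← op_comp]; congr 1; ext; simp) a)

lemma sectOfElt_sectionsMap {U W : C} (h : W ⟶ U) {A B : SheafOfModules.{u} (R.over U)}
    (g : A ⟶ B) (a : A.val.obj (op (Over.mk h))) :
    SheafOfModules.sectionsMap ((res R h).map g) (sectOfElt h a) =
      sectOfElt h (g.val.app _ a) := by
  ext Y
  exact PresheafOfModules.naturality_apply g.val
    (Over.homMk Y.unop.hom : (Over.map h).obj Y.unop ⟶ Over.mk h).op a

lemma resSec_eq_sectOfElt {U W : C} (h : W ⟶ U) {A : SheafOfModules.{u} (R.over U)}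
    (t : A.sections) : resSec h t = sectOfElt h (t.val (op (Over.mk h))) := by
  ext Y
  exact (PresheafOfModules.sections_property t
    (Over.homMk Y.unop.hom : (Over.map h).obj Y.unop ⟶ Over.mk h).op).symm

/-- the sieve of `h : W ⟶ U` over which the section `t` lifts along `g` -/
def liftSieve {U : C} {A B : SheafOfModules.{u} (R.over U)} (g : A ⟶ B) (t : B.sections) :
    Sieve U where
  arrows W h := ∃ a : A.val.obj (op (Over.mk h)), g.val.app _ a = t.val (op (Over.mk h))
  downward_closed := by
    rintro W W' h ⟨a, ha⟩ k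
    refine ⟨A.val.map (Over.homMk k : Over.mk (k ≫ h) ⟶ Over.mk h).op a, ?_⟩
    rw [PresheafOfModules.naturality_apply, ha]
    exact PresheafOfModules.sections_property t _

theorem liftSieve_mem {U : C} {A B : SheafOfModules.{u} (R.over U)} (g : A ⟶ B) [Epi g]
    (t : B.sections) : liftSieve g t ∈ J U := by
  haveI := Groth.Agent.Lib.Helper94.ModSiteBasic.toSheaf_preservesFiniteColimits (R.over U)
  have h1 : Epi ((SheafOfModules.toSheaf (R.over U)).map g) := inferInstance
  have h2 : Sheaf.IsLocallySurjective ((SheafOfModules.toSheaf (R.over U)).map g) :=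
    (Sheaf.isLocallySurjective_iff_epi' (A := AddCommGrpCat.{u}) _).2 h1
  have h3 := Presheaf.imageSieve_mem (J.over U) ((SheafOfModules.toSheaf (R.over U)).map g).hom
    (U := op (Over.mk (𝟙 U))) (t.val (op (Over.mk (𝟙 U))))
  rw [GrothendieckTopology.mem_over_iff] at h3
  refine J.superset_covering ?_ h3
  intro W h hh
  rw [Sieve.overEquiv_iff] at hh
  obtain ⟨a0, ha0⟩ := hh
  obtain ⟨a, ha⟩ : ∃ a : A.val.obj (op (Over.mk (h ≫ 𝟙 U))), g.val.app _ a =
      B.val.map (Over.homMk h : Over.mk (h ≫ 𝟙 U) ⟶ Over.mk (𝟙 U)).op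
        (t.val (op (Over.mk (𝟙 U)))) := ⟨a0, ha0⟩
  refine ⟨A.val.map (Over.homMk (𝟙 W) : Over.mk h ⟶ Over.mk (h ≫ 𝟙 U)).op a, ?_⟩
  rw [PresheafOfModules.naturality_apply, ha, PresheafOfModules.sections_property,
    PresheafOfModules.sections_property]

omit [HasPullbacks C] in
/-- a finite intersection of covering sieves is covering -/
lemma exists_covering_forall {X : C} {I : Type*} [Finite I] (S : I → Sieve X)
    (hS : ∀ i, S i ∈ J X) : ∃ T ∈ J X, ∀ {W : C} (h : W ⟶ X), T h → ∀ i, S i h := by
  classical
  cases nonempty_fintype I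
  have key : ∀ s : Finset I, ∃ T ∈ J X, ∀ {W : C} (h : W ⟶ X), T h → ∀ i ∈ s, S i h := by
    intro s
    induction s using Finset.induction_on with
    | empty => exact ⟨⊤, J.top_mem X, by simp⟩
    | insert i s hi ih =>
      obtain ⟨T, hT, hT'⟩ := ih
      refine ⟨S i ⊓ T, J.intersection_covering (hS i) hT, ?_⟩
      intro W h hh j hj
      rw [Sieve.inter_apply] at hh
      rcases Finset.mem_insert.1 hj with rfl | hj
      · exact hh.1
      · exact hT' h hh.2 j hj
  obtain ⟨T, hT, hT'⟩ := key Finset.univ
  exact ⟨T, hT, fun h hh i => hT' h hh i (Finset.mem_univ i)⟩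

/-- **Local lifting**: a map from a finite free module lifts along an epimorphism on a
covering. -/
theorem exists_lift {U : C} {A B : SheafOfModules.{u} (R.over U)} (g : A ⟶ B) [Epi g]
    {I : Type u} [Finite I] (π : SheafOfModules.free I ⟶ B) :
    ∃ S ∈ J U, ∀ {W : C} (h : W ⟶ U), S h →
      ∃ q : SheafOfModules.free I ⟶ (res R h).obj A, q ≫ (res R h).map g = resFree h π := by
  obtain ⟨T, hT, hT'⟩ := exists_covering_forall (J := J)
    (fun i => liftSieve g (B.freeHomEquiv π i)) (fun i => liftSieve_mem g _)
  refine ⟨T, hT, ?_⟩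
  intro W h hh
  choose a ha using hT' h hh
  refine ⟨((res R h).obj A).freeHomEquiv.symm (fun i => sectOfElt h (a i)), ?_⟩
  apply ((res R h).obj B).freeHomEquiv.injective
  funext i
  rw [SheafOfModules.freeHomEquiv_comp_apply, Equiv.apply_symm_apply, freeHomEquiv_resFree,
    sectOfElt_sectionsMap, ha, resSec_eq_sectOfElt]

end Groth.Agent.Lib.Helper19.ModLift
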