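import Groth.Agent.Lib.Helper19.ModRank

/-!
# Finite type for modules on a ringed space, in terms of plain sections (helper19)

Namespace `Groth.Agent.Lib.Helper19.ModPlainFG`.

* `Gen M U t`: the finite family `t` of sections of `M` over `U` generates `M|_U` (every section
  over a smaller open is, locally, a combination of the restrictions of the `t j`).
* `fg_over_iff`: `FG (M.over U) ↔ ∃ T t, Gen M U t`.
* `isFiniteType_iff_forall_point`, `isFiniteType_iff_gen`.
-/

set_option autoImplicit false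
set_option linter.unusedSectionVars false
set_option linter.style.haveILetI false
universe u
open CategoryTheory CategoryTheory.Limits Opposite TopologicalSpace

namespace Groth.Agent.Lib.Helper19.ModPlainFG

open Groth.Agent.Lib.Helper19.ModRes Groth.Agent.Lib.Helper19.ModLift
  Groth.Agent.Lib.Helper19.AbGen Groth.Agent.Lib.Helper19.ModFG Groth.Agent.Lib.Helper19.ModFP
  Groth.Agent.Lib.Helper19.ModStalkLift Groth.Agent.Lib.Helper19.ModLocFree
  Groth.Agent.Lib.Helper19.ModFreeNear Groth.Agent.Lib.Helper19.ModFreeStalk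
  Groth.Agent.Lib.Helper19.ModSummandFree Groth.Agent.Lib.Helper19.ModCoprodSect
open ModSite

variable {X : TopCat.{u}} {O : Sheaf (Opens.grothendieckTopology X) CommRingCat.{u}}

/-- the finite family `t` of sections over `U` generates `M|_U` -/
def Gen (M : ModSite.Mod O) (U : Opens X) {T : Type u} [Fintype T]
    (t : T → M.val.obj (op U)) : Prop :=
  ∀ (U' : Opens X) (h : U' ⟶ U) (s : M.val.obj (op U')) (y : X), y ∈ U' →
    ∃ (U'' : Opens X) (k : U'' ⟶ U') (_ : y ∈ U'') (c : T → O.obj.obj (op U'')),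
      M.val.map k.op s = (∑ j, (show (ringSh O).obj.obj (op U'') from c j) •
        (show sect M U'' from M.val.map (k ≫ h).op (t j)) : sect M U'')

theorem gen_of_fg (M : ModSite.Mod O) (U : Opens X) (hM : FG (M.over U)) :
    ∃ (T : Type u) (_ : Fintype T) (t : T → M.val.obj (op U)), Gen M U t := by
  obtain ⟨P, ⟨I, hI, ⟨eI⟩⟩, p, _⟩ := hM
  haveI : Fintype I := Fintype.ofFinite I
  obtain ⟨π, hπ, _⟩ : ∃ π : SheafOfModules.free I ⟶ M.over U, π = eI.inv ≫ p ∧ Epi π :=
    ⟨_, rfl, inferInstance⟩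
  refine ⟨I, inferInstance, fun i => valTop M ((M.over U).freeHomEquiv π i), ?_⟩
  have hπ' := eq_phi M π
  intro U' h s y hy
  haveI := Groth.Agent.Lib.Helper94.ModSiteBasic.toSheaf_preservesFiniteColimits
    ((ringSh O).over U)
  have h1 : Epi ((SheafOfModules.toSheaf ((ringSh O).over U)).map π) := inferInstance
  have h2 : Sheaf.IsLocallySurjective ((SheafOfModules.toSheaf ((ringSh O).over U)).map π) :=
    (Sheaf.isLocallySurjective_iff_epi' (A := AddCommGrpCat.{u}) _).2 h1
  have h3 := Presheaf.imageSieve_mem ((Opens.grothendieckTopology X).over U)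
    ((SheafOfModules.toSheaf ((ringSh O).over U)).map π).hom
    (U := op (Over.mk h)) s
  rw [GrothendieckTopology.mem_over_iff] at h3
  obtain ⟨U'', k, hk, hy''⟩ := h3 y hy
  rw [Sieve.overEquiv_iff] at hk
  obtain ⟨a0, ha0⟩ := hk
  obtain ⟨a, ha⟩ : ∃ a : (SheafOfModules.free (R := (ringSh O).over U) I).val.obj
      (op (Over.mk (k ≫ h))), (π.val.app _).hom a = M.val.map k.op s := ⟨a0, ha0⟩
  obtain ⟨b, hb⟩ := exists_sum_free (op (Over.mk (k ≫ h))) a
  refine ⟨U'', k, hy'', b, ?_⟩
  rw [← ha, hb]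
  have h4 := phi_sum M (fun i => valTop M ((M.over U).freeHomEquiv π i)) (op (Over.mk (k ≫ h))) b
  rw [← hπ'] at h4
  exact h4.trans (sum_smul_eq M _ (Over.mk (k ≫ h)) b)

theorem fg_of_gen (M : ModSite.Mod O) (U : Opens X) {T : Type u} [Fintype T]
    (t : T → M.val.obj (op U)) (ht : Gen M U t) : FG (M.over U) := by
  refine ⟨SheafOfModules.free T, freeFin_free T, phi M t, ?_⟩
  haveI : (SheafOfModules.toSheaf ((ringSh O).over U)).Faithful := inferInstance
  haveI : (SheafOfModules.toSheaf ((ringSh O).over U)).ReflectsEpimorphisms :=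
    Functor.reflectsEpimorphisms_of_faithful _
  apply (SheafOfModules.toSheaf ((ringSh O).over U)).epi_of_epi_map
  apply (Sheaf.isLocallySurjective_iff_epi' (A := AddCommGrpCat.{u}) _).1
  constructor
  intro Y s
  obtain ⟨s₁, hs₁⟩ : ∃ s₁ : M.val.obj (op Y.left), s₁ = s := ⟨s, rfl⟩
  rw [GrothendieckTopology.mem_over_iff]
  intro y hy
  obtain ⟨U'', k, hy'', c, hc⟩ := ht Y.left Y.hom s₁ y hy
  refine ⟨U'', k, ?_, hy''⟩
  rw [Sieve.overEquiv_iff]
  refine ⟨∑ i, ((SheafOfModules.ιFree (R := (ringSh O).over U) i).val.app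
    (op (Over.mk (k ≫ Y.hom)))).hom
      (show (SheafOfModules.unit ((ringSh O).over U)).val.obj (op (Over.mk (k ≫ Y.hom))) from
        c i), ?_⟩
  refine (phi_sum M t (op (Over.mk (k ≫ Y.hom))) _).trans ?_
  refine (sum_smul_eq M t (Over.mk (k ≫ Y.hom)) _).trans ?_
  rw [← hs₁]
  exact hc.symm

theorem fg_over_iff (M : ModSite.Mod O) (U : Opens X) :
    FG (M.over U) ↔ ∃ (T : Type u) (_ : Fintype T) (t : T → M.val.obj (op U)), Gen M U t :=
  ⟨gen_of_fg M U, fun ⟨_, _, t, ht⟩ => fg_of_gen M U t ht⟩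

theorem isFiniteType_iff_forall_point (M : ModSite.Mod O) :
    SheafOfModules.IsFiniteType (R := ringSh O) M ↔
      ∀ x : X, ∃ U : Opens X, x ∈ U ∧ FG (M.over U) := by
  rw [isFiniteType_iff]
  constructor
  · intro H x
    obtain ⟨S, hS, hS'⟩ := H ⊤
    obtain ⟨W, h, hh, hW⟩ := hS x (by trivial)
    exact ⟨W, hW, hS' h hh⟩
  · intro H U
    refine ⟨{ arrows := fun W _ => FG (M.over W), downward_closed := ?_ }, ?_, ?_⟩
    · intro W W' h hW k
      exact FG.over_of_hom M k hW
    · intro x hx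
      obtain ⟨V, hV, hFG⟩ := H x
      exact ⟨V ⊓ U, homOfLE inf_le_right, FG.over_of_hom M (homOfLE inf_le_left) hFG, ⟨hV, hx⟩⟩
    · intro W h hh
      exact hh

theorem isFiniteType_iff_gen (M : ModSite.Mod O) :
    SheafOfModules.IsFiniteType (R := ringSh O) M ↔
      ∀ x : X, ∃ (U : Opens X) (_ : x ∈ U) (T : Type u) (_ : Fintype T)
        (t : T → M.val.obj (op U)), Gen M U t := by
  rw [isFiniteType_iff_forall_point]
  constructor
  · intro H x
    obtain ⟨U, hU, hFG⟩ := H x
    exact ⟨U, hU, (fg_over_iff M U).1 hFG⟩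
  · intro H x
    obtain ⟨U, hU, h⟩ := H x
    exact ⟨U, hU, (fg_over_iff M U).2 h⟩

/-- any two sections over an empty open agree -/
lemma eq_of_forall_not_mem (M : ModSite.Mod O) (V : Opens X) (hV : ∀ x, x ∉ V)
    (a b : M.val.obj (op V)) : a = b := by
  refine Groth.Agent.Lib.Helper94.JShriek.sect_ext_of_mem O M (⊥ : Sieve V) ?_ a b ?_
  · intro x hx
    exact (hV x hx).elim
  · intro W g hg
    exact hg.elim


/-- generators restrict to smaller opens -/
theorem Gen.res {M : ModSite.Mod O} {U V : Opens X} {T : Type u} [Fintype T]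
    {t : T → M.val.obj (op U)} (ht : Gen M U t) (hVU : V ≤ U) :
    Gen M V (fun j => M.val.map (homOfLE hVU).op (t j)) := by
  intro U' h s y hy
  obtain ⟨U'', k, hy'', c, hc⟩ := ht U' (h ≫ homOfLE hVU) s y hy
  refine ⟨U'', k, hy'', c, hc.trans ?_⟩
  refine Finset.sum_congr rfl (fun j _ => ?_)
  congr 1
  exact PresheafOfModules.map_comp_apply M.val (homOfLE hVU).op (k ≫ h).op (t j)

section Push

variable {Z : TopCat.{u}} (i : Z ⟶ X)
  {O_Z : Sheaf (Opens.grothendieckTopology Z) CommRingCat.{u}}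
  (c : O ⟶ ((Opens.map i).sheafPushforwardContinuous CommRingCat.{u}
    (Opens.grothendieckTopology X) (Opens.grothendieckTopology Z)).obj O_Z)
  (F : ModSite.Mod O_Z)

/-- the pushforward module -/
noncomputable abbrev pushMod : ModSite.Mod O :=
  (ModSite.RMor.ofFlat (Opens.map i) c).push.obj F

lemma pushMod_map {U U' : Opens X} (k : U' ⟶ U) (s : F.val.obj (op ((Opens.map i).obj U))) :
    (pushMod i c F).val.map k.op (show (pushMod i c F).val.obj (op U) from s) =
      (show (pushMod i c F).val.obj (op U') from F.val.map ((Opens.map i).map k).op s) := rfl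

lemma pushMod_smul (U : Opens X) (a : O.obj.obj (op U))
    (s : F.val.obj (op ((Opens.map i).obj U))) :
    (show (ringSh O).obj.obj (op U) from a) • (show (pushMod i c F).val.obj (op U) from s) =
      (show (pushMod i c F).val.obj (op U) from
        (show (ringSh O_Z).obj.obj (op ((Opens.map i).obj U)) from c.hom.app (op U) a) •
          (show sect F ((Opens.map i).obj U) from s)) := rfl

/-- a sum in the pushforward, computed upstairs -/
lemma pushMod_sum (U : Opens X) {T : Type u} [Fintype T] (a : T → O.obj.obj (op U))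
    (s : T → F.val.obj (op ((Opens.map i).obj U))) :
    (∑ j, (show (ringSh O).obj.obj (op U) from a j) •
      (show (pushMod i c F).val.obj (op U) from s j) : (pushMod i c F).val.obj (op U)) =
      (show (pushMod i c F).val.obj (op U) from
        (∑ j, (show (ringSh O_Z).obj.obj (op ((Opens.map i).obj U)) from c.hom.app (op U) (a j)) •
          (show sect F ((Opens.map i).obj U) from s j) : sect F ((Opens.map i).obj U))) := rfl


/-- generators of the pushforward along an embedding generate upstairs -/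
theorem gen_of_gen_push (hi : Topology.IsInducing i) (U : Opens X) {T : Type u} [Fintype T]
    (t : T → (pushMod i c F).val.obj (op U)) (ht : Gen (pushMod i c F) U t) :
    Gen F ((Opens.map i).obj U)
      (fun j => (show F.val.obj (op ((Opens.map i).obj U)) from t j)) := by
  intro W' h s z' hz'
  obtain ⟨V, hV, hVW⟩ := hi.isOpen_iff.1 W'.isOpen
  obtain ⟨U', hU'⟩ : ∃ U' : Opens X, U' = (⟨V, hV⟩ : Opens X) ⊓ U := ⟨_, rfl⟩
  have hU'U : U' ≤ U := hU' ▸ inf_le_right
  have h1 : (Opens.map i).obj U' ≤ W' := by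
    intro z hz
    have hz2 : z ∈ i ⁻¹' V := by
      rw [hU'] at hz
      exact hz.1
    rw [hVW] at hz2
    exact hz2
  have h2 : W' ≤ (Opens.map i).obj U' := by
    intro z hz
    rw [hU']
    refine ⟨?_, leOfHom h hz⟩
    have hz2 : z ∈ i ⁻¹' V := by
      rw [hVW]
      exact hz
    exact hz2
  obtain ⟨U'', k, hy'', a, ha⟩ := ht U' (homOfLE hU'U)
    (show (pushMod i c F).val.obj (op U') from F.val.map (homOfLE h1).op s) (i z') (h2 hz')
  refine ⟨(Opens.map i).obj U'', (Opens.map i).map k ≫ homOfLE h1, hy'',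
    fun j => c.hom.app (op U'') (a j), ?_⟩
  refine (PresheafOfModules.map_comp_apply F.val (homOfLE h1).op ((Opens.map i).map k).op s).trans ?_
  refine ha.trans ?_
  refine (pushMod_sum i c F U'' a _).trans ?_
  refine Finset.sum_congr rfl (fun j _ => ?_)
  rfl


/-- generators upstairs generate the pushforward along a closed embedding with surjective
comorphism -/
theorem gen_push_of_gen (hi : Topology.IsClosedEmbedding i) (hc : Sheaf.IsLocallySurjective c)
    (U : Opens X) {T : Type u} [Fintype T]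
    (t : T → F.val.obj (op ((Opens.map i).obj U))) (ht : Gen F ((Opens.map i).obj U) t) :
    Gen (pushMod i c F) U (fun j => (show (pushMod i c F).val.obj (op U) from t j)) := by
  intro U' h s₀ y hy
  obtain ⟨s, hs⟩ : ∃ s : F.val.obj (op ((Opens.map i).obj U')), s = s₀ := ⟨s₀, rfl⟩
  by_cases hyr : y ∈ Set.range i
  · obtain ⟨z', rfl⟩ := hyr
    obtain ⟨W'', k, hz'', b, hb⟩ := ht ((Opens.map i).obj U') ((Opens.map i).map h) s z' hy
    obtain ⟨V, hV, hVW⟩ := hi.isInducing.isOpen_iff.1 W''.isOpen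
    obtain ⟨U₁, hU₁⟩ : ∃ U₁ : Opens X, U₁ = (⟨V, hV⟩ : Opens X) ⊓ U' := ⟨_, rfl⟩
    have hU₁U' : U₁ ≤ U' := hU₁ ▸ inf_le_right
    have h1 : (Opens.map i).obj U₁ ≤ W'' := by
      intro z hz
      have hz2 : z ∈ i ⁻¹' V := by
        rw [hU₁] at hz
        exact hz.1
      rw [hVW] at hz2
      exact hz2
    have h2 : W'' ≤ (Opens.map i).obj U₁ := by
      intro z hz
      rw [hU₁]
      refine ⟨?_, leOfHom k hz⟩
      have hz2 : z ∈ i ⁻¹' V := by
        rw [hVW]
        exact hz
      exact hz2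
    have hy₁ : i z' ∈ U₁ := h2 hz''
    haveI : Presheaf.IsLocallySurjective (Opens.grothendieckTopology X) c.hom := hc
    have lift : ∀ j, ∃ (U₂ : Opens X) (k₂ : U₂ ⟶ U₁) (_ : i z' ∈ U₂) (a : O.obj.obj (op U₂)),
        c.hom.app (op U₂) a = O_Z.obj.map ((Opens.map i).map k₂ ≫ homOfLE h1).op (b j) := by
      intro j
      have hmem := Presheaf.imageSieve_mem (Opens.grothendieckTopology X) c.hom (U := op U₁)
        (O_Z.obj.map (homOfLE h1).op (b j))
      obtain ⟨U₂, k₂, hk₂, hy₂⟩ := hmem (i z') hy₁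
      obtain ⟨a, ha⟩ := hk₂
      refine ⟨U₂, k₂, hy₂, a, ha.trans ?_⟩
      rw [op_comp, Functor.map_comp]
      rfl
    choose U₂ k₂ hy₂ a ha using lift
    obtain ⟨U'', hy'', hle, hU''₁⟩ : ∃ U'' : Opens X, i z' ∈ U'' ∧ (∀ j, U'' ≤ U₂ j) ∧ U'' ≤ U₁ := by
      refine ⟨(⨅ j, U₂ j) ⊓ U₁, ⟨?_, hy₁⟩, fun j => inf_le_left.trans (iInf_le U₂ j), inf_le_right⟩
      rw [SetLike.mem_coe, ← SetLike.mem_coe, Opens.coe_iInf]
      exact Set.mem_iInter.2 hy₂
    refine ⟨U'', homOfLE (hU''₁.trans hU₁U'), hy'',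
      fun j => O.obj.map (homOfLE (hle j)).op (a j), ?_⟩
    rw [← hs]
    refine (pushMod_map i c F (homOfLE (hU''₁.trans hU₁U')) s).trans ?_
    refine Eq.trans ?_ (pushMod_sum i c F U'' _ _).symm
    -- the map `i⁻¹U'' ⟶ W''`
    obtain ⟨m, hm⟩ : ∃ m : (Opens.map i).obj U'' ⟶ W'',
        m = (Opens.map i).map (homOfLE hU''₁) ≫ homOfLE h1 := ⟨_, rfl⟩
    have e1 : F.val.map ((Opens.map i).map (homOfLE (hU''₁.trans hU₁U'))).op s =
        F.val.map m.op (F.val.map k.op s) := by
      rw [← PresheafOfModules.map_comp_apply, ← op_comp]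
      rfl
    refine e1.trans ?_
    rw [hb, map_sum]
    refine Finset.sum_congr rfl (fun j _ => ?_)
    refine (PresheafOfModules.map_smul F.val m.op _ _).trans ?_
    congr 1
    · -- coefficients
      have n1 := congrArg (fun f => f.hom (a j)) (c.hom.naturality (homOfLE (hle j)).op)
      refine Eq.trans ?_ n1.symm
      change _ = O_Z.obj.map ((Opens.map i).map (homOfLE (hle j))).op (c.hom.app (op (U₂ j)) (a j))
      rw [ha j]
      change _ = (O_Z.obj.map ((Opens.map i).map (k₂ j) ≫ homOfLE h1).op ≫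
        O_Z.obj.map ((Opens.map i).map (homOfLE (hle j))).op).hom (b j)
      rw [← Functor.map_comp, ← op_comp]
      rfl
    · rw [← PresheafOfModules.map_comp_apply, ← op_comp]
      rfl
  · -- away from the closed subspace everything vanishes
    obtain ⟨U'', hU''⟩ : ∃ U'' : Opens X,
        U'' = U' ⊓ (⟨(Set.range i)ᶜ, hi.isClosed_range.isOpen_compl⟩ : Opens X) := ⟨_, rfl⟩
    have hle : U'' ≤ U' := hU'' ▸ inf_le_left
    have hy'' : y ∈ U'' := by
      rw [hU'']
      exact ⟨hy, hyr⟩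
    have hempty : ∀ z, z ∉ (Opens.map i).obj U'' := by
      intro z hz
      rw [hU''] at hz
      exact hz.2 ⟨z, rfl⟩
    refine ⟨U'', homOfLE hle, hy'', fun _ => 0, ?_⟩
    exact eq_of_forall_not_mem F ((Opens.map i).obj U'') hempty _ _

end Push

end Groth.Agent.Lib.Helper19.ModPlainFG
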