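import Groth.Agent.Lib.Helper19.ModSummandFree
import Groth.Agent.Lib.Helper19.ModGenC

/-!
# The rank of a locally free module on a ringed space is locally constant (helper19)

Namespace `Groth.Agent.Lib.Helper19.ModRank`.
-/

set_option autoImplicit false
set_option linter.unusedSectionVars false
set_option linter.style.haveILetI false
universe u
open CategoryTheory CategoryTheory.Limits Opposite TopologicalSpace

namespace Groth.Agent.Lib.Helper19.ModRank

open Groth.Agent.Lib.Helper19.ModRes Groth.Agent.Lib.Helper19.ModLift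
  Groth.Agent.Lib.Helper19.AbGen Groth.Agent.Lib.Helper19.ModFG Groth.Agent.Lib.Helper19.ModFP
  Groth.Agent.Lib.Helper19.ModStalkLift Groth.Agent.Lib.Helper19.ModLocFree
  Groth.Agent.Lib.Helper19.ModFreeNear Groth.Agent.Lib.Helper19.ModFreeStalk
  Groth.Agent.Lib.Helper19.ModSummandFree Groth.Agent.Lib.Helper19.ModCoprodSect
open ModSite

section GeneralSite

variable {C : Type u} [SmallCategory C] {J : GrothendieckTopology C} (O : Sheaf J CommRingCat.{u})

/-- the value of a map out of a finite free module on a combination of the basis sections -/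
lemma map_sum_ι {R : Sheaf J RingCat.{u}} {M : SheafOfModules.{u} R} {T : Type u} [Fintype T]
    (ψ : SheafOfModules.free T ⟶ M) (V : Cᵒᵖ) (c : T → R.obj.obj V) :
    (ψ.val.app V).hom (∑ t, ((SheafOfModules.ιFree (R := R) t).val.app V).hom
      (show (SheafOfModules.unit R).val.obj V from c t)) =
      ∑ t, c t • (show M.val.obj V from (M.freeHomEquiv ψ t).val V) := by
  rw [map_sum]
  refine Finset.sum_congr rfl (fun t _ => ?_)
  exact unit_app_eq_smul (SheafOfModules.ιFree t ≫ ψ) V (c t)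

/-- if an infinite free module is a quotient of a finite free module, the ring is locally zero -/
theorem exists_sieve_one_eq_zero {T I' : Type u} [Fintype T] [Infinite I']
    (π : SheafOfModules.free (R := ringSh O) T ⟶ SheafOfModules.free I') [Epi π] (U₀ : C) :
    ∃ S ∈ J U₀, ∀ {V : C} (f : V ⟶ U₀), S f → (1 : O.obj.obj (op V)) = 0 := by
  classical
  let F : I' → Mod O := fun _ => ModSite.unit O
  have h1 : ∀ t : T, ∃ S ∈ J U₀, ∀ {V : C} (f : V ⟶ U₀), S f →
      ∃ y : sect (∐ F) V, y ∈ FS O F V ∧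
        y = (∐ F).val.map f.op (((SheafOfModules.free I').freeHomEquiv π t).val (op U₀)) :=
    fun t => exists_sieve_mem_FS O F U₀ _
  choose S hS hS' using h1
  obtain ⟨S₀, hS₀, hS₀'⟩ := exists_covering_forall (J := J) S hS
  refine exists_sieve_bind hS₀ ?_
  intro V f hf
  have h2 : ∀ t : T, ∃ A : Finset I', ∀ j, j ∉ A →
      ((Sigma.π F j).val.app (op V)).hom
        (show sect (∐ F) V from ((SheafOfModules.free I').freeHomEquiv π t).val (op V)) = 0 := by
    intro t
    obtain ⟨y, hy, hy'⟩ := hS' t f (hS₀' f hf t)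
    obtain ⟨A, -, hA⟩ := exists_finset_of_mem_FS O F V y hy
    refine ⟨A, fun j hj => ?_⟩
    have h3 := hA j hj
    rw [hy'] at h3
    have h4 := PresheafOfModules.sections_property ((SheafOfModules.free I').freeHomEquiv π t) f.op
    rw [← h4]
    exact h3
  choose A hA using h2
  obtain ⟨j₀, hj₀⟩ := Infinite.exists_notMem_finset (Finset.univ.biUnion A)
  have hj₀' : ∀ t, j₀ ∉ A t := fun t ht =>
    hj₀ (Finset.mem_biUnion.2 ⟨t, Finset.mem_univ t, ht⟩)
  -- the epimorphism `θ : free T ⟶ unit` all of whose generators vanish over `V`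
  haveI hθ : Epi (π ≫ Sigma.π F j₀) := by
    have h0 : Epi (Sigma.π F j₀) := SplitEpi.epi ⟨Sigma.ι F j₀, Sigma.ι_π_eq_id F j₀⟩
    exact @epi_comp _ _ _ _ _ π _ (Sigma.π F j₀) h0
  have hgen : ∀ {V' : C} (g : V' ⟶ V) (t : T),
      ((ModSite.unit O).freeHomEquiv (π ≫ Sigma.π F j₀) t).val (op V') = 0 := by
    intro V' g t
    have h5 := PresheafOfModules.sections_property
      ((ModSite.unit O).freeHomEquiv (π ≫ Sigma.π F j₀) t) g.op
    rw [← h5]
    have h6 : ((ModSite.unit O).freeHomEquiv (π ≫ Sigma.π F j₀) t).val (op V) = 0 := hA t j₀ (hj₀' t)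
    rw [h6]
    exact map_zero _
  -- local surjectivity of `θ`
  haveI := Groth.Agent.Lib.Helper94.ModSiteBasic.toSheaf_preservesFiniteColimits (ringSh O)
  have e1 : Epi ((SheafOfModules.toSheaf (ringSh O)).map (π ≫ Sigma.π F j₀)) := inferInstance
  have e2 : Sheaf.IsLocallySurjective ((SheafOfModules.toSheaf (ringSh O)).map (π ≫ Sigma.π F j₀)) :=
    (Sheaf.isLocallySurjective_iff_epi' (A := AddCommGrpCat.{u}) _).2 e1
  have e3 := Presheaf.imageSieve_mem J ((SheafOfModules.toSheaf (ringSh O)).map (π ≫ Sigma.π F j₀)).hom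
    (U := op V) (show (ModSite.unit O).val.obj (op V) from (1 : O.obj.obj (op V)))
  refine ⟨_, e3, ?_⟩
  intro V' g hg
  obtain ⟨a, ha⟩ := hg
  obtain ⟨a', ha'⟩ : ∃ a' : (SheafOfModules.free (R := ringSh O) T).val.obj (op V'), a' = a := ⟨a, rfl⟩
  obtain ⟨c, hc⟩ := exists_sum_free (R := ringSh O) (op V') a'
  have h7 := map_sum_ι (π ≫ Sigma.π F j₀) (op V') c
  rw [← hc] at h7
  have h8 : (((π ≫ Sigma.π F j₀).val.app (op V')).hom a') = 0 := by
    rw [h7]
    refine Finset.sum_eq_zero (fun t _ => ?_)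
    rw [show (show (ModSite.unit O).val.obj (op V') from
      ((ModSite.unit O).freeHomEquiv (π ≫ Sigma.π F j₀) t).val (op V')) = 0 from hgen g t]
    exact smul_zero _
  have h9 : (O.obj.map g.op).hom (1 : O.obj.obj (op V)) = 0 := by
    rw [ha'] at h8
    exact ha.symm.trans h8
  rw [map_one] at h9
  exact h9

end GeneralSite

section Space

variable {X : TopCat.{u}} (O : Sheaf (Opens.grothendieckTopology X) CommRingCat.{u}) (x : X)

lemma false_of_one_eq_zero
    (h : Nontrivial (TopCat.Presheaf.stalk (C := CommRingCat.{u}) O.obj x)) {V : Opens X}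
    (hV : x ∈ V) (h01 : (1 : O.obj.obj (op V)) = 0) : False := by
  have h2 : (1 : TopCat.Presheaf.stalk (C := CommRingCat.{u}) O.obj x) = 0 := by
    have := congrArg (TopCat.Presheaf.germ (C := CommRingCat.{u}) O.obj V x hV).hom h01
    rwa [map_zero, map_one] at this
  exact one_ne_zero h2

lemma nontrivial_stalkRing
    (h : Nontrivial (TopCat.Presheaf.stalk (C := CommRingCat.{u}) O.obj x)) :
    Nontrivial (stalkRing (Opens.pointGrothendieckTopology x) O) := by
  refine ⟨⟨0, 1, fun h01 => ?_⟩⟩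
  have hT : x ∈ (⊤ : Opens X) := trivial
  have h1 : germRing (Opens.pointGrothendieckTopology x) ⊤ ⟨⟨hT⟩⟩ (0 : O.obj.obj (op ⊤)) =
      germRing (Opens.pointGrothendieckTopology x) ⊤ ⟨⟨hT⟩⟩ 1 :=
    (map_zero ((Opens.pointGrothendieckTopology x).toPresheafFiber ⊤ ⟨⟨hT⟩⟩ O.obj).hom).trans
      (h01.trans (map_one ((Opens.pointGrothendieckTopology x).toPresheafFiber ⊤ ⟨⟨hT⟩⟩ O.obj).hom).symm)
  obtain ⟨V, k, hV, hk⟩ := exists_res_eq_of_germRing_eq O x (W := ⊤) hT _ _ h1
  have hk' : (0 : O.obj.obj (op V)) = 1 :=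
    (map_zero (O.obj.map k.op).hom).symm.trans (hk.trans (map_one (O.obj.map k.op).hom))
  exact false_of_one_eq_zero O x h hV hk'.symm

variable {O} {x}

/-- an infinite free module is not isomorphic to a finite free one near a point with nonzero
stalk -/
lemma false_of_iso_free_infinite
    (hO : Nontrivial (TopCat.Presheaf.stalk (C := CommRingCat.{u}) O.obj x)) {W : Opens X}
    (hW : x ∈ W) {I I' : Type u} [Finite I] [Infinite I']
    (π : SheafOfModules.free (R := (ringSh O).over W) I ≅ SheafOfModules.free I') : False := by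
  haveI := Fintype.ofFinite I
  obtain ⟨π', hπ'⟩ : ∃ π' : SheafOfModules.free (R := ringSh (O.over W)) I ⟶ SheafOfModules.free I',
      π' = π.hom := ⟨π.hom, rfl⟩
  haveI : Epi π' := by
    rw [hπ']
    infer_instance
  obtain ⟨S, hS, hS'⟩ := exists_sieve_one_eq_zero (O.over W) π' (Over.mk (𝟙 W))
  rw [GrothendieckTopology.mem_over_iff] at hS
  obtain ⟨V, k, hk, hV⟩ := hS x hW
  rw [Sieve.overEquiv_iff] at hk
  exact false_of_one_eq_zero O x hO hV (hS' _ hk)

theorem card_eq_of_triv (hO : Nontrivial (TopCat.Presheaf.stalk (C := CommRingCat.{u}) O.obj x))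
    (F : ModSite.Mod O) {U U' : Opens X} (hU : x ∈ U) (hU' : x ∈ U') {I I' : Type u}
    (e : F.over U ≅ SheafOfModules.free I) (e' : F.over U' ≅ SheafOfModules.free I') :
    ENat.card I = ENat.card I' := by
  classical
  have hW : x ∈ U ⊓ U' := ⟨hU, hU'⟩
  have e₁ : F.over (U ⊓ U') ≅ SheafOfModules.free I := trivOfHom F (homOfLE inf_le_left) e
  have e₂ : F.over (U ⊓ U') ≅ SheafOfModules.free I' := trivOfHom F (homOfLE inf_le_right) e'
  rcases finite_or_infinite I with hI | hI <;> rcases finite_or_infinite I' with hI' | hI'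
  · haveI := Fintype.ofFinite I
    haveI := Fintype.ofFinite I'
    haveI := nontrivial_stalkRing O x hO
    obtain ⟨eN⟩ := nonempty_stalk_equiv_of_triv F hW e₁
    obtain ⟨eN'⟩ := nonempty_stalk_equiv_of_triv F hW e₂
    have h1 := LinearEquiv.finrank_eq (eN.symm ≪≫ₗ eN')
    rw [Module.finrank_fintype_fun_eq_card, Module.finrank_fintype_fun_eq_card] at h1
    rw [ENat.card_eq_coe_fintype_card, ENat.card_eq_coe_fintype_card, h1]
  · exact (false_of_iso_free_infinite hO hW (e₁.symm ≪≫ e₂)).elim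
  · exact (false_of_iso_free_infinite hO hW (e₂.symm ≪≫ e₁)).elim
  · rw [ENat.card_eq_top_of_infinite, ENat.card_eq_top_of_infinite]

/-- **The rank of a locally free module is a locally constant function.** -/
theorem exists_rank
    (hO : ∀ x : X, Nontrivial (TopCat.Presheaf.stalk (C := CommRingCat.{u}) O.obj x))
    (F : ModSite.Mod O) [hF : SheafOfModules.IsLocallyFree (R := ringSh O) F] :
    ∃ rk : X → ℕ∞, IsLocallyConstant rk ∧
      ∀ (x : X) (U : Opens X) (I : Type u), x ∈ U →
        Nonempty ((ModSite.restr O U).obj F ≅ SheafOfModules.free I) → ENat.card I = rk x := by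
  rw [Groth.Agent.Lib.Helper19.ModGenC.isLocallyFree_iff] at hF
  have key : ∀ x : X, ∃ (U : Opens X) (I : Type u), x ∈ U ∧
      Nonempty (F.over U ≅ SheafOfModules.free I) := by
    intro x
    obtain ⟨S, hS, hS'⟩ := hF ⊤
    obtain ⟨W, h, hh, hW⟩ := hS x (by trivial)
    obtain ⟨I, -, ⟨e⟩⟩ := hS' h hh
    exact ⟨W, I, hW, ⟨e⟩⟩
  choose U I hU e using key
  refine ⟨fun x => ENat.card (I x), ?_, ?_⟩
  · rw [IsLocallyConstant.iff_exists_open]
    intro x
    refine ⟨U x, (U x).isOpen, hU x, fun y hy => ?_⟩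
    exact card_eq_of_triv (hO y) F (hU y) hy (e y).some (e x).some
  · intro x U' I' hx ⟨e'⟩
    exact card_eq_of_triv (hO x) F hx (hU x) e' (e x).some

end Space

end Groth.Agent.Lib.Helper19.ModRank
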