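import Groth.Agent.Lib.Helper19.SheafHomColim

/-!
# Restriction between slice sites, and sections of free modules (helper19)

Namespace `Groth.Agent.Lib.Helper19.ModRes`.
For `h : W ⟶ U`, `res R h : Mod (R|_U) ⥤ Mod (R|_W)` is Mathlib's `SheafOfModules.overMap`.
-/

set_option autoImplicit false
set_option linter.unusedSectionVars false
set_option linter.style.haveILetI false
universe u
open CategoryTheory CategoryTheory.Limits Opposite

namespace Groth.Agent.Lib.Helper19.ModRes

variable {C : Type u} [SmallCategory C] [HasPullbacks C] {J : GrothendieckTopology C}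
  (R : Sheaf J RingCat.{u})

/-- restriction from `C/U` to `C/W` -/
noncomputable abbrev res {U W : C} (h : W ⟶ U) :
    SheafOfModules.{u} (R.over U) ⥤ SheafOfModules.{u} (R.over W) :=
  SheafOfModules.overMap R h

instance {U W : C} (h : W ⟶ U) : (Over.map h).IsLeftAdjoint := ⟨_, ⟨Over.mapPullbackAdj h⟩⟩

instance {U W : C} (h : W ⟶ U) : (res R h).IsLeftAdjoint := by
  unfold res SheafOfModules.overMap
  infer_instance

set_option backward.isDefEq.respectTransparency.types false in
instance {U W : C} (h : W ⟶ U) : (res R h).IsRightAdjoint :=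
  inferInstanceAs (SheafOfModules.pushforward.{u} (F := Over.map h)
    (Sheaf.pushforwardOverMapIso R h).inv).IsRightAdjoint

variable {R}

/-- restriction of sections -/
noncomputable def resSec {U W : C} (h : W ⟶ U) {A : SheafOfModules.{u} (R.over U)}
    (s : A.sections) : ((res R h).obj A).sections :=
  PresheafOfModules.sectionsMk (fun Y => s.val (op ((Over.map h).obj Y.unop)))
    (fun _ _ f => PresheafOfModules.sections_property s ((Over.map h).map f.unop).op)

lemma resSec_sectionsMap {U W : C} (h : W ⟶ U) {A B : SheafOfModules.{u} (R.over U)}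
    (g : A ⟶ B) (s : A.sections) :
    resSec h (SheafOfModules.sectionsMap g s) =
      SheafOfModules.sectionsMap ((res R h).map g) (resSec h s) := rfl

/-- the restriction of a map out of a free module -/
noncomputable abbrev resFree {U W : C} (h : W ⟶ U) {A : SheafOfModules.{u} (R.over U)}
    {I : Type u} (π : SheafOfModules.free I ⟶ A) :
    SheafOfModules.free I ⟶ (res R h).obj A :=
  (SheafOfModules.mapFreeIso (res R h) I (SheafOfModules.overMapUnitIso h).symm).hom ≫
    (res R h).map π

lemma freeHomEquiv_resFree {U W : C} (h : W ⟶ U) {A : SheafOfModules.{u} (R.over U)}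
    {I : Type u} (π : SheafOfModules.free I ⟶ A) (i : I) :
    ((res R h).obj A).freeHomEquiv (resFree h π) i = resSec h (A.freeHomEquiv π i) := by
  change ((res R h).obj A).unitHomEquiv (SheafOfModules.ιFree i ≫ resFree h π) =
    resSec h (A.unitHomEquiv (SheafOfModules.ιFree i ≫ π))
  rw [SheafOfModules.ιFree_mapFreeIso_hom_assoc, ← Functor.map_comp]
  rfl

end Groth.Agent.Lib.Helper19.ModRes
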