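import Groth.Agent.Lib.Helper19.ModFP
import Groth.Prelude.Def_ModSite2

/-!
# Surjectivity on a stalk spreads out (helper19)

Namespace `Groth.Agent.Lib.Helper19.ModStalkLift`.
-/

set_option autoImplicit false
set_option linter.unusedSectionVars false
set_option linter.style.haveILetI false
universe u
open CategoryTheory CategoryTheory.Limits Opposite TopologicalSpace

namespace Groth.Agent.Lib.Helper19.ModStalkLift

open Groth.Agent.Lib.Helper19.ModRes Groth.Agent.Lib.Helper19.ModLift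
  Groth.Agent.Lib.Helper19.AbGen Groth.Agent.Lib.Helper19.ModFG Groth.Agent.Lib.Helper19.ModFP
open ModSite

variable {X : TopCat.{u}} (O : TopCat.Sheaf CommRingCat.{u} X)

/-- a section whose germ at `x` is in the image of `φ_x` is locally in the image of `φ` -/
theorem exists_local_lift {G F : ModSite.Mod O} (φ : G ⟶ F) (x : X)
    (hx : Function.Surjective (ModSite.stalkMap (Opens.pointGrothendieckTopology x) φ).hom)
    (W : Opens X) (hW : x ∈ W) (t : F.val.obj (op W)) :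
    ∃ (V : Opens X) (k : V ⟶ W), x ∈ V ∧
      ∃ a : G.val.obj (op V), φ.val.app (op V) a = F.val.map k.op t := by
  obtain ⟨m', hm'⟩ := hx (ModSite.germ (Opens.pointGrothendieckTopology x) F W ⟨⟨hW⟩⟩ t)
  obtain ⟨Y, ⟨⟨hY⟩⟩, g₀, rfl⟩ :=
    (Opens.pointGrothendieckTopology x).toPresheafFiber_jointly_surjective
      (P := (toAb G).obj) m'
  have nat := (Opens.pointGrothendieckTopology x).toPresheafFiber_naturality_apply
    ((SheafOfModules.toSheaf (ringSh O)).map φ).hom Y ⟨⟨hY⟩⟩ g₀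
  have h1 : ((Opens.pointGrothendieckTopology x).toPresheafFiber Y ⟨⟨hY⟩⟩ (toAb F).obj).hom
      ((φ.val.app (op Y)).hom g₀) =
    ((Opens.pointGrothendieckTopology x).toPresheafFiber W ⟨⟨hW⟩⟩ (toAb F).obj).hom t :=
    nat.symm.trans hm'
  have hZ : x ∈ Y ⊓ W := ⟨hY, hW⟩
  have e1 := (Opens.pointGrothendieckTopology x).toPresheafFiber_w_apply
    (homOfLE inf_le_left : Y ⊓ W ⟶ Y) ⟨⟨hZ⟩⟩ (toAb F).obj ((φ.val.app (op Y)).hom g₀)
  have e2 := (Opens.pointGrothendieckTopology x).toPresheafFiber_w_apply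
    (homOfLE inf_le_right : Y ⊓ W ⟶ W) ⟨⟨hZ⟩⟩ (toAb F).obj t
  have h2 := (e1.trans h1).trans e2.symm
  obtain ⟨V, f, ⟨⟨hV⟩⟩, -, h3⟩ := ((Opens.pointGrothendieckTopology x).toPresheafFiber_eq_iff'
    (P := (toAb F).obj) (Y ⊓ W) ⟨⟨hZ⟩⟩ _ _).1 h2
  obtain ⟨g₁, hg₁⟩ : ∃ g₁ : G.val.obj (op Y), g₁ = g₀ := ⟨g₀, rfl⟩
  refine ⟨V, f ≫ homOfLE inf_le_right, hV, G.val.map (f ≫ homOfLE inf_le_left).op g₁, ?_⟩
  have h4 : F.val.map (f ≫ (homOfLE inf_le_left : Y ⊓ W ⟶ Y)).op ((φ.val.app (op Y)) g₁) =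
      F.val.map f.op (F.val.map (homOfLE inf_le_left : Y ⊓ W ⟶ Y).op ((φ.val.app (op Y)) g₁)) :=
    PresheafOfModules.map_comp_apply _ _ _ _
  have h5 : F.val.map (f ≫ (homOfLE inf_le_right : Y ⊓ W ⟶ W)).op t =
      F.val.map f.op (F.val.map (homOfLE inf_le_right : Y ⊓ W ⟶ W).op t) :=
    PresheafOfModules.map_comp_apply _ _ _ _
  refine (PresheafOfModules.naturality_apply φ.val (f ≫ homOfLE inf_le_left).op g₁).trans ?_
  refine h4.trans (Eq.trans ?_ h5.symm)
  rw [hg₁]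
  exact h3

section

variable {C : Type u} [SmallCategory C] [HasPullbacks C] {J : GrothendieckTopology C}
  {R : Sheaf J RingCat.{u}}

/-- lifting a map out of a free module when all generators lift -/
theorem exists_lift_of_forall_mem {U W : C} (h : W ⟶ U) {A B : SheafOfModules.{u} (R.over U)}
    (g : A ⟶ B) {I : Type u} (π : SheafOfModules.free I ⟶ B)
    (H : ∀ i, liftSieve g (B.freeHomEquiv π i) h) :
    ∃ q : SheafOfModules.free I ⟶ (res R h).obj A, q ≫ (res R h).map g = resFree h π := by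
  choose a ha using H
  refine ⟨((res R h).obj A).freeHomEquiv.symm (fun i => sectOfElt h (a i)), ?_⟩
  apply ((res R h).obj B).freeHomEquiv.injective
  funext i
  rw [SheafOfModules.freeHomEquiv_comp_apply, Equiv.apply_symm_apply, freeHomEquiv_resFree,
    sectOfElt_sectionsMap, ha, resSec_eq_sectOfElt]

instance epi_resFree {U W : C} (h : W ⟶ U) {A : SheafOfModules.{u} (R.over U)} {I : Type u}
    (π : SheafOfModules.free I ⟶ A) [Epi π] : Epi (resFree h π) := by
  haveI : Epi ((res R h).map π) := (res R h).map_epi π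
  exact epi_comp _ _

end

/-- **Surjectivity on the stalk at `x` of a map to a finite type module spreads out to a
neighbourhood.** -/
theorem exists_epi_restr {G F : ModSite.Mod O} (φ : G ⟶ F)
    [hF : SheafOfModules.IsFiniteType (R := ModSite.ringSh O) F] (x : X)
    (hx : Function.Surjective (ModSite.stalkMap (Opens.pointGrothendieckTopology x) φ).hom) :
    ∃ U : Opens X, x ∈ U ∧ Epi ((ModSite.restr O U).map φ) := by
  rw [isFiniteType_iff] at hF
  obtain ⟨S, hS, hS'⟩ := hF ⊤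
  obtain ⟨W, h, hh, hW⟩ := hS x (by trivial)
  obtain ⟨P, ⟨I, _, ⟨e⟩⟩, p, _⟩ := hS' h hh
  obtain ⟨π, hπ, _⟩ : ∃ π : SheafOfModules.free I ⟶ F.over W, π = e.inv ≫ p ∧ Epi π :=
    ⟨_, rfl, inferInstance⟩
  have key : ∀ i : I, ∃ (V : Opens X) (k : V ⟶ W), x ∈ V ∧
      liftSieve ((SheafOfModules.overFunctor.{u} (ringSh O) W).map φ)
        ((F.over W).freeHomEquiv π i) k := by
    intro i
    obtain ⟨V, k, hV, a, ha⟩ := exists_local_lift O φ x hx W hW
      (((F.over W).freeHomEquiv π i).val (op (Over.mk (𝟙 W))))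
    refine ⟨V, k, hV, a, ha.trans ?_⟩
    exact PresheafOfModules.sections_property ((F.over W).freeHomEquiv π i)
      (Over.homMk k : Over.mk k ⟶ Over.mk (𝟙 W)).op
  choose V k hV hk using key
  obtain ⟨V₀, hV₀, hle, hW₀⟩ : ∃ V₀ : Opens X, x ∈ V₀ ∧ (∀ i, V₀ ≤ V i) ∧ V₀ ≤ W := by
    refine ⟨(⨅ i, V i) ⊓ W, ⟨?_, hW⟩, fun i => inf_le_left.trans (iInf_le V i), inf_le_right⟩
    rw [SetLike.mem_coe, ← SetLike.mem_coe, Opens.coe_iInf]
    exact Set.mem_iInter.2 hV
  have H : ∀ i, liftSieve ((SheafOfModules.overFunctor.{u} (ringSh O) W).map φ)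
      ((F.over W).freeHomEquiv π i) (homOfLE hW₀) := by
    intro i
    have := (liftSieve ((SheafOfModules.overFunctor.{u} (ringSh O) W).map φ)
      ((F.over W).freeHomEquiv π i)).downward_closed (hk i) (homOfLE (hle i))
    rwa [Subsingleton.elim (homOfLE (hle i) ≫ k i) (homOfLE hW₀)] at this
  obtain ⟨q, hq⟩ := exists_lift_of_forall_mem (homOfLE hW₀)
    ((SheafOfModules.overFunctor.{u} (ringSh O) W).map φ) π H
  haveI : Epi ((res (ringSh O) (homOfLE hW₀)).map
      ((SheafOfModules.overFunctor.{u} (ringSh O) W).map φ)) := epi_of_epi_fac hq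
  refine ⟨V₀, hV₀, ?_⟩
  have nat := (SheafOfModules.overFunctorMap (ringSh O) (homOfLE hW₀)).hom.naturality φ
  have e : (ModSite.restr O V₀).map φ =
      (resOverIso (homOfLE hW₀) G).inv ≫ (res (ringSh O) (homOfLE hW₀)).map
        ((SheafOfModules.overFunctor.{u} (ringSh O) W).map φ) ≫
          (resOverIso (homOfLE hW₀) F).hom := by
    refine ((Iso.eq_inv_comp _).2 ?_)
    exact nat.symm
  rw [e]
  have i1 : Epi (resOverIso (homOfLE hW₀) F).hom :=
    @IsIso.epi_of_iso _ _ _ _ _ (Iso.isIso_hom _)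
  have i2 : Epi (resOverIso (homOfLE hW₀) G).inv :=
    @IsIso.epi_of_iso _ _ _ _ _ (Iso.isIso_inv _)
  exact @epi_comp _ _ _ _ _ _ i2 _ (@epi_comp _ _ _ _ _ _ this _ i1)

end Groth.Agent.Lib.Helper19.ModStalkLift
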