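import Groth.Agent.Lib.Helper19.ModFreeStalk
import Mathlib.RingTheory.LocalRing.Module

/-!
# Direct summands of finite locally free modules on a locally ringed space (helper19)

Namespace `Groth.Agent.Lib.Helper19.ModSummandFree`.
-/

set_option autoImplicit false
set_option linter.unusedSectionVars false
set_option linter.style.haveILetI false
universe u
open CategoryTheory CategoryTheory.Limits Opposite TopologicalSpace

namespace Groth.Agent.Lib.Helper19.ModSummandFree

open Groth.Agent.Lib.Helper19.ModRes Groth.Agent.Lib.Helper19.ModLift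
  Groth.Agent.Lib.Helper19.AbGen Groth.Agent.Lib.Helper19.ModFG Groth.Agent.Lib.Helper19.ModFP
  Groth.Agent.Lib.Helper19.ModStalkLift Groth.Agent.Lib.Helper19.ModLocFree
  Groth.Agent.Lib.Helper19.ModFreeNear Groth.Agent.Lib.Helper19.ModFreeStalk
open ModSite

variable {X : TopCat.{u}} (O : Sheaf (Opens.grothendieckTopology X) CommRingCat.{u}) (x : X)

section StalkRing

/-- the comparison from Mathlib's stalk to the fibre at the point of the site -/
noncomputable def stalkComparison :
    TopCat.Presheaf.stalk (C := CommRingCat.{u}) O.obj x ⟶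
      stalkRing (Opens.pointGrothendieckTopology x) O :=
  colimit.desc ((OpenNhds.inclusion x).op ⋙ O.obj)
    { pt := stalkRing (Opens.pointGrothendieckTopology x) O
      ι :=
        { app := fun U => (Opens.pointGrothendieckTopology x).toPresheafFiber U.unop.1
            ⟨⟨U.unop.2⟩⟩ O.obj
          naturality := fun U V f => by
            dsimp
            rw [Category.comp_id]
            exact (Opens.pointGrothendieckTopology x).toPresheafFiber_w
              ((OpenNhds.inclusion x).map f.unop) ⟨⟨V.unop.2⟩⟩ O.obj } }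

lemma germ_stalkComparison (U : Opens X) (hU : x ∈ U) :
    TopCat.Presheaf.germ (C := CommRingCat.{u}) O.obj U x hU ≫ stalkComparison O x =
      (Opens.pointGrothendieckTopology x).toPresheafFiber U ⟨⟨hU⟩⟩ O.obj := by
  unfold stalkComparison TopCat.Presheaf.germ
  exact colimit.ι_desc _ _

lemma stalkComparison_surjective : Function.Surjective (stalkComparison O x).hom := by
  intro c
  obtain ⟨W, hW, r, rfl⟩ := exists_germRing_eq O x c
  refine ⟨(TopCat.Presheaf.germ (C := CommRingCat.{u}) O.obj W x hW).hom r, ?_⟩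
  exact congrArg (fun g : O.obj.obj (op W) ⟶ stalkRing (Opens.pointGrothendieckTopology x) O =>
    g.hom r) (germ_stalkComparison O x W hW)

theorem isLocalRing_stalkRing
    (h : IsLocalRing (TopCat.Presheaf.stalk (C := CommRingCat.{u}) O.obj x)) :
    IsLocalRing (stalkRing (Opens.pointGrothendieckTopology x) O) := by
  haveI : Nontrivial (stalkRing (Opens.pointGrothendieckTopology x) O) := by
    refine ⟨⟨0, 1, fun h01 => ?_⟩⟩
    have hT : x ∈ (⊤ : Opens X) := trivial
    have h1 : germRing (Opens.pointGrothendieckTopology x) ⊤ ⟨⟨hT⟩⟩ (0 : O.obj.obj (op ⊤)) =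
        germRing (Opens.pointGrothendieckTopology x) ⊤ ⟨⟨hT⟩⟩ 1 :=
      (map_zero ((Opens.pointGrothendieckTopology x).toPresheafFiber ⊤ ⟨⟨hT⟩⟩ O.obj).hom).trans
        (h01.trans (map_one ((Opens.pointGrothendieckTopology x).toPresheafFiber ⊤ ⟨⟨hT⟩⟩ O.obj).hom).symm)
    obtain ⟨V, k, hV, hk⟩ := exists_res_eq_of_germRing_eq O x (W := ⊤) hT _ _ h1
    have hk' : (0 : O.obj.obj (op V)) = 1 :=
      (map_zero (O.obj.map k.op).hom).symm.trans (hk.trans (map_one (O.obj.map k.op).hom))
    have h2 : (0 : TopCat.Presheaf.stalk (C := CommRingCat.{u}) O.obj x) = 1 := by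
      have := congrArg (TopCat.Presheaf.germ (C := CommRingCat.{u}) O.obj V x hV).hom hk'
      rwa [map_zero, map_one] at this
    exact zero_ne_one h2
  exact IsLocalRing.of_surjective' (stalkComparison O x).hom (stalkComparison_surjective O x)

end StalkRing

section StalkMap

variable {O} {x}

lemma stalkMap_comp_apply {F G H : ModSite.Mod O} (f : F ⟶ G) (g : G ⟶ H)
    (m : stalkMod (Opens.pointGrothendieckTopology x) F) :
    (stalkMap (Opens.pointGrothendieckTopology x) (f ≫ g)).hom m =
      (stalkMap (Opens.pointGrothendieckTopology x) g).hom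
        ((stalkMap (Opens.pointGrothendieckTopology x) f).hom m) := by
  change ((Opens.pointGrothendieckTopology x).sheafFiber.map
    ((SheafOfModules.toSheaf (ringSh O)).map (f ≫ g))).hom m = _
  rw [Functor.map_comp, Functor.map_comp]
  rfl

lemma stalkMap_id_apply {F : ModSite.Mod O}
    (m : stalkMod (Opens.pointGrothendieckTopology x) F) :
    (stalkMap (Opens.pointGrothendieckTopology x) (𝟙 F)).hom m = m := by
  change ((Opens.pointGrothendieckTopology x).sheafFiber.map
    ((SheafOfModules.toSheaf (ringSh O)).map (𝟙 F))).hom m = _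
  rw [CategoryTheory.Functor.map_id, CategoryTheory.Functor.map_id]
  rfl

end StalkMap

section Triv

variable {O} {x}
variable (H : ModSite.Mod O) {U : Opens X} {T : Type u}

/-- the value of a section at the terminal object of the slice, as an element of `H(U)` -/
def valTop (σ : (H.over U).sections) : H.val.obj (op U) := σ.val (op (Over.mk (𝟙 U)))

lemma secOf_valTop (σ : (H.over U).sections) : secOf H (valTop H σ) = σ := by
  ext Y
  exact PresheafOfModules.sections_property σ
    (Over.homMk Y.unop.hom : Y.unop ⟶ Over.mk (𝟙 U)).op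

lemma eq_phi (ψ : SheafOfModules.free T ⟶ H.over U) :
    ψ = phi H (fun i => valTop H ((H.over U).freeHomEquiv ψ i)) := by
  apply (H.over U).freeHomEquiv.injective
  funext i
  refine Eq.trans ?_ (congrFun (Equiv.apply_symm_apply (H.over U).freeHomEquiv _) i).symm
  exact (secOf_valTop H _).symm

end Triv

section GeneralSite

variable {C : Type u} [SmallCategory C] {J : GrothendieckTopology C} {R : Sheaf J RingCat.{u}}

/-- in a finite free module, a combination of the basis sections vanishes only if its
coefficients do -/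
lemma eq_zero_of_sum_ι_eq_zero {T : Type u} [Fintype T] [DecidableEq T] (V : Cᵒᵖ)
    (b : T → R.obj.obj V)
    (h : ∑ i, ((SheafOfModules.ιFree (R := R) i).val.app V).hom
      (show (SheafOfModules.unit R).val.obj V from b i) = 0) : ∀ i, b i = 0 := by
  intro j
  let G : T → SheafOfModules.{u} R := fun _ => SheafOfModules.unit R
  have h1 : ∑ i, ((Sigma.π G j).val.app V).hom
      (((SheafOfModules.ιFree (R := R) i).val.app V).hom
        (show (SheafOfModules.unit R).val.obj V from b i)) = 0 :=
    (map_sum ((Sigma.π G j).val.app V).hom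
      (fun i => ((SheafOfModules.ιFree (R := R) i).val.app V).hom
        (show (SheafOfModules.unit R).val.obj V from b i)) Finset.univ).symm.trans
      ((congrArg ((Sigma.π G j).val.app V).hom h).trans (map_zero _))
  rw [Finset.sum_eq_single j] at h1
  · have h2 : Sigma.ι G j ≫ Sigma.π G j = 𝟙 _ := Sigma.ι_π_eq_id G j
    have h3 := congrArg (fun g : SheafOfModules.unit R ⟶ SheafOfModules.unit R =>
      (g.val.app V).hom (show (SheafOfModules.unit R).val.obj V from b j)) h2
    exact h3.symm.trans h1
  · intro i _ hij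
    have h2 : Sigma.ι G i ≫ Sigma.π G j = 0 := Sigma.ι_π_of_ne G hij
    exact congrArg (fun g : SheafOfModules.unit R ⟶ SheafOfModules.unit R =>
      (g.val.app V).hom (show (SheafOfModules.unit R).val.obj V from b i)) h2
  · intro h
    exact absurd (Finset.mem_univ j) h

end GeneralSite

section TrivStalk

variable {O} {x}
variable (H : ModSite.Mod O) {U : Opens X} {T : Type u} [Fintype T] [DecidableEq T]

/-- the stalk at `x` of a module which is free on `T` near `x` is free on `T` -/
theorem nonempty_stalk_equiv_of_triv (hU : x ∈ U) (eH : H.over U ≅ SheafOfModules.free T) :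
    Nonempty (stalkMod (Opens.pointGrothendieckTopology x) H
      ≃ₗ[stalkRing (Opens.pointGrothendieckTopology x) O]
        (T → stalkRing (Opens.pointGrothendieckTopology x) O)) := by
  obtain ⟨h, hh⟩ : ∃ h : T → H.val.obj (op U), eH.inv = phi H h := ⟨_, eq_phi H eH.inv⟩
  have hinj : ∀ (Y : (Over U)ᵒᵖ) (a : (SheafOfModules.free (R := (ringSh O).over U) T).val.obj Y),
      ((phi H h).val.app Y).hom a = 0 → a = 0 := by
    intro Y a ha
    have h1 : eH.inv ≫ eH.hom = 𝟙 _ := eH.inv_hom_id
    have h2 := congrArg (fun g : SheafOfModules.free (R := (ringSh O).over U) T ⟶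
      SheafOfModules.free T => (g.val.app Y).hom a) h1
    rw [hh] at h2
    have h3 : (eH.hom.val.app Y).hom (((phi H h).val.app Y).hom a) = a := h2
    rw [ha, map_zero] at h3
    exact h3.symm
  have hsurj : ∀ (Y : (Over U)ᵒᵖ) (t : (H.over U).val.obj Y),
      ∃ a : (SheafOfModules.free (R := (ringSh O).over U) T).val.obj Y,
        ((phi H h).val.app Y).hom a = t := by
    intro Y t
    refine ⟨(eH.hom.val.app Y).hom t, ?_⟩
    have h1 : eH.hom ≫ eH.inv = 𝟙 _ := eH.hom_inv_id
    have h2 := congrArg (fun g : H.over U ⟶ H.over U => (g.val.app Y).hom t) h1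
    rw [hh] at h2
    exact h2
  let L := Fintype.linearCombination (stalkRing (Opens.pointGrothendieckTopology x) O)
    (M := stalkMod (Opens.pointGrothendieckTopology x) H)
    (fun i => germ (Opens.pointGrothendieckTopology x) H U ⟨⟨hU⟩⟩ (h i))
  have hL : ∀ c, L c = ∑ i, c i • germ (Opens.pointGrothendieckTopology x) H U ⟨⟨hU⟩⟩ (h i) :=
    fun c => Fintype.linearCombination_apply _ _ _
  have hbij : Function.Bijective L := by
    constructor
    · rw [injective_iff_map_eq_zero]
      intro c hc
      have rep : ∀ i : T, ∃ (W : Opens X) (hW : x ∈ W) (r : O.obj.obj (op W)),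
          germRing (Opens.pointGrothendieckTopology x) W ⟨⟨hW⟩⟩ r = c i :=
        fun i => exists_germRing_eq O x _
      choose W hW rr hrr using rep
      obtain ⟨W₀, hW₀, hle, hWU⟩ : ∃ W₀ : Opens X, x ∈ W₀ ∧ (∀ i, W₀ ≤ W i) ∧ W₀ ≤ U := by
        refine ⟨(⨅ i, W i) ⊓ U, ⟨?_, hU⟩, fun i => inf_le_left.trans (iInf_le W i), inf_le_right⟩
        rw [SetLike.mem_coe, ← SetLike.mem_coe, Opens.coe_iInf]
        exact Set.mem_iInter.2 hW
      have hb : ∀ i, germRing (Opens.pointGrothendieckTopology x) W₀ ⟨⟨hW₀⟩⟩
          (O.obj.map (homOfLE (hle i)).op (rr i)) = c i :=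
        fun i => (germRing_res O x (homOfLE (hle i)) hW₀ (hW i) (rr i)).trans (hrr i)
      have hg : germ (Opens.pointGrothendieckTopology x) H W₀ ⟨⟨hW₀⟩⟩
          (∑ i, (show (ringSh O).obj.obj (op W₀) from O.obj.map (homOfLE (hle i)).op (rr i)) •
            (show sect H W₀ from H.val.map (homOfLE hWU).op (h i)) : sect H W₀) =
          germ (Opens.pointGrothendieckTopology x) H W₀ ⟨⟨hW₀⟩⟩ 0 := by
        refine (germ_comb H h hU (Over.mk (homOfLE hWU)) hW₀
          (fun i => O.obj.map (homOfLE (hle i)).op (rr i))).trans ?_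
        refine Eq.trans ?_ (map_zero _).symm
        refine Eq.trans ?_ ((hL c).symm.trans hc)
        exact Finset.sum_congr rfl (fun i _ => congrArg
          (fun r => r • germ (Opens.pointGrothendieckTopology x) H U ⟨⟨hU⟩⟩ (h i)) (hb i))
      obtain ⟨V, k, hV, hk⟩ := exists_res_eq_of_germ_eq O x H hW₀ _ _ hg
      rw [map_comb H h hWU k] at hk
      have hk0 : (∑ i, (show (ringSh O).obj.obj (op V) from
          O.obj.map k.op (O.obj.map (homOfLE (hle i)).op (rr i))) •
          (show sect H V from H.val.map (k ≫ homOfLE hWU).op (h i)) : sect H V) = 0 :=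
        hk.trans (map_zero _)
      have h5 : ((phi H h).val.app (op (Over.mk (k ≫ homOfLE hWU)))).hom
          (∑ i, ((SheafOfModules.ιFree (R := (ringSh O).over U) i).val.app
            (op (Over.mk (k ≫ homOfLE hWU)))).hom
            (show (SheafOfModules.unit ((ringSh O).over U)).val.obj
              (op (Over.mk (k ≫ homOfLE hWU))) from
              O.obj.map k.op (O.obj.map (homOfLE (hle i)).op (rr i)))) = 0 :=
        ((phi_sum H h (op (Over.mk (k ≫ homOfLE hWU))) _).trans
          (sum_smul_eq H h (Over.mk (k ≫ homOfLE hWU)) _)).trans hk0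
      have h6 := eq_zero_of_sum_ι_eq_zero (R := (ringSh O).over U)
        (op (Over.mk (k ≫ homOfLE hWU)))
        (fun i => (show ((ringSh O).over U).obj.obj (op (Over.mk (k ≫ homOfLE hWU))) from
          O.obj.map k.op (O.obj.map (homOfLE (hle i)).op (rr i)))) (hinj _ _ h5)
      funext i
      have h7 : O.obj.map k.op (O.obj.map (homOfLE (hle i)).op (rr i)) = 0 := h6 i
      have h8 := germRing_res O x k hV hW₀ (O.obj.map (homOfLE (hle i)).op (rr i))
      rw [h7] at h8
      exact ((hb i).symm.trans h8.symm).trans (map_zero _)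
    · intro m
      obtain ⟨W, hW, t, rfl⟩ := exists_germ_eq O x H m
      have hW' : x ∈ W ⊓ U := ⟨hW, hU⟩
      obtain ⟨a, ha⟩ := hsurj (op (Over.mk (homOfLE inf_le_right : W ⊓ U ⟶ U)))
        (show (H.over U).val.obj (op (Over.mk (homOfLE inf_le_right : W ⊓ U ⟶ U))) from
          H.val.map (homOfLE inf_le_left : W ⊓ U ⟶ W).op t)
      obtain ⟨b, hb⟩ := exists_sum_free (R := (ringSh O).over U)
        (op (Over.mk (homOfLE inf_le_right : W ⊓ U ⟶ U))) a
      obtain ⟨b', hb'⟩ : ∃ b' : T → O.obj.obj (op (W ⊓ U)), b' = b := ⟨b, rfl⟩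
      refine ⟨fun i => germRing (Opens.pointGrothendieckTopology x) (W ⊓ U) ⟨⟨hW'⟩⟩ (b' i), ?_⟩
      rw [hL]
      have h1 := germ_comb H h hU (Over.mk (homOfLE inf_le_right : W ⊓ U ⟶ U)) hW' b'
      refine h1.symm.trans ?_
      have h2 : (∑ i, (show (ringSh O).obj.obj (op (W ⊓ U)) from b' i) •
          (show sect H (W ⊓ U) from H.val.map (homOfLE inf_le_right : W ⊓ U ⟶ U).op (h i)) :
            sect H (W ⊓ U)) = H.val.map (homOfLE inf_le_left : W ⊓ U ⟶ W).op t := by
        rw [hb']
        refine Eq.trans ?_ ha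
        rw [hb]
        exact ((phi_sum H h (op (Over.mk (homOfLE inf_le_right : W ⊓ U ⟶ U))) b).trans
          (sum_smul_eq H h (Over.mk (homOfLE inf_le_right : W ⊓ U ⟶ U)) b)).symm
      refine (congrArg (germ (Opens.pointGrothendieckTopology x) H (W ⊓ U) ⟨⟨hW'⟩⟩) h2).trans ?_
      exact germ_res O x H (homOfLE inf_le_left) hW' hW t
  exact ⟨(LinearEquiv.ofBijective L hbij).symm⟩

end TrivStalk

section Algebra

lemma exists_equiv_fin_of_retract {K : Type u} [CommRing K] [IsLocalRing K] {M N : Type u}
    [AddCommGroup M] [Module K M] [AddCommGroup N] [Module K N]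
    {T : Type u} [Fintype T] (eN : N ≃ₗ[K] (T → K)) (i : M →ₗ[K] N) (p : N →ₗ[K] M)
    (h : p.comp i = LinearMap.id) :
    ∃ r : ℕ, Nonempty (M ≃ₗ[K] (Fin r → K)) := by
  haveI : Module.Free K N := Module.Free.of_equiv eN.symm
  haveI : Module.Finite K N := Module.Finite.equiv eN.symm
  haveI : Module.Projective K M := Module.Projective.of_split i p h
  haveI : Module.Finite K M := Module.Finite.of_surjective p
    (fun m => ⟨i m, LinearMap.congr_fun h m⟩)
  haveI : Module.Free K M := Module.free_of_flat_of_isLocalRing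
  exact ⟨Module.finrank K M, ⟨(Module.finBasis K M).equivFun⟩⟩

end Algebra

section FP

variable {C : Type u} [SmallCategory C] [HasPullbacks C] {J : GrothendieckTopology C}
  {R : Sheaf J RingCat.{u}}

lemma FP_of_iso_free {A : SheafOfModules.{u} R} {T : Type u} [Finite T]
    (e : A ≅ SheafOfModules.free T) : FP A := by
  have w : (0 : SheafOfModules.free (R := R) T ⟶ SheafOfModules.free T) ≫ e.inv = 0 := zero_comp
  refine ⟨SheafOfModules.free T, SheafOfModules.free T, freeFin_free T, freeFin_free T, 0, e.inv, w,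
    ?_, inferInstance⟩
  rw [ShortComplex.exact_iff_mono _ rfl]
  dsimp
  infer_instance

lemma isFinitePresentation_of_iso {A B : SheafOfModules.{u} R} (e : A ≅ B)
    (hA : A.IsFinitePresentation) : B.IsFinitePresentation := by
  rw [isFinitePresentation_iff] at hA ⊢
  intro U
  obtain ⟨S, hS, hS'⟩ := hA U
  exact ⟨S, hS, fun h hh => FP.of_iso (hS' h hh) ((SheafOfModules.overFunctor R _).mapIso e)⟩

lemma isFiniteType_of_isFinitePresentation {A : SheafOfModules.{u} R}
    (hA : A.IsFinitePresentation) : A.IsFiniteType := by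
  rw [isFinitePresentation_iff] at hA
  rw [isFiniteType_iff]
  intro U
  obtain ⟨S, hS, hS'⟩ := hA U
  exact ⟨S, hS, fun h hh => FP.FG (hS' h hh)⟩

/-- a retract of a finitely presented module is finitely presented -/
theorem isFinitePresentation_of_retract {F H : SheafOfModules.{u} R} (i : F ⟶ H) (p : H ⟶ F)
    (hip : i ≫ p = 𝟙 F) (hH : H.IsFinitePresentation) : F.IsFinitePresentation := by
  haveI := hH
  haveI := isFiniteType_of_isFinitePresentation hH
  have w : (𝟙 H - p ≫ i) ≫ p = 0 := by
    rw [Preadditive.sub_comp, Category.id_comp, Category.assoc, hip, Category.comp_id, sub_self]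
  have hc : IsColimit (CokernelCofork.ofπ p w) :=
    CokernelCofork.IsColimit.ofπ _ _ (fun g _ => i ≫ g)
      (fun g hg => by
        rw [Preadditive.sub_comp, Category.id_comp, sub_eq_zero] at hg
        rw [← Category.assoc]
        exact hg.symm)
      (fun g _ m hm => by
        rw [← hm, ← Category.assoc, hip, Category.id_comp])
  exact isFinitePresentation_of_iso
    (IsColimit.coconePointUniqueUpToIso (cokernelIsCokernel (𝟙 H - p ≫ i)) hc)
    (isFinitePresentation_cokernel (𝟙 H - p ≫ i))

end FP

section Final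

variable {O}

theorem isFinitePresentation_of_locallyFree (H : ModSite.Mod O)
    (hH : ∀ x : X, ∃ (U : Opens X) (n : ℕ), x ∈ U ∧
      Nonempty ((ModSite.restr O U).obj H ≅ SheafOfModules.free (ULift.{u} (Fin n)))) :
    SheafOfModules.IsFinitePresentation (R := ringSh O) H := by
  rw [isFinitePresentation_iff]
  intro U
  refine ⟨⟨fun W _ => FP (H.over W), fun {W W'} h hW k => FP.over_of_hom H k hW⟩, ?_,
    fun h hh => hh⟩
  intro y hy
  obtain ⟨Uy, n, hUy, ⟨e⟩⟩ := hH y
  refine ⟨Uy ⊓ U, homOfLE inf_le_right, ?_, ⟨hUy, hy⟩⟩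
  exact FP_of_iso_free (trivOfHom H (homOfLE inf_le_left) e)

/-- **A direct summand of a finite locally free module on a locally ringed space is finite
locally free.** -/
theorem exists_free_restr_of_retract
    (hO : ∀ x : X, IsLocalRing (TopCat.Presheaf.stalk (C := CommRingCat.{u}) O.obj x))
    {F H : ModSite.Mod O}
    (hH : ∀ x : X, ∃ (U : Opens X) (n : ℕ), x ∈ U ∧
      Nonempty ((ModSite.restr O U).obj H ≅ SheafOfModules.free (ULift.{u} (Fin n))))
    (i : F ⟶ H) (p : H ⟶ F) (hip : i ≫ p = 𝟙 F) (x : X) :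
    ∃ (U : Opens X) (n : ℕ), x ∈ U ∧
      Nonempty ((ModSite.restr O U).obj F ≅ SheafOfModules.free (ULift.{u} (Fin n))) := by
  classical
  haveI hFP : SheafOfModules.IsFinitePresentation (R := ringSh O) F :=
    isFinitePresentation_of_retract i p hip (isFinitePresentation_of_locallyFree H hH)
  obtain ⟨U, n, hU, ⟨eH⟩⟩ := hH x
  obtain ⟨eN⟩ := nonempty_stalk_equiv_of_triv H hU eH
  haveI := isLocalRing_stalkRing O x (hO x)
  have hcomp : (stalkMap (Opens.pointGrothendieckTopology x) p).hom.comp
      (stalkMap (Opens.pointGrothendieckTopology x) i).hom = LinearMap.id := by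
    ext m
    refine (stalkMap_comp_apply i p m).symm.trans ?_
    rw [hip]
    exact stalkMap_id_apply m
  obtain ⟨r, ⟨eF⟩⟩ := exists_equiv_fin_of_retract eN
    (stalkMap (Opens.pointGrothendieckTopology x) i).hom
    (stalkMap (Opens.pointGrothendieckTopology x) p).hom hcomp
  obtain ⟨V, hV, hiso⟩ := exists_free_restr F x r ⟨eF⟩
  exact ⟨V, r, hV, hiso⟩

end Final

end Groth.Agent.Lib.Helper19.ModSummandFree
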