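import Groth.Agent.Lib.Helper19.ModGenC
import Groth.Agent.Lib.Helper19.AbBifunctor
import Groth.Agent.Lib.Helper19.HomColim
import Groth.Agent.Lib.Helper94.ModOver

/-!
# Tensor products of modules with generators / presentations (helper19)

Namespace `Groth.Agent.Lib.Helper19.ModTensorFin`.
* `freeTensorFreeIso`: `free I ⊗ free K ≅ free (Σ _ : I, K)`.
* `FreeC.tensor`, `GenC.tensor`, `PresC.tensor`: the classes of `ModGenC` are stable under `⊗`.
* `loc_tensor`: a local property of slices stable under `⊗` and isomorphisms passes to `F ⊗ G`.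
-/

set_option autoImplicit false
set_option linter.unusedSectionVars false
set_option linter.style.haveILetI false
universe u
open CategoryTheory CategoryTheory.Limits Opposite

namespace Groth.Agent.Lib.Helper19.ModTensorFin

open ModSite Groth.Agent.Lib.Helper94.ModTensor Groth.Agent.Lib.Helper94.ModFlat
  Groth.Agent.Lib.Helper19.ModGenC Groth.Agent.Lib.Helper19.HomColim

section Slice

variable {C : Type u} [SmallCategory C] {J : GrothendieckTopology C} (O : Sheaf J CommRingCat.{u})

/-- `free I ⊗ free K ≅ free (Σ _ : I, K)` -/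
noncomputable def freeTensorFreeIso (I K : Type u) :
    ((tensorBi O).obj (SheafOfModules.free I)).obj (SheafOfModules.free K) ≅
      SheafOfModules.free (R := ringSh O) (Σ _ : I, K) :=
  PreservesCoproduct.iso (tensR O (SheafOfModules.free K)) (fun _ : I => ModSite.unit O) ≪≫
    Sigma.mapIso (fun _ : I => unitTensIso O (SheafOfModules.free K)) ≪≫
    @sigmaSigmaIso (Mod O) _ I (fun _ : I => K) (fun (_ : I) (_ : K) => ModSite.unit O)
      (fun _ => inferInstance) inferInstance

variable {O} {c : Type u → Prop}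

lemma FreeC.tensor (hc : ∀ I K : Type u, c I → c K → c (Σ _ : I, K)) {P Q : Mod O}
    (hP : FreeC c P) (hQ : FreeC c Q) : FreeC c (((tensorBi O).obj P).obj Q) := by
  obtain ⟨I, hI, ⟨eP⟩⟩ := hP
  obtain ⟨K, hK, ⟨eQ⟩⟩ := hQ
  exact ⟨Σ _ : I, K, hc I K hI hK,
    ⟨((tensorBi O).mapIso eP).app Q ≪≫ ((tensorBi O).obj (SheafOfModules.free I)).mapIso eQ ≪≫
      freeTensorFreeIso O I K⟩⟩

lemma FreeC.coprod (hc : ∀ I K : Type u, c I → c K → c (I ⊕ K)) {P Q : Mod O}
    (hP : FreeC c P) (hQ : FreeC c Q) : FreeC c (P ⨿ Q) := by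
  obtain ⟨I, hI, ⟨eP⟩⟩ := hP
  obtain ⟨K, hK, ⟨eQ⟩⟩ := hQ
  exact ⟨I ⊕ K, hc I K hI hK, ⟨coprod.mapIso eP eQ ≪≫ SheafOfModules.freeSumIso I K⟩⟩

lemma GenC.tensor (hc : ∀ I K : Type u, c I → c K → c (Σ _ : I, K)) {A B : Mod O}
    (hA : GenC c A) (hB : GenC c B) : GenC c (((tensorBi O).obj A).obj B) := by
  obtain ⟨P, hP, p, _⟩ := hA
  obtain ⟨Q, hQ, q, _⟩ := hB
  exact ⟨_, FreeC.tensor hc hP hQ, _, AbBifunctor.epi_tensor (tensorBi O) p q⟩

lemma PresC.tensor (hc : ∀ I K : Type u, c I → c K → c (Σ _ : I, K))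
    (hc' : ∀ I K : Type u, c I → c K → c (I ⊕ K)) {A B : Mod O}
    (hA : PresC c A) (hB : PresC c B) : PresC c (((tensorBi O).obj A).obj B) := by
  obtain ⟨P₁, P₀, hP₁, hP₀, ρA, pA, wA, hTA, _⟩ := hA
  obtain ⟨Q₁, Q₀, hQ₁, hQ₀, ρB, pB, wB, hTB, _⟩ := hB
  obtain ⟨w, hw, hepi⟩ :=
    AbBifunctor.exact_tensor_presentations (tensorBi O) ρA pA wA hTA ρB pB wB hTB
  exact ⟨_, _, FreeC.coprod hc' (FreeC.tensor hc hP₁ hQ₀) (FreeC.tensor hc hP₀ hQ₁),
    FreeC.tensor hc hP₀ hQ₀, _, _, w, hw, hepi⟩

end Slice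

section Local

variable {C : Type u} [SmallCategory C] {J : GrothendieckTopology C} (O : Sheaf J CommRingCat.{u})

/-- a local property of slices which is stable under `⊗` and isomorphisms passes to `F ⊗ G` -/
theorem loc_tensor (Q : ∀ W : C, SheafOfModules.{u} ((ringSh O).over W) → Prop)
    (hiso : ∀ (W : C) (A B : SheafOfModules.{u} ((ringSh O).over W)), (A ≅ B) → Q W A → Q W B)
    (htens : ∀ (W : C) (A B : Mod (O.over W)), Q W A → Q W B →
      Q W (((tensorBi (O.over W)).obj A).obj B))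
    (F G : Mod O) (hF : Loc Q F) (hG : Loc Q G) : Loc Q (((tensorBi O).obj F).obj G) := by
  intro U
  obtain ⟨S₁, hS₁, h₁⟩ := hF U
  obtain ⟨S₂, hS₂, h₂⟩ := hG U
  refine ⟨S₁ ⊓ S₂, J.intersection_covering hS₁ hS₂, ?_⟩
  intro W h hh
  exact hiso W _ _ (Groth.Agent.Lib.Helper94.ModOver.restrTensorIso O W F G).symm
    (htens W _ _ (h₁ h hh.1) (h₂ h hh.2))

end Local

section Main

variable {C : Type u} [SmallCategory C] [HasPullbacks C] {J : GrothendieckTopology C}
  (O : Sheaf J CommRingCat.{u}) (F G : Mod O)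

theorem isFiniteType_iff_loc (M : Mod O) :
    SheafOfModules.IsFiniteType (R := ringSh O) M ↔ Loc (fun _ A => GenC (fun I => Finite I) A) M :=
  ModFG.isFiniteType_iff M

theorem isFinitePresentation_iff_loc (M : Mod O) :
    SheafOfModules.IsFinitePresentation (R := ringSh O) M ↔ Loc (fun _ A => PresC (fun I => Finite I) A) M :=
  ModFP.isFinitePresentation_iff M

theorem nonempty_localGeneratorsData_tensor
    (hF : Nonempty (SheafOfModules.LocalGeneratorsData.{u} (R := ringSh O) F))
    (hG : Nonempty (SheafOfModules.LocalGeneratorsData.{u} (R := ringSh O) G)) :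
    Nonempty (SheafOfModules.LocalGeneratorsData.{u} (R := ringSh O) (((tensorBi O).obj F).obj G)) := by
  rw [nonempty_localGeneratorsData_iff] at hF hG ⊢
  exact loc_tensor O _ (fun W A B e h => h.of_iso e)
    (fun W A B hA hB => GenC.tensor (fun _ _ _ _ => trivial) hA hB) F G hF hG

theorem isFiniteType_tensor (hF : SheafOfModules.IsFiniteType (R := ringSh O) F)
    (hG : SheafOfModules.IsFiniteType (R := ringSh O) G) :
    SheafOfModules.IsFiniteType (R := ringSh O) (((tensorBi O).obj F).obj G) := by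
  rw [isFiniteType_iff_loc] at hF hG ⊢
  exact loc_tensor O _ (fun W A B e h => h.of_iso e)
    (fun W A B hA hB => GenC.tensor (fun I K (_ : Finite I) (_ : Finite K) =>
      (inferInstance : Finite (Σ _ : I, K))) hA hB) F G hF hG

theorem isQuasicoherent_tensor (hF : SheafOfModules.IsQuasicoherent (R := ringSh O) F)
    (hG : SheafOfModules.IsQuasicoherent (R := ringSh O) G) :
    SheafOfModules.IsQuasicoherent (R := ringSh O) (((tensorBi O).obj F).obj G) := by
  rw [isQuasicoherent_iff] at hF hG ⊢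
  exact loc_tensor O _ (fun W A B e h => h.of_iso e)
    (fun W A B hA hB => PresC.tensor (fun _ _ _ _ => trivial) (fun _ _ _ _ => trivial) hA hB)
    F G hF hG

theorem isFinitePresentation_tensor (hF : SheafOfModules.IsFinitePresentation (R := ringSh O) F)
    (hG : SheafOfModules.IsFinitePresentation (R := ringSh O) G) :
    SheafOfModules.IsFinitePresentation (R := ringSh O) (((tensorBi O).obj F).obj G) := by
  rw [isFinitePresentation_iff_loc] at hF hG ⊢
  exact loc_tensor O _ (fun W A B e h => h.of_iso e)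
    (fun W A B hA hB => PresC.tensor
      (fun I K (_ : Finite I) (_ : Finite K) => (inferInstance : Finite (Σ _ : I, K)))
      (fun I K (_ : Finite I) (_ : Finite K) => (inferInstance : Finite (I ⊕ K))) hA hB)
    F G hF hG

theorem isLocallyFree_tensor (hF : SheafOfModules.IsLocallyFree (R := ringSh O) F)
    (hG : SheafOfModules.IsLocallyFree (R := ringSh O) G) :
    SheafOfModules.IsLocallyFree (R := ringSh O) (((tensorBi O).obj F).obj G) := by
  rw [isLocallyFree_iff] at hF hG ⊢
  exact loc_tensor O _ (fun W A B e h => h.of_iso e)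
    (fun W A B hA hB => FreeC.tensor (fun _ _ _ _ => trivial) hA hB) F G hF hG

end Main

end Groth.Agent.Lib.Helper19.ModTensorFin
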