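import Groth.Prelude.Def_PP16
import Mathlib.LinearAlgebra.TensorProduct.RightExactness
import Mathlib.LinearAlgebra.TensorProduct.Quotient

/-! Helper lemmas on principal parts (helper19). -/

set_option autoImplicit false
universe u
open scoped TensorProduct
open PP16

namespace Groth.Agent.Lib.Helper19

section general

variable {R R' : Type u} [CommRing R] [CommRing R']

/-- A ring hom between quotients `R/J → R'/J'` induced by a surjection `π` with `J.map π = J'`
is surjective with kernel the image of `ker π`. -/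
theorem quot_map_surj_ker (π : R →+* R') (hπ : Function.Surjective π) (J : Ideal R) (J' : Ideal R')
    (hJ : J.map π = J') (φ : R ⧸ J →+* R' ⧸ J')
    (hφ : ∀ x, φ (Ideal.Quotient.mk J x) = Ideal.Quotient.mk J' (π x)) :
    Function.Surjective φ ∧ RingHom.ker φ = (RingHom.ker π).map (Ideal.Quotient.mk J) := by
  refine ⟨?_, ?_⟩
  · intro y
    obtain ⟨y, rfl⟩ := Ideal.Quotient.mk_surjective y
    obtain ⟨x, rfl⟩ := hπ y
    exact ⟨Ideal.Quotient.mk _ x, hφ x⟩
  · ext x
    obtain ⟨x, rfl⟩ := Ideal.Quotient.mk_surjective x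
    rw [RingHom.mem_ker, hφ, Ideal.Quotient.eq_zero_iff_mem, ← hJ,
      ← Ideal.mem_comap, Ideal.comap_map_of_surjective _ hπ, ← RingHom.ker_eq_comap_bot]
    constructor
    · intro hx
      obtain ⟨a, ha, b, hb, rfl⟩ := Submodule.mem_sup.mp hx
      rw [map_add, (Ideal.Quotient.eq_zero_iff_mem).mpr ha, zero_add]
      exact Ideal.mem_map_of_mem _ hb
    · intro hx
      rw [Ideal.mem_map_iff_of_surjective _ Ideal.Quotient.mk_surjective] at hx
      obtain ⟨y, hy, hxy⟩ := hx
      have : x - y ∈ J := by
        rw [← Ideal.Quotient.eq_zero_iff_mem, map_sub, hxy, sub_self]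
      have hx' : x = (x - y) + y := by ring
      rw [hx']
      exact Submodule.add_mem_sup this hy

end general

section functoriality

variable (A B A' B' : Type u) [CommRing A] [CommRing B] [Algebra A B]
  [CommRing A'] [CommRing B'] [Algebra A' B'] [Algebra A A'] [Algebra B B'] [Algebra A B']
  [IsScalarTower A A' B'] [IsScalarTower A B B']

/-- If `B → B'` is surjective then `B ⊗_A B → B' ⊗_{A'} B'` is surjective. -/
theorem tensorMap_surjective_of_surjective (h : Function.Surjective (algebraMap B B')) :
    Function.Surjective (tensorMap A B A' B') := by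
  intro y
  induction y using TensorProduct.induction_on with
  | zero => exact ⟨0, map_zero _⟩
  | tmul b c =>
    obtain ⟨b, rfl⟩ := h b
    obtain ⟨c, rfl⟩ := h c
    exact ⟨b ⊗ₜ c, tensorMap_tmul A B A' B' b c⟩
  | add x y hx hy =>
    obtain ⟨x, rfl⟩ := hx
    obtain ⟨y, rfl⟩ := hy
    exact ⟨x + y, map_add _ _ _⟩

/-- If `B → B'` is surjective then the image of the diagonal ideal is the diagonal ideal. -/
theorem ideal_map_tensorMap_eq_of_surjective (h : Function.Surjective (algebraMap B B')) :
    (KaehlerDifferential.ideal A B).map (tensorMap A B A' B') = KaehlerDifferential.ideal A' B' := by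
  apply le_antisymm (ideal_map_tensorMap_le A B A' B')
  rw [← KaehlerDifferential.span_range_eq_ideal, Ideal.span_le]
  rintro _ ⟨s, rfl⟩
  obtain ⟨b, rfl⟩ := h s
  have : (1 : B') ⊗ₜ[A'] (algebraMap B B' b) - (algebraMap B B' b) ⊗ₜ[A'] (1 : B') =
      tensorMap A B A' B' ((1 : B) ⊗ₜ[A] b - b ⊗ₜ[A] (1 : B)) := by
    rw [map_sub, tensorMap_tmul, tensorMap_tmul, map_one]
  change (1 : B') ⊗ₜ[A'] (algebraMap B B' b) - (algebraMap B B' b) ⊗ₜ[A'] (1 : B') ∈ _
  rw [this]
  exact Ideal.mem_map_of_mem _ (KaehlerDifferential.one_smul_sub_smul_one_mem_ideal A b)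

/-- Surjectivity and kernel of `P^n_{B/A} → P^n_{B'/A'}` when `B → B'` is surjective. -/
theorem map_surj_ker_of_surjective (n : ℕ) (h : Function.Surjective (algebraMap B B')) :
    Function.Surjective (PP16.map n A B A' B') ∧
      RingHom.ker (PP16.map n A B A' B') =
        (RingHom.ker (tensorMap A B A' B')).map
          (Ideal.Quotient.mk ((KaehlerDifferential.ideal A B) ^ (n + 1))) := by
  have := quot_map_surj_ker (tensorMap A B A' B' : B ⊗[A] B →+* B' ⊗[A'] B')
    (tensorMap_surjective_of_surjective A B A' B' h) ((KaehlerDifferential.ideal A B) ^ (n + 1))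
    ((KaehlerDifferential.ideal A' B') ^ (n + 1))
    (by rw [Ideal.map_pow]; congr 1; exact ideal_map_tensorMap_eq_of_surjective A B A' B' h)
    (PP16.map n A B A' B' : P n A B →+* P n A' B') (fun x => rfl)
  exact this

end functoriality

end Groth.Agent.Lib.Helper19
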