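import Groth.Agent.Lib.Helper19.PPBasic

/-! Helper lemmas on principal parts: towers `A → B → C` (helper19). -/

set_option autoImplicit false
universe u
open scoped TensorProduct
open PP16

namespace Groth.Agent.Lib.Helper19

section tower

variable (A B C : Type u) [CommRing A] [CommRing B] [CommRing C]
    [Algebra A B] [Algebra B C] [Algebra A C] [IsScalarTower A B C]

theorem tensorMap_tower_apply (x : C ⊗[A] C) :
    tensorMap A C B C x = TensorProduct.mapOfCompatibleSMul B A B C C x := by
  induction x using TensorProduct.induction_on with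
  | zero => simp
  | tmul b c => rw [tensorMap_tmul]; rfl
  | add x y hx hy => rw [map_add, map_add, hx, hy]

theorem smul_eq_tmul_one_mul (b : B) (x : C ⊗[A] C) :
    b • x = (algebraMap B C b ⊗ₜ[A] (1 : C)) * x := by
  induction x using TensorProduct.induction_on with
  | zero => simp
  | tmul c d =>
    rw [Algebra.TensorProduct.tmul_mul_tmul, one_mul, TensorProduct.smul_tmul',
      Algebra.smul_def]
  | add x y hx1 hy1 => rw [smul_add, mul_add, hx1, hy1]

/-- The kernel of `C ⊗_A C → C ⊗_B C` is generated by the image of the diagonal ideal of `B/A`. -/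
theorem ker_tensorMap_tower :
    RingHom.ker (tensorMap A C B C) =
      (KaehlerDifferential.ideal A B).map (tensorMap A B A C) := by
  apply le_antisymm
  · intro x hx
    rw [RingHom.mem_ker, tensorMap_tower_apply] at hx
    have hx' : x ∈ LinearMap.ker (TensorProduct.mapOfCompatibleSMul B A B C C) := hx
    rw [TensorProduct.AlgebraTensorModule.ker_mapOfCompatibleSMul] at hx'
    refine Submodule.span_induction (p := fun x _ =>
      x ∈ (KaehlerDifferential.ideal A B).map (tensorMap A B A C)) ?_ ?_ ?_ ?_ hx'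
    · rintro _ ⟨b, m, n, rfl⟩
      have : (b • m) ⊗ₜ[A] n - m ⊗ₜ[A] (b • n) =
          (m ⊗ₜ[A] n) * tensorMap A B A C (b ⊗ₜ[A] (1 : B) - (1 : B) ⊗ₜ[A] b) := by
        rw [map_sub, tensorMap_tmul, tensorMap_tmul, map_one, mul_sub,
          Algebra.TensorProduct.tmul_mul_tmul, Algebra.TensorProduct.tmul_mul_tmul, mul_one,
          mul_one, Algebra.smul_def, Algebra.smul_def, mul_comm m, mul_comm n]
      rw [this]
      apply Ideal.mul_mem_left
      apply Ideal.mem_map_of_mem
      have := KaehlerDifferential.one_smul_sub_smul_one_mem_ideal A b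
      rw [← neg_sub]
      exact neg_mem this
    · exact Submodule.zero_mem _
    · intro x y _ _ hx hy
      exact Submodule.add_mem _ hx hy
    · intro b x _ hx
      have := smul_eq_tmul_one_mul A B C b x
      rw [this]
      exact Ideal.mul_mem_left _ _ hx
  · rw [Ideal.map_le_iff_le_comap, ← KaehlerDifferential.span_range_eq_ideal, Ideal.span_le]
    rintro _ ⟨b, rfl⟩
    change tensorMap A B A C ((1 : B) ⊗ₜ[A] b - b ⊗ₜ[A] (1 : B)) ∈ RingHom.ker (tensorMap A C B C)
    rw [RingHom.mem_ker, map_sub, tensorMap_tmul, tensorMap_tmul, map_one, map_sub,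
      tensorMap_tmul, tensorMap_tmul, map_one, sub_eq_zero, Algebra.algebraMap_self,
      RingHom.id_apply, Algebra.algebraMap_eq_smul_one, TensorProduct.tmul_smul,
      TensorProduct.smul_tmul']

end tower

section localization

variable (A A' : Type u) [CommRing A] [CommRing A'] [Algebra A A']

/-- For a localization `A'` of `A`, `x ⊗ 1 = 1 ⊗ x` in `A' ⊗_A A'`. -/
theorem tmul_one_eq_one_tmul_of_isLocalization (R : Submonoid A) [IsLocalization R A'] (x : A') :
    x ⊗ₜ[A] (1 : A') = (1 : A') ⊗ₜ[A] x := by
  obtain ⟨a, r, rfl⟩ := IsLocalization.exists_mk'_eq R x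
  have h1 : (1 : A') = (r : A) • IsLocalization.mk' A' (1 : A) r := by
    rw [Algebra.smul_def, ← IsLocalization.mk'_one (M := R) A' (r : A), ← IsLocalization.mk'_mul]
    simp
  have h2 : (r : A) • IsLocalization.mk' A' a r = a • (1 : A') := by
    rw [Algebra.smul_def, Algebra.smul_def, mul_one, IsLocalization.mk'_spec']
  have h3 : a • IsLocalization.mk' A' (1 : A) r = IsLocalization.mk' A' a r := by
    rw [Algebra.smul_def, ← IsLocalization.mk'_one (M := R) A' a, ← IsLocalization.mk'_mul]
    simp
  calc IsLocalization.mk' A' a r ⊗ₜ[A] (1 : A')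
      = IsLocalization.mk' A' a r ⊗ₜ[A] ((r : A) • IsLocalization.mk' A' (1 : A) r) := by
        rw [← h1]
    _ = ((r : A) • IsLocalization.mk' A' a r) ⊗ₜ[A] IsLocalization.mk' A' (1 : A) r := by
        rw [TensorProduct.smul_tmul]
    _ = (a • (1 : A')) ⊗ₜ[A] IsLocalization.mk' A' (1 : A) r := by rw [h2]
    _ = (1 : A') ⊗ₜ[A] (a • IsLocalization.mk' A' (1 : A) r) := by rw [TensorProduct.smul_tmul]
    _ = (1 : A') ⊗ₜ[A] IsLocalization.mk' A' a r := by rw [h3]

theorem kaehler_ideal_eq_bot_of_isLocalization (R : Submonoid A) [IsLocalization R A'] :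
    KaehlerDifferential.ideal A A' = ⊥ := by
  rw [← KaehlerDifferential.span_range_eq_ideal, Ideal.span_eq_bot]
  rintro _ ⟨x, rfl⟩
  change (1 : A') ⊗ₜ[A] x - x ⊗ₜ[A] (1 : A') = 0
  rw [tmul_one_eq_one_tmul_of_isLocalization A A' R x, sub_self]

end localization

end Groth.Agent.Lib.Helper19
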