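import Mathlib
import Groth.Agent.Lib.Helper19.CechRestrH
import Groth.Agent.Lib.Helper19.CechModUnit
import Groth.Agent.S3090
import Groth.Agent.Lib.Helper19.WidePB

/-!
# Cohomology and `g⁻¹` for a continuous and cocontinuous functor (helper19)

`H^p(U, F ∘ u) ≃ H^p(u U, F)` (S0937) via the slice trick: `Over.post u` preserves finite limits.
-/

set_option autoImplicit false

namespace Groth.Agent.Lib.Helper19.PushCocont

open CategoryTheory Limits Opposite Abelian
open Groth.Agent.Lib.Helper19.CechRestr

universe u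

variable {C D : Type u} [SmallCategory C] [SmallCategory D] [HasPullbacks C]
  (J : GrothendieckTopology C) (K : GrothendieckTopology D) (u : C ⥤ D)

section Post

variable [PreservesLimitsOfShape WalkingCospan u] (U : C)

instance hasFiniteLimits_over : HasFiniteLimits (Over U) :=
  hasFiniteLimits_of_hasTerminal_and_pullbacks

instance post_preservesPullbacks :
    PreservesLimitsOfShape WalkingCospan (Over.post u (X := U)) := by
  have : PreservesLimitsOfShape WalkingCospan (Over.post u (X := U) ⋙ Over.forget (u.obj U)) := by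
    show PreservesLimitsOfShape WalkingCospan (Over.forget U ⋙ u)
    infer_instance
  exact preservesLimitsOfShape_of_reflects_of_preserves (Over.post u (X := U))
    (Over.forget (u.obj U))

instance post_preservesFiniteLimits : PreservesFiniteLimits (Over.post u (X := U)) := by
  have := Groth.Agent.Lib.Helper19.WidePB.overPost_preservesTerminal u U
  exact preservesFiniteLimits_of_preservesTerminal_and_pullbacks _

theorem post_isContinuous (hu : CoverPreserving J K u) :
    (Over.post u (X := U)).IsContinuous (J.over U) (K.over (u.obj U)) := by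
  have : RepresentablyFlat (Over.post u (X := U)) := flat_of_preservesFiniteLimits _
  exact Functor.isContinuous_of_coverPreserving (compatiblePreservingOfFlat _ _) (hu.overPost U)

end Post

section Main

variable [u.IsContinuous J K] [PreservesLimitsOfShape WalkingCospan u] (U : C)
  [(Over.post u (X := U)).IsContinuous (J.over U) (K.over (u.obj U))]

/-- restriction to the slice commutes with `F ↦ F ∘ u`. -/
noncomputable def rPushIso (F : Sheaf K AddCommGrpCat.{u}) :
    (r J U).obj ((CohSite.push K J u).obj F) ≅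
      (CohSite.push (K.over (u.obj U)) (J.over U) (Over.post u (X := U))).obj
        ((r K (u.obj U)).obj F) :=
  (fullyFaithfulSheafToPresheaf _ _).preimageIso
    (NatIso.ofComponents (fun X => Iso.refl _) (by
      intro X Y f
      exact (Category.comp_id _).trans (Category.id_comp _).symm))

theorem sheafH_subsingleton_of_isTotallyAcyclic {C' : Type u} [SmallCategory C']
    {J' : GrothendieckTopology C'} (F : Sheaf J' AddCommGrpCat.{u})
    (hF : CohCx.IsTotallyAcyclic F) (n : ℕ) : Subsingleton (Sheaf.H.{u} F (n + 1)) :=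
  Groth.Agent.Lib.Helper19.AcyclicRes.acyc_of_iso (CechModUnit.constIso J')
    (fun q => hF (CechModUnit.K₀ J') q) n

theorem ext_subsingleton_of_iso {𝒜 : Type*} [Category 𝒜] [Abelian 𝒜] [HasExt.{u} 𝒜]
    {Z F F' : 𝒜} (e : F ≅ F') (n : ℕ) (h : Subsingleton (Ext.{u} Z F' n)) :
    Subsingleton (Ext.{u} Z F n) := by
  refine subsingleton_of_forall_eq 0 fun x => ?_
  have h1 : (x.comp (Ext.mk₀ e.hom) (add_zero n)).comp (Ext.mk₀ e.inv) (add_zero n) = x := by
    rw [Ext.comp_assoc_of_third_deg_zero, Ext.mk₀_comp_mk₀, e.hom_inv_id, Ext.comp_mk₀_id]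
  rw [← h1, Subsingleton.elim (x.comp (Ext.mk₀ e.hom) (add_zero n)) 0, Ext.zero_comp]

variable (hu : CoverPreserving J K u)

include hu in
theorem hacyc (I : Sheaf K AddCommGrpCat.{u}) [Injective I] (n : ℕ) :
    Subsingleton (CohSite.HU ((CohSite.push K J u).obj I) (n + 1) U) := by
  obtain ⟨e⟩ := HU_equiv_H_over J U ((CohSite.push K J u).obj I) (n + 1)
  have hI' : CohCx.IsTotallyAcyclic ((r K (u.obj U)).obj I) := fun K' q =>
    subsingleton_of_forall_eq 0 fun x => Ext.eq_zero_of_injective x
  have h2 := Groth.Agent.S3090.result (K.over (u.obj U)) (J.over U) (Over.post u (X := U))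
    (hu.overPost U) _ hI'
  have h3 := sheafH_subsingleton_of_isTotallyAcyclic _ h2 n
  have h4 := ext_subsingleton_of_iso (rPushIso J K u U I) (n + 1) h3
  exact e.toEquiv.subsingleton

/-- degree zero comparison. -/
noncomputable def e0 (F : Sheaf K AddCommGrpCat.{u}) :
    CohSite.HU F 0 (u.obj U) ≃+ CohSite.HU ((CohSite.push K J u).obj F) 0 U :=
  (Groth.Agent.Lib.Cohomology.SiteH.sectionsEquivH0 K F (u.obj U)).symm.trans
    (Groth.Agent.Lib.Cohomology.SiteH.sectionsEquivH0 J ((CohSite.push K J u).obj F) U)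

theorem e0_apply (F : Sheaf K AddCommGrpCat.{u}) (s : F.obj.obj (op (u.obj U))) :
    e0 J K u U F (Groth.Agent.Lib.Cohomology.SiteH.sectionsEquivH0 K F (u.obj U) s) =
      Groth.Agent.Lib.Cohomology.SiteH.sectionsEquivH0 J ((CohSite.push K J u).obj F) U s := by
  show Groth.Agent.Lib.Cohomology.SiteH.sectionsEquivH0 J ((CohSite.push K J u).obj F) U
    ((Groth.Agent.Lib.Cohomology.SiteH.sectionsEquivH0 K F (u.obj U)).symm
      (Groth.Agent.Lib.Cohomology.SiteH.sectionsEquivH0 K F (u.obj U) s)) = _
  rw [AddEquiv.symm_apply_apply]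

theorem e0_comp {F G' : Sheaf K AddCommGrpCat.{u}} (g : F ⟶ G')
    (x : CohSite.HU F 0 (u.obj U)) :
    e0 J K u U G' (x.comp (Ext.mk₀ g) (add_zero 0)) =
      (e0 J K u U F x).comp (Ext.mk₀ ((CohSite.push K J u).map g)) (add_zero 0) := by
  obtain ⟨s, rfl⟩ := (Groth.Agent.Lib.Cohomology.SiteH.sectionsEquivH0 K F (u.obj U)).surjective x
  rw [← Groth.Agent.Lib.Cohomology.SiteH.sectionsEquivH0_naturality, e0_apply, e0_apply]
  exact Groth.Agent.Lib.Cohomology.SiteH.sectionsEquivH0_naturality J
    ((CohSite.push K J u).map g) U s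

variable [u.IsCocontinuous J K]

theorem push_map_shortExact (S : ShortComplex (Sheaf K AddCommGrpCat.{u})) (hS : S.ShortExact) :
    (S.map (CohSite.push K J u)).ShortExact := by
  have h1 : PreservesLimitsOfSize.{0, 0} (CohSite.push K J u) :=
    (u.sheafAdjunctionContinuous AddCommGrpCat.{u} J K).rightAdjoint_preservesLimits
  have h2 : PreservesColimitsOfSize.{0, 0} (CohSite.push K J u) :=
    (u.sheafAdjunctionCocontinuous AddCommGrpCat.{u} J K).leftAdjoint_preservesColimits
  have h3 : PreservesFiniteLimits (CohSite.push K J u) :=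
    PreservesLimitsOfSize.preservesFiniteLimits _
  have h4 : PreservesFiniteColimits (CohSite.push K J u) :=
    PreservesColimitsOfSize.preservesFiniteColimits _
  exact hS.map_of_exact (CohSite.push K J u)

include hu in
/-- **S0937**. -/
theorem HU_push_equiv (F : Sheaf K AddCommGrpCat.{u}) (p : ℕ) :
    Nonempty (CohSite.HU ((CohSite.push K J u).obj F) p U ≃+ CohSite.HU F p (u.obj U)) := by
  obtain ⟨e⟩ := Groth.Agent.Lib.Cohomology.ext_comparison.{u, u, u, u, u + 1, u + 1}
    (𝒜 := Sheaf K AddCommGrpCat.{u}) (ℬ := Sheaf J AddCommGrpCat.{u}) (CohSite.push K J u)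
    (push_map_shortExact J K u) (CohCx.freeSheaf K (u.obj U)) (CohCx.freeSheaf J U)
    (e0 J K u U) (fun g x => e0_comp J K u U g x)
    (fun I _ n => hacyc J K u U hu I n) p F
  exact ⟨e.symm⟩

end Main


end Groth.Agent.Lib.Helper19.PushCocont
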