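import Mathlib
import Groth.Agent.Lib.Helper19.PushCocont

/-!
# Global cohomology and `g⁻¹` for a continuous and cocontinuous functor (helper19, S0886)
-/

set_option autoImplicit false

namespace Groth.Agent.Lib.Helper19.PushCocont

open CategoryTheory Limits Opposite Abelian

universe u

section ExtIso

variable {𝒜 : Type*} [Category 𝒜] [Abelian 𝒜] [HasExt.{u} 𝒜]

/-- `Ext` is invariant under isomorphism in the first variable. -/
noncomputable def extIsoLeft {Z Z' : 𝒜} (e : Z ≅ Z') (F : 𝒜) (n : ℕ) :
    Ext.{u} Z F n ≃+ Ext.{u} Z' F n where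
  toFun x := (Ext.mk₀ e.inv).comp x (zero_add n)
  invFun y := (Ext.mk₀ e.hom).comp y (zero_add n)
  left_inv x := by
    show (Ext.mk₀ e.hom).comp ((Ext.mk₀ e.inv).comp x (zero_add n)) (zero_add n) = x
    rw [← Ext.comp_assoc_of_second_deg_zero, Ext.mk₀_comp_mk₀, e.hom_inv_id, Ext.mk₀_id_comp]
  right_inv y := by
    show (Ext.mk₀ e.inv).comp ((Ext.mk₀ e.hom).comp y (zero_add n)) (zero_add n) = y
    rw [← Ext.comp_assoc_of_second_deg_zero, Ext.mk₀_comp_mk₀, e.inv_hom_id, Ext.mk₀_id_comp]
  map_add' x y := Ext.comp_add _ _ _ _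

end ExtIso

variable {C : Type u} [SmallCategory C] (J : GrothendieckTopology C)

/-- the representable presheaf of a terminal object is the terminal presheaf. -/
noncomputable def yonedaTerminalIso {T : C} (hT : IsTerminal T) :
    yoneda.obj T ≅ (Functor.const Cᵒᵖ).obj PUnit.{u + 1} :=
  NatIso.ofComponents (fun X =>
    { hom := TypeCat.ofHom fun _ => PUnit.unit
      inv := TypeCat.ofHom fun _ => hT.from X.unop
      hom_inv_id := by
        ext f
        exact hT.hom_ext _ _
      inv_hom_id := rfl }) (by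
    intro X Y f
    rfl)

/-- the free abelian sheaf on a terminal object is the constant sheaf `ℤ`. -/
noncomputable def freeSheafTerminalIso {T : C} (hT : IsTerminal T) :
    CohCx.freeSheaf J T ≅ CechModUnit.constZ J :=
  (presheafToSheaf J AddCommGrpCat.{u}).mapIso
    (Functor.isoWhiskerRight (yonedaTerminalIso hT) AddCommGrpCat.free.{u}) ≪≫
    CechModUnit.constIso J

/-- cohomology over a terminal object is global cohomology. -/
noncomputable def HU_terminal_equiv {T : C} (hT : IsTerminal T) (F : Sheaf J AddCommGrpCat.{u})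
    (n : ℕ) : CohSite.HU F n T ≃+ Sheaf.H.{u} F n :=
  extIsoLeft (freeSheafTerminalIso J hT) F n

/-- **S0886** (full faithfulness is not needed). -/
theorem H_push_equiv {D : Type u} [SmallCategory D] (K : GrothendieckTopology D) (u : C ⥤ D)
    [u.IsCocontinuous J K] [u.IsContinuous J K] (hu : CoverPreserving J K u)
    [HasPullbacks C] [PreservesLimitsOfShape WalkingCospan u]
    [HasTerminal C] [PreservesLimit (Functor.empty.{0} C) u]
    (F : Sheaf K AddCommGrpCat.{u}) (p : ℕ) :
    Nonempty (Sheaf.H.{u} ((CohSite.push K J u).obj F) p ≃+ Sheaf.H.{u} F p) := by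
  have := post_isContinuous J K u (⊤_ C) hu
  obtain ⟨e⟩ := HU_push_equiv J K u (⊤_ C) hu F p
  have hT : IsTerminal (u.obj (⊤_ C)) := IsTerminal.isTerminalObj u (⊤_ C) terminalIsTerminal
  exact ⟨((HU_terminal_equiv J terminalIsTerminal ((CohSite.push K J u).obj F) p).symm.trans
    e).trans (HU_terminal_equiv K hT F p)⟩

end Groth.Agent.Lib.Helper19.PushCocont
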