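import Groth.Agent.Lib.Helper19.CechDisjoint
import Groth.Agent.Lib.Helper19.PushCocontGlobal
import Groth.Agent.S0493

/-!
# Profinite spaces are acyclic (helper19)
-/

set_option autoImplicit false
universe u
open CategoryTheory CategoryTheory.Limits TopologicalSpace Opposite

namespace Groth.Agent.Lib.Helper19.Profinite

variable {X : TopCat.{u}}

/-- the clopen opens -/
def B (X : TopCat.{u}) : Set (Opens X) := {U | IsClopen (U : Set X)}

/-- pairwise disjoint families of clopens with clopen union -/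
def Cov (X : TopCat.{u}) (ι : Type u) (V : ι → Opens X) : Prop :=
  (∀ i, IsClopen (V i : Set X)) ∧ IsClopen ((iSup V : Opens X) : Set X) ∧
    Pairwise (fun i j => Disjoint (V i) (V j))

lemma isBasis_B [CompactSpace X] [T2Space X] [TotallyDisconnectedSpace X] :
    Opens.IsBasis (B X) := by
  have h := isTopologicalBasis_isClopen (X := X)
  have he : ((↑) : Opens X → Set X) '' (B X) = {s : Set X | IsClopen s} := by
    ext s
    constructor
    · rintro ⟨U, hU, rfl⟩
      exact hU
    · intro hs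
      exact ⟨⟨s, hs.isOpen⟩, hs, rfl⟩
  unfold Opens.IsBasis
  rw [he]
  exact h

lemma h1 (ι : Type u) (V : ι → Opens X) (hV : Cov X ι V) :
    iSup V ∈ B X ∧ ∀ (p : ℕ) (a : Fin (p + 1) → ι), (iInf fun k => V (a k)) ∈ B X := by
  refine ⟨hV.2.1, fun p a => ?_⟩
  change IsClopen ((⨅ k, V (a k) : Opens X) : Set X)
  rw [Opens.coe_iInf]
  exact isClopen_iInter_of_finite (fun k => hV.1 (a k))

lemma h2 [CompactSpace X] [T2Space X] [TotallyDisconnectedSpace X]
    (U : Opens X) (hU : U ∈ B X) (κ : Type u) (W : κ → Opens X) (hW : iSup W = U) :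
    ∃ (ι : Type u) (V : ι → Opens X), Cov X ι V ∧ iSup V = U ∧ ∀ i, ∃ k, V i ≤ W k := by
  classical
  have hUc : IsCompact (U : Set X) := (show IsClopen (U : Set X) from hU).isClosed.isCompact
  have hWU : ∀ k, ((W k : Opens X) : Set X) ⊆ (U : Set X) := by
    intro k y hy
    have h0 : y ∈ iSup W := Opens.mem_iSup.2 ⟨k, hy⟩
    rw [hW] at h0
    exact h0
  -- choose clopen neighbourhoods inside members of the cover
  have hx : ∀ x : (U : Set X), ∃ (k : κ) (C : Set X), IsClopen C ∧ (x : X) ∈ C ∧ C ⊆ W k := by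
    intro x
    have hxU : (x : X) ∈ iSup W := by rw [hW]; exact x.2
    obtain ⟨k, hk⟩ := Opens.mem_iSup.1 hxU
    obtain ⟨C, hC, hxC, hCW⟩ :=
      (isTopologicalBasis_isClopen (X := X)).exists_subset_of_mem_open hk (W k).isOpen
    exact ⟨k, C, hC, hxC, hCW⟩
  choose k C hC hxC hCW using hx
  obtain ⟨t, ht⟩ := hUc.elim_finite_subcover (fun x : (U : Set X) => C x)
    (fun x => (hC x).isOpen) (fun y hy => Set.mem_iUnion.2 ⟨⟨y, hy⟩, hxC ⟨y, hy⟩⟩)
  let e := t.equivFin
  let f : Fin t.card → Set X := fun i => C (e.symm i)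
  have hfU : ∀ i, f i ⊆ (U : Set X) := fun i => (hCW _).trans (hWU _)
  have hDc : ∀ i, IsClopen (disjointed f i) := fun i =>
    disjointedRec (fun s j hs => hs.diff (hC _)) (hC (e.symm i))
  refine ⟨ULift.{u} (Fin t.card), fun i => ⟨disjointed f i.down, (hDc i.down).isOpen⟩, ?_, ?_, ?_⟩
  · have hsup : ((⨆ i : ULift.{u} (Fin t.card),
        (⟨disjointed f i.down, (hDc i.down).isOpen⟩ : Opens X) : Opens X) : Set X) = U := by
      rw [Opens.coe_iSup]
      apply Set.Subset.antisymm
      · intro y hy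
        obtain ⟨i, hi⟩ := Set.mem_iUnion.1 hy
        exact hfU i.down (disjointed_subset f i.down hi)
      · intro y hy
        have h3 : y ∈ ⋃ i, f i := by
          obtain ⟨x, hx⟩ := Set.mem_iUnion.1 (ht hy)
          obtain ⟨hxt, hyx⟩ := Set.mem_iUnion.1 hx
          refine Set.mem_iUnion.2 ⟨e ⟨x, hxt⟩, ?_⟩
          change y ∈ C (e.symm (e ⟨x, hxt⟩))
          rw [Equiv.symm_apply_apply]
          exact hyx
        rw [← iUnion_disjointed] at h3
        obtain ⟨i, hi⟩ := Set.mem_iUnion.1 h3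
        exact Set.mem_iUnion.2 ⟨⟨i⟩, hi⟩
    refine ⟨fun i => hDc i.down, ?_, ?_⟩
    · rw [hsup]
      exact hU
    · intro i j hij
      rw [← Opens.coe_disjoint]
      exact disjoint_disjointed f (fun h => hij (ULift.ext _ _ h))
  · apply Opens.ext
    rw [Opens.coe_iSup]
    apply Set.Subset.antisymm
    · intro y hy
      obtain ⟨i, hi⟩ := Set.mem_iUnion.1 hy
      exact hfU i.down (disjointed_subset f i.down hi)
    · intro y hy
      have h3 : y ∈ ⋃ i, f i := by
        obtain ⟨x, hx⟩ := Set.mem_iUnion.1 (ht hy)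
        obtain ⟨hxt, hyx⟩ := Set.mem_iUnion.1 hx
        refine Set.mem_iUnion.2 ⟨e ⟨x, hxt⟩, ?_⟩
        change y ∈ C (e.symm (e ⟨x, hxt⟩))
        rw [Equiv.symm_apply_apply]
        exact hyx
      rw [← iUnion_disjointed] at h3
      obtain ⟨i, hi⟩ := Set.mem_iUnion.1 h3
      exact Set.mem_iUnion.2 ⟨⟨i⟩, hi⟩
  · intro i
    exact ⟨k (e.symm i.down), fun y hy => hCW _ (disjointed_subset f i.down hy)⟩

lemma h3 (F : CohTop.Ab X) (ι : Type u) (V : ι → Opens X) (hV : Cov X ι V) (p : ℕ) :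
    IsZero (CohTop.cechH F.obj V (p + 1)) := by
  apply CechDisjoint.isZero_cechH_of_pairwise_disjoint V F.obj _ hV.2.2 p
  have hT := TopCat.Sheaf.isTerminalOfEmpty F
  have hz : IsZero (F.obj.obj (op ⊥)) := (IsZero.iff_id_eq_zero _).2 (hT.hom_ext _ _)
  exact AddCommGrpCat.subsingleton_of_isZero hz

theorem main [CompactSpace X] [T2Space X] [TotallyDisconnectedSpace X]
    (F : CohTop.Ab X) (p : ℕ) : Subsingleton (CohTop.H F (p + 1)) := by
  have hs : Subsingleton (CohTop.HU F (p + 1) ⊤) :=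
    Groth.Agent.S0493.result F (B X) isBasis_B (Cov X) h1 h2 (h3 F) ⊤
      (show IsClopen ((⊤ : Opens X) : Set X) from isClopen_univ) p
  exact (PushCocont.HU_terminal_equiv (Opens.grothendieckTopology X)
    (Groth.Agent.Lib.Cohomology.isTerminalTop X) F (p + 1)).symm.subsingleton

end Groth.Agent.Lib.Helper19.Profinite
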