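import Groth.Agent.Lib.Helper19.SheafHomLES

/-!
# Long exact sequence of relative Ext sheaves in the first variable (helper19)

Namespace `Groth.Agent.Lib.Helper19.RelExtLES`.
* `epi_of_app_surjective` : a map of modules on a ringed site which is surjective on sections is epi.
* `T f hS : FunSES X.Modules Y.Modules` : for `f : X ⟶ Y` and a short exact sequence `S` of
  `O_X`-modules, `f_* ℋom(S.X₃, -) ⟶ f_* ℋom(S.X₂, -) ⟶ f_* ℋom(S.X₁, -)` is short exact on injectives.
-/

set_option autoImplicit false


universe u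
open CategoryTheory CategoryTheory.Limits Opposite AlgebraicGeometry
open ModSite Groth.Agent.Lib.Helper34.NullLocal ExtSupp Groth.Agent.Lib.Helper19.SheafHomLES
open Groth.Agent.Lib.Cohomology.RDerFunSES

namespace Groth.Agent.Lib.Helper19.RelExtLES

section Gen
variable {C : Type u} [SmallCategory C] {J : GrothendieckTopology C} {O : Sheaf J CommRingCat.{u}}

theorem epi_of_app_surjective {A B : Mod O} (p : A ⟶ B)
    (h : ∀ (V : C) (y : sect B V), ∃ x : sect A V, app p V x = y) : Epi p := by
  apply Abelian.epi_of_cokernel_π_eq_zero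
  apply hom_eq_zero_of_app
  intro V y
  obtain ⟨x, rfl⟩ := h V y
  rw [← app_comp, cokernel.condition]
  rfl

end Gen

variable {X Y : Scheme.{u}} (f : X ⟶ Y) {S : ShortComplex X.Modules} (hS : S.ShortExact)
  [HasSheafHom (O := X.sheaf) S.X₁] [HasSheafHom (O := X.sheaf) S.X₂]
  [HasSheafHom (O := X.sheaf) S.X₃]
  [(sheafHom (O := X.sheaf) S.X₁ ⋙ Scheme.Modules.pushforward f).Additive]
  [(sheafHom (O := X.sheaf) S.X₂ ⋙ Scheme.Modules.pushforward f).Additive]
  [(sheafHom (O := X.sheaf) S.X₃ ⋙ Scheme.Modules.pushforward f).Additive]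

omit [(sheafHom (O := X.sheaf) S.X₁ ⋙ Scheme.Modules.pushforward f).Additive]
  [(sheafHom (O := X.sheaf) S.X₂ ⋙ Scheme.Modules.pushforward f).Additive]
  [(sheafHom (O := X.sheaf) S.X₃ ⋙ Scheme.Modules.pushforward f).Additive] in
theorem push_zero (I : X.Modules) :
    (Functor.whiskerRight (sheafHomMap (O := X.sheaf) S.g) (Scheme.Modules.pushforward f)).app I ≫
      (Functor.whiskerRight (sheafHomMap (O := X.sheaf) S.f) (Scheme.Modules.pushforward f)).app I
        = 0 := by
  change (Scheme.Modules.pushforward f).map ((sheafHomMap (O := X.sheaf) S.g).app I) ≫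
    (Scheme.Modules.pushforward f).map ((sheafHomMap (O := X.sheaf) S.f).app I) = 0
  have h := sheafHomMap_comp_zero (O := X.sheaf) S I
  exact ((Scheme.Modules.pushforward f).map_comp _ _).symm.trans
    ((congrArg (Scheme.Modules.pushforward f).map h).trans (Functor.map_zero _ _ _))

omit [(sheafHom (O := X.sheaf) S.X₁ ⋙ Scheme.Modules.pushforward f).Additive]
  [(sheafHom (O := X.sheaf) S.X₂ ⋙ Scheme.Modules.pushforward f).Additive]
  [(sheafHom (O := X.sheaf) S.X₃ ⋙ Scheme.Modules.pushforward f).Additive] in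
include hS in
theorem shortExact_push (I : X.Modules) (hI : Injective I) :
    (ShortComplex.mk
      ((Functor.whiskerRight (sheafHomMap (O := X.sheaf) S.g) (Scheme.Modules.pushforward f)).app I)
      ((Functor.whiskerRight (sheafHomMap (O := X.sheaf) S.f) (Scheme.Modules.pushforward f)).app I)
      (push_zero f I)).ShortExact := by
  have hI' : Injective (C := Mod X.sheaf) I := hI
  let S' : ShortComplex X.Modules := ShortComplex.mk ((sheafHomMap (O := X.sheaf) S.g).app I)
    ((sheafHomMap (O := X.sheaf) S.f).app I) (sheafHomMap_comp_zero (O := X.sheaf) S I)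
  have h1 : S'.Exact := exact_sheafHomMap (O := X.sheaf) hS I
  have h2 : Mono S'.f := mono_sheafHomMap_g (O := X.sheaf) hS I
  have hF : PreservesFiniteLimits (Scheme.Modules.pushforward f) := inferInstance
  have htfae : PreservesFiniteLimits (Scheme.Modules.pushforward f) →
      ∀ (T : ShortComplex X.Modules), T.Exact ∧ Mono T.f →
        (T.map (Scheme.Modules.pushforward f)).Exact ∧
          Mono ((Scheme.Modules.pushforward f).map T.f) :=
    ((Functor.preservesFiniteLimits_tfae (Scheme.Modules.pushforward f)).out 3 1).1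
  obtain ⟨h3, h4⟩ := htfae hF S' ⟨h1, h2⟩
  have h5 : Epi ((Scheme.Modules.pushforward f).map ((sheafHomMap (O := X.sheaf) S.f).app I)) := by
    apply epi_of_app_surjective (O := Y.sheaf)
    intro V y
    obtain ⟨s, hs⟩ := exists_section_lift (O := X.sheaf) hS I (f ⁻¹ᵁ V) y
    exact ⟨s, hs⟩
  exact ShortComplex.ShortExact.mk' h3 h4 h5

variable [HasInjectiveResolutions (Mod X.sheaf)]

/-- the sequence of functors `f_* ℋom(S.X₃, -) ⟶ f_* ℋom(S.X₂, -) ⟶ f_* ℋom(S.X₁, -)`, short exact
on injectives -/
noncomputable def T : FunSES (Mod X.sheaf) Y.Modules where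
  F₁ := sheafHom (O := X.sheaf) S.X₃ ⋙ Scheme.Modules.pushforward f
  F₂ := sheafHom (O := X.sheaf) S.X₂ ⋙ Scheme.Modules.pushforward f
  F₃ := sheafHom (O := X.sheaf) S.X₁ ⋙ Scheme.Modules.pushforward f
  α := Functor.whiskerRight (sheafHomMap (O := X.sheaf) S.g) (Scheme.Modules.pushforward f)
  β := Functor.whiskerRight (sheafHomMap (O := X.sheaf) S.f) (Scheme.Modules.pushforward f)
  zero := push_zero f
  exact := shortExact_push f hS

end Groth.Agent.Lib.Helper19.RelExtLES
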