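import Groth.Agent.Lib.Helper19.RelExtLES
import Groth.Agent.Lib.Helper19.ContraDelta
import Groth.Agent.S6165

/-!
# Relative Ext sheaves via acyclic resolutions of the first variable (helper19)

Namespace `Groth.Agent.Lib.Helper19.RelExtRes`.
-/

set_option autoImplicit false
set_option linter.style.haveILetI false
universe u
open CategoryTheory CategoryTheory.Limits Opposite AlgebraicGeometry
open ModSite ExtSupp Groth.Agent.Lib.Helper19.SheafHomLES
open Groth.Agent.Lib.Cohomology.RDerFunSES Groth.Agent.Lib.Helper19.ContraDelta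

namespace Groth.Agent.Lib.Helper19.RelExtRes

section Gen
variable {C : Type u} [SmallCategory C] {J : GrothendieckTopology C} {O : Sheaf J CommRingCat.{u}}

lemma sheafHomMap_id (M : Mod O) [HasSheafHom M] : sheafHomMap (𝟙 M) = 𝟙 (sheafHom M) := by
  change conjugateEquiv _ _ ((tensorBi O).flip.map (𝟙 M)) = _
  rw [CategoryTheory.Functor.map_id, conjugateEquiv_id]

lemma sheafHomMap_comp {M M' M'' : Mod O} [HasSheafHom M] [HasSheafHom M'] [HasSheafHom M'']
    (g : M' ⟶ M) (g' : M'' ⟶ M') :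
    sheafHomMap (g' ≫ g) = sheafHomMap g ≫ sheafHomMap g' := by
  change conjugateEquiv _ _ ((tensorBi O).flip.map (g' ≫ g)) = _
  rw [CategoryTheory.Functor.map_comp, ← conjugateEquiv_comp]

end Gen

variable {X Y : Scheme.{u}} (f : X ⟶ Y)

instance hasSheafHom (M : Mod X.sheaf) : HasSheafHom (O := X.sheaf) M :=
  Groth.Agent.S6165.result X.sheaf M

instance additive_comp (M : Mod X.sheaf) :
    (sheafHom (O := X.sheaf) M ⋙ Scheme.Modules.pushforward f).Additive := by
  haveI h1 : (sheafHom (O := X.sheaf) M).Additive := ModSite.sheafHom_additive (O := X.sheaf) M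
  haveI h2 : (Scheme.Modules.pushforward f).Additive := inferInstance
  constructor
  intro A B a b
  have e1 : (sheafHom (O := X.sheaf) M).map (a + b) =
      (sheafHom (O := X.sheaf) M).map a + (sheafHom (O := X.sheaf) M).map b := h1.map_add
  exact (congrArg (Scheme.Modules.pushforward f).map e1).trans h2.map_add

variable [HasInjectiveResolutions (Mod X.sheaf)] (G : Mod X.sheaf)

/-- the natural transformation `f_* ℋom(M, -) ⟶ f_* ℋom(M', -)` induced by `u : M' ⟶ M` -/
noncomputable abbrev tr {M M' : Mod X.sheaf} (u : M' ⟶ M) :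
    (sheafHom (O := X.sheaf) M ⋙ Scheme.Modules.pushforward f) ⟶
      (sheafHom (O := X.sheaf) M' ⋙ Scheme.Modules.pushforward f) :=
  Functor.whiskerRight (sheafHomMap (O := X.sheaf) u) (Scheme.Modules.pushforward f)

lemma tr_id (M : Mod X.sheaf) : tr f (𝟙 M) = 𝟙 _ := by
  exact (congrArg (fun t => Functor.whiskerRight t (Scheme.Modules.pushforward f))
    (sheafHomMap_id (O := X.sheaf) M)).trans (Functor.whiskerRight_id' _)

lemma tr_comp {M M' M'' : Mod X.sheaf} (g : M' ⟶ M) (g' : M'' ⟶ M') :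
    tr f (g' ≫ g) = tr f g ≫ tr f g' := by
  exact (congrArg (fun t => Functor.whiskerRight t (Scheme.Modules.pushforward f))
    (sheafHomMap_comp (O := X.sheaf) g g')).trans (Functor.whiskerRight_comp _ _ _)

/-- `M ↦ Ext^p_f(M, G)` as a contravariant functor -/
noncomputable def Tfun (p : ℕ) : (Mod X.sheaf)ᵒᵖ ⥤ Y.Modules where
  obj M := ((sheafHom (O := X.sheaf) M.unop ⋙ Scheme.Modules.pushforward f).rightDerived p).obj G
  map {M M'} u := (NatTrans.rightDerived (tr f u.unop) p).app G
  map_id M := by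
    change (NatTrans.rightDerived (tr f (𝟙 M.unop)) p).app G = _
    rw [tr_id, NatTrans.rightDerived_id]
    rfl
  map_comp {M M' M''} u v := by
    change (NatTrans.rightDerived (tr f (v.unop ≫ u.unop)) p).app G = _
    rw [tr_comp, NatTrans.rightDerived_comp]
    rfl

theorem isContraDelta : IsContraDelta (Tfun f G) where
  mono _ hS := (Groth.Agent.Lib.Helper19.RelExtLES.T f hS).mono_α_zero G
  exact₂ _ hS p := ⟨(Groth.Agent.Lib.Helper19.RelExtLES.T f hS).α_β_app G p,
    (Groth.Agent.Lib.Helper19.RelExtLES.T f hS).exact₂ G p⟩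
  δ _ hS p := ⟨((Groth.Agent.Lib.Helper19.RelExtLES.T f hS).δ p).app G,
    ⟨(Groth.Agent.Lib.Helper19.RelExtLES.T f hS).β_δ_app G p,
      (Groth.Agent.Lib.Helper19.RelExtLES.T f hS).exact₃ G p⟩,
    ⟨(Groth.Agent.Lib.Helper19.RelExtLES.T f hS).δ_α_app G p,
      (Groth.Agent.Lib.Helper19.RelExtLES.T f hS).exact₁ G p⟩⟩

instance preservesFiniteLimits_comp (M : Mod X.sheaf) :
    PreservesFiniteLimits (sheafHom (O := X.sheaf) M ⋙ Scheme.Modules.pushforward f) := by
  haveI h1 : PreservesFiniteLimits (sheafHom (O := X.sheaf) M) := by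
    haveI := (sheafHomAdj (O := X.sheaf) M).rightAdjoint_preservesLimits
    infer_instance
  haveI h2 : PreservesFiniteLimits (Scheme.Modules.pushforward f) := inferInstance
  exact @comp_preservesFiniteLimits _ _ _ _ _ _ (sheafHom (O := X.sheaf) M)
    (Scheme.Modules.pushforward f) h1 h2

/-- `f_* ℋom(M, G) ≅ Ext^0_f(M, G)` -/
noncomputable def zIso (M : Mod X.sheaf) :
    (Scheme.Modules.pushforward f).obj ((sheafHom (O := X.sheaf) M).obj G) ≅
      (Tfun f G 0).obj (op M) :=
  let z : (sheafHom (O := X.sheaf) M ⋙ Scheme.Modules.pushforward f).obj G ≅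
      ((sheafHom (O := X.sheaf) M ⋙ Scheme.Modules.pushforward f).rightDerived 0).obj G :=
    asIso ((sheafHom (O := X.sheaf) M ⋙ Scheme.Modules.pushforward f).toRightDerivedZero.app G)
  z

lemma zIso_naturality {M M' : Mod X.sheaf} (u : M' ⟶ M) :
    (zIso f G M).hom ≫ (Tfun f G 0).map u.op =
      (Scheme.Modules.pushforward f).map ((sheafHomMap (O := X.sheaf) u).app G) ≫
        (zIso f G M').hom :=
  Groth.Agent.Lib.Cohomology.RDerFunSES.toRightDerivedZero_naturality (tr f u) G

/-- **relative Ext via a resolution of the first variable by acyclic objects** -/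
theorem nonempty_homology_iso_relExt (F : Mod X.sheaf) (L : ChainComplex (Mod X.sheaf) ℕ)
    (π : L.X 0 ⟶ F) (hepi : Epi π) (hπ : L.d 1 0 ≫ π = 0)
    (hex0 : (ShortComplex.mk (L.d 1 0) π hπ).Exact) (hex : ∀ j : ℕ, L.ExactAt (j + 1))
    (hL : ∀ (j : ℕ) (p : ℕ), 1 ≤ p → IsZero ((Tfun f G p).obj (op (L.X j))))
    (C : CochainComplex Y.Modules ℕ)
    (e : ∀ j : ℕ, C.X j ≅
      (Scheme.Modules.pushforward f).obj ((sheafHom (O := X.sheaf) (L.X j)).obj G))
    (hC : ∀ j : ℕ, C.d j (j + 1) ≫ (e (j + 1)).hom =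
      (e j).hom ≫ (Scheme.Modules.pushforward f).map
        ((sheafHomMap (O := X.sheaf) (L.d (j + 1) j)).app G))
    (i : ℕ) : Nonempty (C.homology i ≅ (Tfun f G i).obj (op F)) := by
  haveI := hepi
  obtain ⟨iso1⟩ := nonempty_homology_iso (isContraDelta f G) hex hL C
    (fun j => e j ≪≫ zIso f G (L.X j))
    (fun j => by
      dsimp only [Iso.trans_hom]
      rw [← Category.assoc, hC j, Category.assoc, Category.assoc, zIso_naturality]) i
  let iso2 : K L 0 ≅ F :=
    IsColimit.coconePointUniqueUpToIso (colimit.isColimit _) hex0.gIsCokernel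
  exact ⟨iso1 ≪≫ (Tfun f G i).mapIso iso2.symm.op⟩

end Groth.Agent.Lib.Helper19.RelExtRes
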