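import Groth.Agent.Lib.Helper19.RelExtLES
import Groth.Agent.Lib.Helper19.ContraDelta
import Groth.Agent.S6165
import Groth.Prelude.Def_ModSite2

/-!
# Local Ext sheaves as a contravariant delta functor; resolutions of the first variable (helper19)

Namespace `Groth.Agent.Lib.Helper19.SheafHomDelta`.  Site version of `RelExtRes` (no pushforward).
* `TS hS : FunSES (Mod O) (Mod O)` : `ℋom(S.X₃, -) ⟶ ℋom(S.X₂, -) ⟶ ℋom(S.X₁, -)` short exact on injectives.
* `Tsite G p : (Mod O)ᵒᵖ ⥤ Mod O`, `M ↦ ℰxt^p(M, G)`; `isContraDelta`.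
* `nonempty_homology_iso_extSh` : `ℰxt^i(F, G)` from a resolution of `F` by `ℰxt(-, G)`-acyclic objects.
-/

set_option autoImplicit false
set_option linter.style.haveILetI false
universe u
open CategoryTheory CategoryTheory.Limits Opposite
open ModSite ExtSupp Groth.Agent.Lib.Helper19.SheafHomLES Groth.Agent.Lib.Helper19.RelExtLES
open Groth.Agent.Lib.Cohomology.RDerFunSES Groth.Agent.Lib.Helper19.ContraDelta

namespace Groth.Agent.Lib.Helper19.SheafHomDelta

variable {C : Type u} [SmallCategory C] {J : GrothendieckTopology C} {O : Sheaf J CommRingCat.{u}}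

instance hasSheafHom (M : Mod O) : HasSheafHom M := Groth.Agent.S6165.result O M

lemma sheafHomMap_id (M : Mod O) : sheafHomMap (𝟙 M) = 𝟙 (sheafHom M) := by
  change conjugateEquiv _ _ ((tensorBi O).flip.map (𝟙 M)) = _
  rw [CategoryTheory.Functor.map_id, conjugateEquiv_id]

lemma sheafHomMap_comp {M M' M'' : Mod O} (g : M' ⟶ M) (g' : M'' ⟶ M') :
    sheafHomMap (g' ≫ g) = sheafHomMap g ≫ sheafHomMap g' := by
  change conjugateEquiv _ _ ((tensorBi O).flip.map (g' ≫ g)) = _
  rw [CategoryTheory.Functor.map_comp, ← conjugateEquiv_comp]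

theorem shortExact_sheafHomMap {S : ShortComplex (Mod O)} (hS : S.ShortExact) (I : Mod O)
    (hI : Injective I) :
    (ShortComplex.mk ((sheafHomMap S.g).app I) ((sheafHomMap S.f).app I)
      (sheafHomMap_comp_zero S I)).ShortExact := by
  haveI := hI
  have h5 : Epi ((sheafHomMap S.f).app I) := by
    apply epi_of_app_surjective
    intro V y
    exact exists_section_lift hS I V y
  exact ShortComplex.ShortExact.mk' (exact_sheafHomMap hS I) (mono_sheafHomMap_g hS I) h5

variable [HasInjectiveResolutions (Mod O)]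

/-- `ℋom(S.X₃, -) ⟶ ℋom(S.X₂, -) ⟶ ℋom(S.X₁, -)`, short exact on injectives -/
noncomputable def TS {S : ShortComplex (Mod O)} (hS : S.ShortExact) : FunSES (Mod O) (Mod O) where
  F₁ := sheafHom S.X₃
  F₂ := sheafHom S.X₂
  F₃ := sheafHom S.X₁
  α := sheafHomMap S.g
  β := sheafHomMap S.f
  zero := sheafHomMap_comp_zero S
  exact := shortExact_sheafHomMap hS

variable (G : Mod O)

/-- `M ↦ ℰxt^p(M, G)` as a contravariant functor -/
noncomputable def Tsite (p : ℕ) : (Mod O)ᵒᵖ ⥤ Mod O where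
  obj M := (extSh M.unop p).obj G
  map {M M'} u := (NatTrans.rightDerived (sheafHomMap u.unop) p).app G
  map_id M := by
    change (NatTrans.rightDerived (sheafHomMap (𝟙 M.unop)) p).app G = _
    rw [sheafHomMap_id, NatTrans.rightDerived_id]
    rfl
  map_comp {M M' M''} u v := by
    change (NatTrans.rightDerived (sheafHomMap (v.unop ≫ u.unop)) p).app G = _
    rw [sheafHomMap_comp, NatTrans.rightDerived_comp]
    rfl

theorem isContraDelta : IsContraDelta (Tsite G) where
  mono _ hS := (TS hS).mono_α_zero G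
  exact₂ _ hS p := ⟨(TS hS).α_β_app G p, (TS hS).exact₂ G p⟩
  δ _ hS p := ⟨((TS hS).δ p).app G,
    ⟨(TS hS).β_δ_app G p, (TS hS).exact₃ G p⟩, ⟨(TS hS).δ_α_app G p, (TS hS).exact₁ G p⟩⟩

instance preservesFiniteLimits_sheafHom (M : Mod O) : PreservesFiniteLimits (sheafHom M) := by
  haveI := (sheafHomAdj M).rightAdjoint_preservesLimits
  infer_instance

/-- `ℋom(M, G) ≅ ℰxt^0(M, G)` -/
noncomputable def zIso (M : Mod O) : (sheafHom M).obj G ≅ (Tsite G 0).obj (op M) :=
  let z : (sheafHom M).obj G ≅ ((sheafHom M).rightDerived 0).obj G :=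
    asIso ((sheafHom M).toRightDerivedZero.app G)
  z

lemma zIso_naturality {M M' : Mod O} (u : M' ⟶ M) :
    (zIso G M).hom ≫ (Tsite G 0).map u.op = (sheafHomMap u).app G ≫ (zIso G M').hom :=
  Groth.Agent.Lib.Cohomology.RDerFunSES.toRightDerivedZero_naturality (sheafHomMap u) G

/-- **`ℰxt` sheaves via a resolution of the first variable by acyclic objects** -/
theorem nonempty_homology_iso_extSh (F : Mod O) (L : ChainComplex (Mod O) ℕ)
    (π : L.X 0 ⟶ F) (hepi : Epi π) (hπ : L.d 1 0 ≫ π = 0)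
    (hex0 : (ShortComplex.mk (L.d 1 0) π hπ).Exact) (hex : ∀ j : ℕ, L.ExactAt (j + 1))
    (hL : ∀ (j : ℕ) (p : ℕ), 1 ≤ p → IsZero ((Tsite G p).obj (op (L.X j))))
    (C' : CochainComplex (Mod O) ℕ)
    (e : ∀ j : ℕ, C'.X j ≅ (sheafHom (L.X j)).obj G)
    (hC : ∀ j : ℕ, C'.d j (j + 1) ≫ (e (j + 1)).hom =
      (e j).hom ≫ (sheafHomMap (L.d (j + 1) j)).app G)
    (i : ℕ) : Nonempty (C'.homology i ≅ (Tsite G i).obj (op F)) := by
  haveI := hepi
  obtain ⟨iso1⟩ := nonempty_homology_iso (isContraDelta G) hex hL C'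
    (fun j => e j ≪≫ zIso G (L.X j))
    (fun j => by
      dsimp only [Iso.trans_hom]
      rw [← Category.assoc, hC j, Category.assoc, Category.assoc, zIso_naturality]) i
  let iso2 : K L 0 ≅ F :=
    IsColimit.coconePointUniqueUpToIso (colimit.isColimit _) hex0.gIsCokernel
  exact ⟨iso1 ≪≫ (Tsite G i).mapIso iso2.symm.op⟩

end Groth.Agent.Lib.Helper19.SheafHomDelta
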