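import Groth.Agent.Lib.Helper34.NullLocal
import Groth.Agent.Lib.Helper94.ModFlat
import Groth.Agent.Lib.Helper94.JShriekFlat
import Groth.Agent.Lib.Helper94.JShriekHom
import Groth.Agent.Lib.Cohomology.Helper3_RDerFunSES
import Groth.Prelude.Def_ExtSupp

/-!
# Contravariance of the internal hom of modules on a ringed site; exactness on injectives (helper19)

Namespace `Groth.Agent.Lib.Helper19.SheafHomLES`.
* `homEquiv_symm_comp_sheafHomMap` : `Hom(A, ℋom(M, N)) ≃ Hom(A ⊗ M, N)` is natural in `M`.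
* for a short exact `S` and `I` injective: `0 ⟶ ℋom(S.X₃, I) ⟶ ℋom(S.X₂, I) ⟶ ℋom(S.X₁, I)` is
  exact with mono first map, and the last map is surjective on sections.
-/

set_option autoImplicit false
universe u
open CategoryTheory CategoryTheory.Limits Opposite

namespace Groth.Agent.Lib.Helper19.SheafHomLES

open ModSite Groth.Agent.Lib.Helper94.JShriek Groth.Agent.Lib.Helper94.ModTensorW
  Groth.Agent.Lib.Helper94.ModTensor Groth.Agent.Lib.Helper94.ModOver
  Groth.Agent.Lib.Helper94.ModFlat Groth.Agent.Lib.Helper34.NullLocal ExtSupp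

variable {C : Type u} [SmallCategory C] {J : GrothendieckTopology C} {O : Sheaf J CommRingCat.{u}}

section Nat

variable {M M' : Mod O} [HasSheafHom M] [HasSheafHom M'] (g : M' ⟶ M)

/-- naturality in `M` of `Hom(A, ℋom(M, N)) ≃ Hom(A ⊗ M, N)` -/
lemma homEquiv_symm_comp_sheafHomMap {A N : Mod O} (a : A ⟶ (sheafHom M).obj N) :
    ((sheafHomAdj M').homEquiv A N).symm (a ≫ (sheafHomMap g).app N) =
      ((tensorBi O).flip.map g).app A ≫ ((sheafHomAdj M).homEquiv A N).symm a := by
  rw [Adjunction.homEquiv_counit, Adjunction.homEquiv_counit, Functor.map_comp, Category.assoc]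
  have h := conjugateEquiv_counit (sheafHomAdj M) (sheafHomAdj M') ((tensorBi O).flip.map g) N
  rw [h, ← Category.assoc, ← Category.assoc]
  congr 1
  exact ((tensorBi O).flip.map g).naturality a

end Nat

section SES

variable {S : ShortComplex (Mod O)} (hS : S.ShortExact)
  [HasSheafHom S.X₁] [HasSheafHom S.X₂] [HasSheafHom S.X₃]

lemma flip_map_app_eq {M M' : Mod O} (g : M' ⟶ M) (A : Mod O) :
    ((tensorBi O).flip.map g).app A = (tensL O A).map g := rfl

lemma homEquiv_symm_zero {M : Mod O} [HasSheafHom M] (A N : Mod O) :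
    ((sheafHomAdj M).homEquiv A N).symm 0 = 0 := by
  rw [Adjunction.homEquiv_counit, Functor.map_zero, zero_comp]

variable (S) in
lemma sheafHomMap_comp_zero (I : Mod O) :
    (sheafHomMap S.g).app I ≫ (sheafHomMap S.f).app I = 0 := by
  apply ((sheafHomAdj S.X₁).homEquiv _ _).symm.injective
  rw [homEquiv_symm_comp_sheafHomMap, homEquiv_symm_zero]
  have h := homEquiv_symm_comp_sheafHomMap S.g (𝟙 ((sheafHom S.X₃).obj I))
  rw [Category.id_comp] at h
  rw [h, ← Category.assoc, flip_map_app_eq, flip_map_app_eq, ← Functor.map_comp, S.zero,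
    Functor.map_zero, zero_comp]

include hS in
/-- lifting through `ℋom(S.X₃, I) ⟶ ℋom(S.X₂, I)` -/
lemma exists_lift (I : Mod O) {A : Mod O} (c : A ⟶ (sheafHom S.X₂).obj I)
    (hc : c ≫ (sheafHomMap S.f).app I = 0) :
    ∃ c' : A ⟶ (sheafHom S.X₃).obj I, c' ≫ (sheafHomMap S.g).app I = c := by
  obtain ⟨hex, hepi⟩ := exact_map_tensL O S hS A
  haveI : Epi (S.map (tensL O A)).g := hepi
  let c₂ := ((sheafHomAdj S.X₂).homEquiv A I).symm c
  have h0 : (tensL O A).map S.f ≫ c₂ = 0 := by
    have := homEquiv_symm_comp_sheafHomMap S.f c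
    rw [hc, homEquiv_symm_zero] at this
    exact this.symm
  let c₃ : (tensL O A).obj S.X₃ ⟶ I := hex.desc c₂ h0
  have hc₃ : (tensL O A).map S.g ≫ c₃ = c₂ := hex.g_desc c₂ h0
  refine ⟨(sheafHomAdj S.X₃).homEquiv A I c₃, ?_⟩
  apply ((sheafHomAdj S.X₂).homEquiv _ _).symm.injective
  rw [homEquiv_symm_comp_sheafHomMap, Equiv.symm_apply_apply]
  exact hc₃

include hS in
theorem mono_sheafHomMap_g (I : Mod O) : Mono ((sheafHomMap S.g).app I) := by
  constructor
  intro A c₁ c₂ h
  obtain ⟨hex, hepi⟩ := exact_map_tensL O S hS A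
  have h1 := homEquiv_symm_comp_sheafHomMap S.g c₁
  have h2 := homEquiv_symm_comp_sheafHomMap S.g c₂
  rw [h] at h1
  have h3 := h1.symm.trans h2
  rw [flip_map_app_eq] at h3
  have h4 := (cancel_epi ((tensL O A).map S.g)).1 h3
  exact ((sheafHomAdj S.X₃).homEquiv _ _).symm.injective h4

include hS in
/-- `0 ⟶ ℋom(S.X₃, I) ⟶ ℋom(S.X₂, I) ⟶ ℋom(S.X₁, I)` is exact -/
theorem exact_sheafHomMap (I : Mod O) :
    (ShortComplex.mk ((sheafHomMap S.g).app I) ((sheafHomMap S.f).app I)
      (sheafHomMap_comp_zero S I)).Exact := by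
  haveI := mono_sheafHomMap_g hS I
  refine ShortComplex.exact_of_f_is_kernel _ ?_
  refine KernelFork.IsLimit.ofι _ _ (fun {A} c hc => (exists_lift hS I c hc).choose)
    (fun {A} c hc => (exists_lift hS I c hc).choose_spec) ?_
  intro A c hc m hm
  rw [← cancel_mono ((sheafHomMap S.g).app I), hm]
  exact (exists_lift hS I c hc).choose_spec.symm

include hS in
/-- for `I` injective, `ℋom(S.X₂, I) ⟶ ℋom(S.X₁, I)` is surjective on sections -/
theorem exists_section_lift (I : Mod O) [Injective I] (V : C)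
    (t : sect ((sheafHom S.X₁).obj I) V) :
    ∃ s : sect ((sheafHom S.X₂).obj I) V, app ((sheafHomMap S.f).app I) V s = t := by
  haveI := hS.mono_f
  haveI : Mono ((tensL O (freeOn O V)).map S.f) :=
    mono_tensL_map_of_isFlat O (isFlat_freeOn (O := O) (U := V)) S.f
  let t' : freeOn O V ⟶ (sheafHom S.X₁).obj I := (freeOnHomAddEquiv O V _).symm t
  let t₁ := ((sheafHomAdj S.X₁).homEquiv _ I).symm t'
  let s₂ : (tensL O (freeOn O V)).obj S.X₂ ⟶ I :=
    Injective.factorThru t₁ ((tensL O (freeOn O V)).map S.f)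
  have hs₂ : (tensL O (freeOn O V)).map S.f ≫ s₂ = t₁ := Injective.comp_factorThru _ _
  let s' : freeOn O V ⟶ (sheafHom S.X₂).obj I := (sheafHomAdj S.X₂).homEquiv _ I s₂
  have hs' : s' ≫ (sheafHomMap S.f).app I = t' := by
    apply ((sheafHomAdj S.X₁).homEquiv _ _).symm.injective
    rw [homEquiv_symm_comp_sheafHomMap, Equiv.symm_apply_apply]
    exact hs₂
  refine ⟨freeOnHomAddEquiv O V _ s', ?_⟩
  have h := freeOnHomAddEquiv_comp O V s' ((sheafHomMap S.f).app I)
  rw [hs'] at h
  have h2 : freeOnHomAddEquiv O V _ t' = t := AddEquiv.apply_symm_apply _ _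
  exact h.symm.trans h2

end SES

end Groth.Agent.Lib.Helper19.SheafHomLES
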