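import Groth.Agent.Lib.Helper19.ColimPost
import Groth.Agent.Lib.Helper19.SheafHomLES
import Groth.Agent.Lib.Helper19.SheafHomDelta
import Groth.Agent.Lib.Helper19.ExtFree
import Groth.Agent.Lib.Helper19.ExtLocFree

/-!
# The internal hom out of a finitely presented module commutes with filtered colimits (helper19)

Namespace `Groth.Agent.Lib.Helper19.SheafHomColim`.
-/

set_option autoImplicit false
set_option linter.unusedSectionVars false
set_option linter.style.haveILetI false
universe u
open CategoryTheory CategoryTheory.Limits Opposite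

namespace Groth.Agent.Lib.Helper19.SheafHomColim

open ModSite ExtSupp Groth.Agent.Lib.Helper94.ModTensor Groth.Agent.Lib.Helper94.ModTensorW
  Groth.Agent.Lib.Helper94.ModFlat
  Groth.Agent.Lib.Helper19.SheafHomLES Groth.Agent.Lib.Helper19.SheafHomDelta
  Groth.Agent.Lib.Helper19.ColimPost

variable {C : Type u} [SmallCategory C] {J : GrothendieckTopology C} {O : Sheaf J CommRingCat.{u}}

section RightExact

theorem mono_sheafHomMap_of_epi {M M' : Mod O} (g : M' ⟶ M) [Epi g] (I : Mod O) :
    Mono ((sheafHomMap g).app I) := by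
  constructor
  intro A c₁ c₂ h
  have h1 := homEquiv_symm_comp_sheafHomMap g c₁
  have h2 := homEquiv_symm_comp_sheafHomMap g c₂
  rw [h] at h1
  have h3 := h1.symm.trans h2
  rw [flip_map_app_eq] at h3
  haveI : Epi ((tensL O A).map g) := inferInstance
  have h4 := (cancel_epi ((tensL O A).map g)).1 h3
  exact ((sheafHomAdj M).homEquiv _ _).symm.injective h4

variable {S : ShortComplex (Mod O)} (hS : S.Exact) [Epi S.g]

include hS in
lemma exists_lift' (I : Mod O) {A : Mod O} (c : A ⟶ (sheafHom S.X₂).obj I)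
    (hc : c ≫ (sheafHomMap S.f).app I = 0) :
    ∃ c' : A ⟶ (sheafHom S.X₃).obj I, c' ≫ (sheafHomMap S.g).app I = c := by
  have hex : (S.map (tensL O A)).Exact :=
    hS.map_of_epi_of_preservesCokernel (tensL O A) inferInstance inferInstance
  haveI : Epi (S.map (tensL O A)).g := inferInstanceAs (Epi ((tensL O A).map S.g))
  let c₂ := ((sheafHomAdj S.X₂).homEquiv A I).symm c
  have h0 : (tensL O A).map S.f ≫ c₂ = 0 := by
    have := homEquiv_symm_comp_sheafHomMap S.f c
    rw [hc, homEquiv_symm_zero] at this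
    exact this.symm
  let c₃ : (tensL O A).obj S.X₃ ⟶ I := hex.desc c₂ h0
  have hc₃ : (tensL O A).map S.g ≫ c₃ = c₂ := hex.g_desc c₂ h0
  refine ⟨(sheafHomAdj S.X₃).homEquiv A I c₃, ?_⟩
  apply ((sheafHomAdj S.X₂).homEquiv _ _).symm.injective
  rw [homEquiv_symm_comp_sheafHomMap, Equiv.symm_apply_apply]
  exact hc₃

include hS in
/-- `0 ⟶ ℋom(S.X₃, I) ⟶ ℋom(S.X₂, I) ⟶ ℋom(S.X₁, I)` is exact for a right exact `S` -/
theorem exact_sheafHomMap' (I : Mod O) :
    (ShortComplex.mk ((sheafHomMap S.g).app I) ((sheafHomMap S.f).app I)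
      (sheafHomMap_comp_zero S I)).Exact := by
  haveI := mono_sheafHomMap_of_epi S.g I
  refine ShortComplex.exact_of_f_is_kernel _ ?_
  refine KernelFork.IsLimit.ofι _ _ (fun {A} c hc => (exists_lift' hS I c hc).choose)
    (fun {A} c hc => (exists_lift' hS I c hc).choose_spec) ?_
  intro A c hc m hm
  rw [← cancel_mono ((sheafHomMap S.g).app I), hm]
  exact (exists_lift' hS I c hc).choose_spec.symm

end RightExact

section Closure

variable (Λ : Type u) [SmallCategory Λ] [IsFiltered Λ]

/-- `ℋom(F, -)` commutes with colimits of shape `Λ` -/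
def Pres (F : Mod O) : Prop := ∀ D : Λ ⥤ Mod O, PreservesColimit D (sheafHom F)

variable {Λ}

theorem pres_of_cokernel {F₁ F₀ F : Mod O} (f : F₁ ⟶ F₀) (g : F₀ ⟶ F) (w : f ≫ g = 0)
    (hc : IsColimit (CokernelCofork.ofπ g w)) (h₀ : Pres Λ F₀) (h₁ : Pres Λ F₁) : Pres Λ F := by
  intro D
  haveI := h₀ D
  haveI := h₁ D
  let S : ShortComplex (Mod O) := ShortComplex.mk f g w
  obtain ⟨hS, hepi⟩ : S.Exact ∧ Epi S.g := S.exact_and_epi_g_iff_g_is_cokernel.2 ⟨hc⟩
  haveI : Epi g := hepi
  have w' : sheafHomMap g ≫ sheafHomMap f = 0 := by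
    apply NatTrans.ext
    funext I
    exact sheafHomMap_comp_zero S I
  haveI : IsIso (colimit.post D (sheafHom F)) :=
    isIso_post_of_left_exact D (sheafHomMap g) (sheafHomMap f) w'
      (fun I => mono_sheafHomMap_of_epi g I) (fun I => exact_sheafHomMap' hS I)
  exact preservesColimit_of_isIso_post _ _

theorem pres_of_iso {F F' : Mod O} (e : F ≅ F') (h : Pres Λ F) : Pres Λ F' := by
  intro D
  haveI := h D
  let i : sheafHom F ≅ sheafHom F' :=
    { hom := sheafHomMap e.inv
      inv := sheafHomMap e.hom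
      hom_inv_id := by rw [← sheafHomMap_comp, e.hom_inv_id, sheafHomMap_id]
      inv_hom_id := by rw [← sheafHomMap_comp, e.inv_hom_id, sheafHomMap_id] }
  exact preservesColimit_of_natIso D i

theorem pres_unit : Pres Λ (ModSite.unit O) := by
  intro D
  exact preservesColimit_of_natIso D (Groth.Agent.Lib.Helper19.ExtFree.sheafHomUnitIso O).symm

theorem pres_biprod {A B : Mod O} (hA : Pres Λ A) (hB : Pres Λ B) : Pres Λ (A ⊞ B) := by
  intro D
  haveI := hA D
  haveI := hB D
  let S : ShortComplex (Mod O) :=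
    ShortComplex.mk (biprod.inl : A ⟶ A ⊞ B) (biprod.snd : A ⊞ B ⟶ B) (by simp)
  have hS : S.ShortExact := (ShortComplex.Splitting.ofHasBinaryBiproduct A B).shortExact
  haveI : Epi S.g := hS.epi_g
  have w' : sheafHomMap S.g ≫ sheafHomMap S.f = 0 := by
    apply NatTrans.ext
    funext I
    exact sheafHomMap_comp_zero S I
  have hepi : ∀ I, Epi ((sheafHomMap S.f).app I) := by
    intro I
    have h1 : (sheafHomMap (biprod.fst : A ⊞ B ⟶ A)).app I ≫ (sheafHomMap S.f).app I = 𝟙 _ := by
      rw [← NatTrans.comp_app, ← sheafHomMap_comp]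
      have : S.f ≫ (biprod.fst : A ⊞ B ⟶ A) = 𝟙 A := by simp [S]
      rw [this, sheafHomMap_id]
      rfl
    haveI : IsSplitEpi ((sheafHomMap S.f).app I) := IsSplitEpi.mk' ⟨_, h1⟩
    infer_instance
  haveI : IsIso (colimit.post D (sheafHom (A ⊞ B))) :=
    isIso_post_of_short_exact D (sheafHomMap S.g) (sheafHomMap S.f) w'
      (fun I => mono_sheafHomMap_of_epi S.g I) hepi (fun I => exact_sheafHomMap' hS.exact I)
  exact preservesColimit_of_isIso_post _ _

theorem pres_of_isZero {F : Mod O} (hF : IsZero F) : Pres Λ F := by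
  refine pres_of_cokernel (𝟙 (ModSite.unit O)) (0 : ModSite.unit O ⟶ F) (by simp) ?_
    pres_unit pres_unit
  exact CokernelCofork.IsColimit.ofEpiOfIsZero _ inferInstance hF

theorem pres_coprod {A B : Mod O} (hA : Pres Λ A) (hB : Pres Λ B) : Pres Λ (A ⨿ B) :=
  pres_of_iso (biprod.isoCoprod A B) (pres_biprod hA hB)

theorem pres_free (n : ℕ) : Pres Λ (∐ fun _ : Fin n => ModSite.unit O) := by
  induction n with
  | zero =>
    apply pres_of_isZero
    rw [IsZero.iff_id_eq_zero]
    apply Sigma.hom_ext
    intro b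
    exact Fin.elim0 b
  | succ n ih =>
    let f : Fin (n + 1) → Mod O := fun _ => ModSite.unit O
    let c₁ : Cofan (fun i : Fin n => f i.succ) := Cofan.mk _ (Sigma.ι (fun i : Fin n => f i.succ))
    have t₁ : IsColimit c₁ := coproductIsCoproduct _
    let c₂ : BinaryCofan (f 0) c₁.pt := BinaryCofan.mk coprod.inl coprod.inr
    have t₂ : IsColimit c₂ := coprodIsCoprod _ _
    have t := extendCofanIsColimit f t₁ t₂
    let e : (f 0 ⨿ c₁.pt) ≅ ∐ f :=
      IsColimit.coconePointUniqueUpToIso t (colimit.isColimit _)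
    exact pres_of_iso e (pres_coprod pres_unit ih)

theorem pres_freeOfFinite (I : Type u) [Finite I] :
    Pres Λ (SheafOfModules.free (R := ringSh O) I) := by
  obtain ⟨n, ⟨e⟩⟩ := Finite.exists_equiv_fin I
  have h := pres_free (Λ := Λ) (O := O) n
  exact pres_of_iso (Sigma.reindex e.symm (fun _ : I => ModSite.unit O)) h

end Closure

section Local

open Groth.Agent.Lib.Helper34.NullLocal Groth.Agent.Lib.Helper19.ExtLocFree
  Groth.Agent.Lib.Helper94.JShriek

variable {I : Type*} (X : I → C) (hX : J.CoversTop X)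

include hX in
theorem isZero_of_coversTop (N : Mod O) (h : ∀ i, IsZero ((restr O (X i)).obj N)) : IsZero N := by
  apply isZero_of_zeroSieve_mem
  intro V s
  refine J.superset_covering ?_ (hX V)
  intro W g hg
  obtain ⟨i, ⟨a⟩⟩ := (Sieve.mem_ofObjects_iff ..).mp hg
  exact sect_eq_zero_of_isZero (h i) (Over.mk a) _

include hX in
theorem isIso_of_coversTop {M N : Mod O} (φ : M ⟶ N)
    (h : ∀ i, IsIso ((restr O (X i)).map φ)) : IsIso φ := by
  have hk : IsZero (kernel φ) := isZero_of_coversTop X hX _ (fun i => by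
    have e : (restr O (X i)).obj (kernel φ) ≅ kernel ((restr O (X i)).map φ) :=
      PreservesKernel.iso _ _
    haveI := h i
    exact IsZero.of_iso (isZero_kernel_of_mono _) e)
  have hc : IsZero (cokernel φ) := isZero_of_coversTop X hX _ (fun i => by
    have e : (restr O (X i)).obj (cokernel φ) ≅ cokernel ((restr O (X i)).map φ) :=
      PreservesCokernel.iso _ _
    haveI := h i
    exact IsZero.of_iso (isZero_cokernel_of_epi _) e)
  haveI : Mono φ := Preadditive.mono_of_isZero_kernel φ hk
  haveI : Epi φ := Preadditive.epi_of_isZero_cokernel φ hc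
  exact isIso_of_mono_of_epi φ

include hX in
theorem preservesColimit_of_local (F : Mod O) {Λ : Type u} [SmallCategory Λ] (D : Λ ⥤ Mod O)
    (h : ∀ i, PreservesColimit (D ⋙ restr O (X i)) (sheafHom ((restr O (X i)).obj F))) :
    PreservesColimit D (sheafHom F) := by
  haveI : IsIso (colimit.post D (sheafHom F)) := by
    apply isIso_of_coversTop X hX
    intro i
    haveI := h i
    haveI : PreservesColimit D (restr O (X i) ⋙ sheafHom ((restr O (X i)).obj F)) :=
      inferInstance
    haveI : PreservesColimit D (sheafHom F ⋙ restr O (X i)) :=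
      preservesColimit_of_natIso D (restrSheafHomIso O (X i) F).symm
    have e := colimit.post_post D (sheafHom F) (restr O (X i))
    haveI : IsIso (colimit.post (D ⋙ sheafHom F) (restr O (X i))) := inferInstance
    haveI : IsIso (colimit.post D (sheafHom F ⋙ restr O (X i))) := inferInstance
    exact IsIso.of_isIso_fac_left e
  exact preservesColimit_of_isIso_post _ _

end Local

/-- **`ℋom(F, -)` commutes with filtered colimits for `F` of finite presentation** -/
theorem preservesColimit_sheafHom_of_isFinitePresentation (F : Mod O)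
    [SheafOfModules.IsFinitePresentation (R := ringSh O) F]
    {Λ : Type u} [SmallCategory Λ] [IsFiltered Λ] (D : Λ ⥤ Mod O) :
    PreservesColimit D (sheafHom F) := by
  obtain ⟨σ, hσ⟩ := SheafOfModules.IsFinitePresentation.exists_quasicoherentData (R := ringSh O) F
  apply preservesColimit_of_local σ.X σ.coversTop F D
  intro i
  haveI : (σ.presentation i).IsFinite := inferInstance
  have h : Pres (O := O.over (σ.X i)) Λ ((restr O (σ.X i)).obj F) :=
    pres_of_cokernel _ _ _ (σ.presentation i).isColimit (pres_freeOfFinite _)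
      (pres_freeOfFinite _)
  exact h _

end Groth.Agent.Lib.Helper19.SheafHomColim
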