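import Groth.Agent.Lib.Helper34.HZSect
import Groth.Agent.Lib.Helper34.HZRD
import Groth.Agent.Lib.Cohomology.Helper3_Acyclic
import Groth.Agent.Lib.Helper19.CechMono
import Groth.Agent.Lib.Helper19.ExtShift

/-!
# Local cohomology sheaves of totally acyclic modules on a ringed site vanish (helper19)

Namespace `Groth.Agent.Lib.Helper19.SiteFlasque`.
-/

set_option autoImplicit false
universe u
open CategoryTheory CategoryTheory.Limits Opposite

namespace Groth.Agent.Lib.Helper19.SiteFlasque

open ModSite Groth.Agent.Lib.Helper94.JShriek Groth.Agent.Lib.Helper94.ModTensorW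
  Groth.Agent.Lib.Helper94.ModTensor Groth.Agent.Lib.Helper94.ModOver
  Groth.Agent.Lib.Helper34.NullTorsion Groth.Agent.Lib.Helper34.NullLocal

variable {C : Type u} [SmallCategory C] {J : GrothendieckTopology C} {O : Sheaf J CommRingCat.{u}}

section Unit

/-- a map out of the structure sheaf over a site with terminal object is determined by the image
of `1`: `φ_Y(r) = r • (φ_T(1))|_Y` -/
lemma unit_hom_app_eq {D : Type u} [SmallCategory D] {K : GrothendieckTopology D}
    {S : Sheaf K RingCat.{u}} {F : SheafOfModules.{u} S} (φ : SheafOfModules.unit S ⟶ F)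
    {T : D} (Y : D) (t : Y ⟶ T) (r : S.obj.obj (op Y)) :
    φ.val.app (op Y) r = r • F.val.map t.op (φ.val.app (op T) (1 : S.obj.obj (op T))) := by
  have h1 : φ.val.app (op Y) r = r • φ.val.app (op Y) (1 : S.obj.obj (op Y)) := by
    have := (φ.val.app (op Y)).hom.map_smul r (1 : S.obj.obj (op Y))
    refine Eq.trans ?_ this
    congr 1
    exact (mul_one r).symm
  have h2 : φ.val.app (op Y) (1 : S.obj.obj (op Y)) =
      F.val.map t.op (φ.val.app (op T) (1 : S.obj.obj (op T))) := by
    have := PresheafOfModules.naturality_apply φ.val t.op (1 : S.obj.obj (op T))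
    rw [← this]
    congr 1
    exact (map_one (S.obj.map t.op).hom).symm
  rw [h1, h2]
  rfl

end Unit

section KLemma

variable (U : C)

/-- sections of `Γ_Z M` vanish on objects mapping to `U` -/
lemma res_sι_eq_zero [HasPushOver O U] (M : Mod O) {V W : C} (h : W ⟶ V) (a : W ⟶ U)
    (y : sect ((sectOn O U).obj M) V) : res M h (app (sι O U M) V y) = 0 := by
  rw [← app_res, eq_zero_of_isNullOn U (isNullOn_sectOn O U M) a (res _ h y), app_zero]

variable {V : C}

/-- the map `O_V ⟶ M|_V` attached to a section of `M` over `V` -/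
noncomputable def α' (M : Mod O) (β : sect M V) :
    SheafOfModules.unit (ringSh (O.over V)) ⟶ (restr O V).obj M :=
  (unitHomAddEquiv ((restr O V).obj M) Over.mkIdTerminal).symm β

lemma α'_one (M : Mod O) (β : sect M V) :
    (α' M β).val.app (op (Over.mk (𝟙 V))) (1 : (ringSh (O.over V)).obj.obj (op (Over.mk (𝟙 V)))) = β :=
  (unitHomAddEquiv ((restr O V).obj M) Over.mkIdTerminal).apply_symm_apply β

lemma α'_app_eq_zero (M : Mod O) (β : sect M V) {W : C} (h : W ⟶ V) (hβ : res M h β = 0)
    (r : (ringSh (O.over V)).obj.obj (op (Over.mk h))) :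
    (α' M β).val.app (op (Over.mk h)) r = 0 := by
  have h1 := unit_hom_app_eq (α' M β) (Over.mk h) (Over.homMk h : Over.mk h ⟶ Over.mk (𝟙 V)) r
  rw [α'_one] at h1
  have h2 : ((restr O V).obj M).val.map (Over.homMk h : Over.mk h ⟶ Over.mk (𝟙 V)).op β = 0 := hβ
  rw [h1, h2, smul_zero]
  rfl

/-- the unit module on `C/V`, as a presheaf of modules -/
noncomputable abbrev GV (O : Sheaf J CommRingCat.{u}) (V : C) :
    PresheafOfModules.{u} (RU (O.obj ⋙ forget₂ CommRingCat.{u} RingCat.{u}) V) :=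
  (fgt (O.over V)).obj (SheafOfModules.unit (ringSh (O.over V)))

/-- the presheaf of modules `W ↦ ⊕_{h : W ⟶ V} O(W)` -/
noncomputable abbrev PV (O : Sheaf J CommRingCat.{u}) (V : C) : PMod O := objPre (GV O V)

/-- `α'` at the presheaf level -/
noncomputable def αP (M : Mod O) (β : sect M V) :
    GV O V ⟶ (rPre (O.obj ⋙ forget₂ CommRingCat.{u} RingCat.{u}) V).obj ((fgt O).obj M) :=
  (fgt (O.over V)).map (α' M β)

/-- the presheaf-level map `P_V ⟶ M` attached to a section of `M` over `V` -/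
noncomputable def ψ (M : Mod O) (β : sect M V) : PV O V ⟶ (fgt O).obj M :=
  fromRestr (αP M β)

open Classical in
lemma ψ_app_of (M : Mod O) (β : sect M V) {W : C} (h : W ⟶ V) (x : Comp (GV O V) h) :
    (ψ M β).app (op W) (DirectSum.of (fun φ : W ⟶ V => Comp (GV O V) φ) h x) =
      (α' M β).val.app (op (Over.mk h)) x :=
  fromRestr_app_of (αP M β) (op W) h x

open Classical in
/-- `ψ` vanishes on sections over `W` as soon as `β` vanishes on all arrows `W ⟶ V` -/
lemma ψ_app_eq_zero (M : Mod O) (β : sect M V) (W : C)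
    (hβ : ∀ h : W ⟶ V, res M h β = 0) (z : DirectSum (W ⟶ V) (fun φ => Comp (GV O V) φ)) :
    (ψ M β).app (op W) z = 0 := by
  induction z using DirectSum.induction_on with
  | zero => exact map_zero ((ψ M β).app (op W)).hom
  | of h x =>
    refine (ψ_app_of M β h x).trans ?_
    exact α'_app_eq_zero M β h (hβ h) x
  | add a b ha hb =>
    have e := map_add ((ψ M β).app (op W)).hom a b
    exact e.trans ((congrArg₂ (· + ·) ha hb).trans (add_zero 0))

/-- the sheaf-level map `F_V = (P_V)^# ⟶ M` attached to a section of `M` over `V` -/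
noncomputable def φ (M : Mod O) (β : sect M V) : (shf O).obj (PV O V) ⟶ M :=
  ((shfAdj O).homEquiv _ _).symm (ψ M β)

lemma unitMap_φ (M : Mod O) (β : sect M V) :
    unitMap O (PV O V) ≫ (fgt O).map (φ M β) = ψ M β := by
  have h := (shfAdj O).homEquiv_unit (X := PV O V) (Y := M) (f := φ M β)
  rw [← shfAdj_unit_app, ← h]
  exact Equiv.apply_symm_apply _ _

lemma φ_unitMap_app (M : Mod O) (β : sect M V) (W : C) (z : (PV O V).obj (op W)) :
    app (φ M β) W ((unitMap O (PV O V)).app (op W) z) = (ψ M β).app (op W) z :=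
  congrArg (fun t : PV O V ⟶ (fgt O).obj M => t.app (op W) z) (unitMap_φ M β)

/-- if `β` vanishes on all `W ⟶ V` with `W ⟶ U` nonempty, then `φ` vanishes on sections over such `W` -/
lemma app_φ_eq_zero (M : Mod O) (β : sect M V)
    (hβ : ∀ (W : C) (h : W ⟶ V), Nonempty (W ⟶ U) → res M h β = 0)
    (W : C) (a : W ⟶ U) (s : sect ((shf O).obj (PV O V)) W) : app (φ M β) W s = 0 := by
  apply eq_zero_of_zeroSieve_mem
  have hW : J.W ((PresheafOfModules.toPresheaf _).map (unitMap O (PV O V))) :=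
    wMod_unit (O := O) (PV O V)
  rw [J.W_iff_isLocallyBijective] at hW
  haveI := hW.2
  have h3 := Presheaf.imageSieve_mem J ((PresheafOfModules.toPresheaf _).map (unitMap O (PV O V)))
    (U := op W) s
  refine J.superset_covering ?_ h3
  rintro W' k ⟨z, hz⟩
  change res M k (app (φ M β) W s) = 0
  have hz' : (unitMap O (PV O V)).app (op W') z = res _ k s := hz
  have e1 : res M k (app (φ M β) W s) = app (φ M β) W' (res _ k s) := (app_res _ _ _).symm
  have e2 : app (φ M β) W' (res _ k s) =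
      app (φ M β) W' ((unitMap O (PV O V)).app (op W') z) := congrArg (app (φ M β) W') hz'.symm
  exact e1.trans (e2.trans ((φ_unitMap_app M β W' z).trans
    (ψ_app_eq_zero M β W' (fun h => hβ W' h ⟨k ≫ a⟩) z)))

lemma restr_map_φ_eq_zero (M : Mod O) (β : sect M V)
    (hβ : ∀ (W : C) (h : W ⟶ V), Nonempty (W ⟶ U) → res M h β = 0) :
    (restr O U).map (φ M β) = 0 := by
  apply hom_eq_zero_of_app
  intro Y s
  exact app_φ_eq_zero U M β hβ Y.left Y.hom s

open Classical in
/-- a section of `M` over `V` vanishing on all `W ⟶ V` with `W ⟶ U` nonempty is a section of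
`Γ_Z M` -/
theorem exists_sectOn_section [HasPushOver O U] (M : Mod O) (β : sect M V)
    (hβ : ∀ (W : C) (h : W ⟶ V), Nonempty (W ⟶ U) → res M h β = 0) :
    ∃ b' : sect ((sectOn O U).obj M) V, app (sι O U M) V b' = β := by
  have hr := restr_map_φ_eq_zero U M β hβ
  have hu : φ M β ≫ (restrPushOverAdj O U).unit.app M = 0 := by
    apply ((restrPushOverAdj O U).homEquiv _ _).symm.injective
    rw [Adjunction.homEquiv_counit, Adjunction.homEquiv_counit, Functor.map_comp, hr, zero_comp,
      Functor.map_zero, zero_comp]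
  let φ' : (shf O).obj (PV O V) ⟶ (sectOn O U).obj M := kernel.lift _ (φ M β) hu
  have hφ' : φ' ≫ sι O U M = φ M β := kernel.lift_ι _ _ _
  let z : (PV O V).obj (op V) :=
    DirectSum.of (fun h : V ⟶ V => Comp (GV O V) h) (𝟙 V)
      (1 : (ringSh (O.over V)).obj.obj (op (Over.mk (𝟙 V))))
  let e : sect ((shf O).obj (PV O V)) V := (unitMap O (PV O V)).app (op V) z
  refine ⟨app φ' V e, ?_⟩
  have e1 : app (sι O U M) V (app φ' V e) = app (φ M β) V e := by
    rw [← hφ']
    rfl
  refine e1.trans ((φ_unitMap_app M β V z).trans ?_)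
  exact (ψ_app_of M β (𝟙 V) _).trans (α'_one M β)

end KLemma

section Ab

open Groth.Agent.Lib.Helper19 Groth.Agent.Lib.Helper19.CechHom Groth.Agent.Lib.Helper19.CechTop
  Groth.Agent.Lib.Helper19.CechMono Groth.Agent.Lib.Helper34.HZSect
  Groth.Agent.Lib.Helper34.HZAcyc

/-- the map of sheafified representables attached to an arrow -/
noncomputable abbrev epsMap {W V : C} (h : W ⟶ V) : ToposFin.eps J W ⟶ ToposFin.eps J V :=
  (presheafToSheaf J (Type u)).map (yoneda.map h)

lemma sectEquiv_epsMap_comp {W V : C} (h : W ⟶ V) {S : Sheaf J (Type u)}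
    (f : ToposFin.eps J V ⟶ S) :
    sectEquiv W S (epsMap h ≫ f) = S.obj.map h.op (sectEquiv V S f) := by
  unfold sectEquiv
  simp only [Equiv.trans_apply]
  rw [Adjunction.homEquiv_naturality_left]
  exact (yonedaEquiv_naturality (C := C) _ h).symm

lemma evEquiv_epsMap_comp {W V : C} (h : W ⟶ V) (A : Sheaf J AddCommGrpCat.{u})
    (σ : (G J).obj (ToposFin.eps J V) ⟶ A) :
    evEquiv W A ((G J).map (epsMap h) ≫ σ) =
      ((CechTop.U J).obj A).obj.map h.op (evEquiv V A σ) := by
  unfold evEquiv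
  simp only [Equiv.trans_apply]
  rw [Adjunction.homEquiv_naturality_left, sectEquiv_epsMap_comp]

/-- `Ext^{q+1}(coker(ℤ[K'] ⟶ ℤ[K]), F) = 0` for `F` totally acyclic and any map `K' ⟶ K` of
sheaves of sets -/
theorem acyc_cokernel_G_map' (F : Sheaf J AddCommGrpCat.{u}) (hF : CohCx.IsTotallyAcyclic F)
    {K' K : Sheaf J (Type u)} (f : K' ⟶ K) : AcyclicRes.Acyc.{u} F (cokernel ((G J).map f)) := by
  have hf : (G J).map f = (G J).map (Sheaf.toImage f) ≫ (G J).map (Sheaf.imageι f) := by
    rw [← Functor.map_comp, Sheaf.toImage_ι]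
  have h1 := acyc_cokernel_G_map F hF (Sheaf.imageι f)
  exact AcyclicRes.acyc_of_iso
    ((cokernelEpiComp ((G J).map (Sheaf.toImage f)) ((G J).map (Sheaf.imageι f))).symm ≪≫
      (cokernelIsoOfEq hf).symm) h1

/-- flasque lifting: for a short exact sequence of abelian sheaves with totally acyclic kernel,
a section of the quotient over `V` vanishing on a family of arrows to `V` lifts to a section
of the middle term vanishing on the same arrows -/
theorem exists_lift_ab {S : ShortComplex (Sheaf J AddCommGrpCat.{u})} (hS : S.ShortExact)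
    (hA : CohCx.IsTotallyAcyclic S.X₁) (V : C) (P : ∀ W : C, (W ⟶ V) → Prop)
    (c : (G J).obj (ToposFin.eps J V) ⟶ S.X₃)
    (hc : ∀ (W : C) (h : W ⟶ V), P W h → (G J).map (epsMap h) ≫ c = 0) :
    ∃ b : (G J).obj (ToposFin.eps J V) ⟶ S.X₂, b ≫ S.g = c ∧
      ∀ (W : C) (h : W ⟶ V), P W h → (G J).map (epsMap h) ≫ b = 0 := by
  let ι : Type u := Σ W : C, {h : W ⟶ V // P W h}
  let X : ι → Sheaf J (Type u) := fun j => ToposFin.eps J j.1
  let i : ∐ X ⟶ ToposFin.eps J V := Sigma.desc (fun j => epsMap j.2.1)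
  have : PreservesColimitsOfSize.{u, u} (G J) := (adjG J).leftAdjoint_preservesColimits
  have hi : (G J).map i ≫ c = 0 := by
    rw [← cancel_epi (sigmaComparison (G J) X)]
    refine Sigma.hom_ext _ _ (fun j => ?_)
    rw [comp_zero, comp_zero, ← Category.assoc, ← Category.assoc, ι_comp_sigmaComparison,
      ← Functor.map_comp, Sigma.ι_desc]
    exact hc j.1 j.2.1 j.2.2
  let π := cokernel.π ((G J).map i)
  let c' : cokernel ((G J).map i) ⟶ S.X₃ := cokernel.desc _ c hi
  obtain ⟨b', hb'⟩ := ExtShift.lift_of_ext_one_subsingleton _ hS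
    (acyc_cokernel_G_map' S.X₁ hA i 0) c'
  refine ⟨π ≫ b', ?_, ?_⟩
  · rw [Category.assoc, hb']
    exact cokernel.π_desc _ _ _
  · intro W h hP
    have e : epsMap h = Sigma.ι X ⟨W, h, hP⟩ ≫ i :=
      (Sigma.ι_desc (f := X) (fun j => epsMap j.2.1) (⟨W, h, hP⟩ : ι)).symm
    rw [e, Functor.map_comp, Category.assoc, ← Category.assoc ((G J).map i)]
    have : (G J).map i ≫ π = 0 := cokernel.condition _
    rw [this, zero_comp, comp_zero]

/-- flasque lifting for modules -/
theorem exists_lift_vanishing {S : ShortComplex (Mod O)} (hS : S.ShortExact)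
    (hA : CohCx.IsTotallyAcyclic (toAb S.X₁)) (V : C) (P : ∀ W : C, (W ⟶ V) → Prop)
    (c : sect S.X₃ V) (hc : ∀ (W : C) (h : W ⟶ V), P W h → res S.X₃ h c = 0) :
    ∃ b : sect S.X₂ V, app S.g V b = c ∧ ∀ (W : C) (h : W ⟶ V), P W h → res S.X₂ h b = 0 := by
  haveI := Groth.Agent.Lib.Helper94.ModSiteBasic.toSheaf_preservesFiniteColimits (ringSh O)
  have hS' : (S.map (SheafOfModules.toSheaf (ringSh O))).ShortExact :=
    hS.map_of_exact (SheafOfModules.toSheaf (ringSh O))
  let c' : (G J).obj (ToposFin.eps J V) ⟶ (SheafOfModules.toSheaf (ringSh O)).obj S.X₃ :=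
    (evEquiv V _).symm c
  have hc' : ∀ (W : C) (h : W ⟶ V), P W h → (G J).map (epsMap h) ≫ c' = 0 := by
    intro W h hP
    apply (evEquiv W _).injective
    rw [evEquiv_epsMap_comp, evEquiv_zero]
    have : evEquiv V _ c' = c := Equiv.apply_symm_apply _ _
    rw [this]
    exact hc W h hP
  obtain ⟨b', hb1, hb2⟩ := exists_lift_ab hS' hA V P c' hc'
  refine ⟨evEquiv V _ b', ?_, ?_⟩
  · have h1 := evEquiv_comp V b' ((SheafOfModules.toSheaf (ringSh O)).map S.g)
    have h2 : b' ≫ (SheafOfModules.toSheaf (ringSh O)).map S.g = c' := hb1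
    rw [h2] at h1
    have h3 : evEquiv V _ c' = c := Equiv.apply_symm_apply _ _
    exact h1.symm.trans h3
  · intro W h hP
    have h1 := evEquiv_epsMap_comp h _ b'
    rw [hb2 W h hP, evEquiv_zero] at h1
    exact h1.symm

end Ab

section Main

variable (U : C) [HasPushOver O U]

/-- `Γ_Z` sends a short exact sequence with totally acyclic kernel to an epimorphism -/
theorem epi_sectOn_map {S : ShortComplex (Mod O)} (hS : S.ShortExact)
    (hA : CohCx.IsTotallyAcyclic (toAb S.X₁)) : Epi ((sectOn O U).map S.g) := by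
  have hsurj : ∀ (V : C) (y : sect ((sectOn O U).obj S.X₃) V),
      ∃ b' : sect ((sectOn O U).obj S.X₂) V, app ((sectOn O U).map S.g) V b' = y := by
    intro V y
    obtain ⟨b, hb1, hb2⟩ := exists_lift_vanishing hS hA V (fun W _ => Nonempty (W ⟶ U))
      (app (sι O U S.X₃) V y) (fun W h ⟨a⟩ => res_sι_eq_zero U S.X₃ h a y)
    obtain ⟨b', hb'⟩ := exists_sectOn_section U S.X₂ b hb2
    refine ⟨b', ?_⟩
    apply app_injective_of_mono (sι O U S.X₃) V
    rw [← app_comp, sι_naturality, app_comp, hb', hb1]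
  apply Abelian.epi_of_cokernel_π_eq_zero
  apply hom_eq_zero_of_app
  intro V y
  obtain ⟨b', rfl⟩ := hsurj V y
  rw [← app_comp, cokernel.condition]
  rfl

omit [HasPushOver O U] in
/-- cokernels of monomorphisms between totally acyclic modules are totally acyclic -/
theorem isTotallyAcyclic_X₃ {S : ShortComplex (Mod O)} (hS : S.ShortExact)
    (h1 : CohCx.IsTotallyAcyclic (toAb S.X₁)) (h2 : CohCx.IsTotallyAcyclic (toAb S.X₂)) :
    CohCx.IsTotallyAcyclic (toAb S.X₃) := by
  haveI := Groth.Agent.Lib.Helper94.ModSiteBasic.toSheaf_preservesFiniteColimits (ringSh O)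
  have hS' : (S.map (SheafOfModules.toSheaf (ringSh O))).ShortExact :=
    hS.map_of_exact (SheafOfModules.toSheaf (ringSh O))
  intro K p
  have a1 := h1 K (p + 1)
  have a2 := h2 K p
  refine subsingleton_of_forall_eq 0 fun x => ?_
  obtain ⟨x₂, hx₂⟩ := Abelian.Ext.covariant_sequence_exact₃ _ hS' x (rfl : p + 1 + 1 = p + 2)
    (@Subsingleton.elim _ a1 _ _)
  have hx0 : x₂ = 0 := @Subsingleton.elim _ a2 _ _
  rw [← hx₂, hx0, Abelian.Ext.zero_comp]
  rfl

/-- `ℋ^{k+1}_Z(M) = 0` for `M` totally acyclic -/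
theorem isZero_HZsh_succ_of_isTotallyAcyclic [HasInjectiveResolutions (Mod O)] (M : Mod O)
    (hM : CohCx.IsTotallyAcyclic (toAb M)) (k : ℕ) : IsZero ((HZsh O U (k + 1)).obj M) := by
  haveI := Groth.Agent.Lib.Helper34.SS.enoughInjectives_of_hasInjectiveResolutions (Mod O)
  exact Groth.Agent.Lib.Cohomology.isZero_rightDerived_succ_of_class (sectOn O U)
    (fun M => CohCx.IsTotallyAcyclic (toAb M))
    (fun I _ => CechMod.isTotallyAcyclic_toSheaf_of_injective (ringSh O) I)
    (fun S hS h1 h2 => isTotallyAcyclic_X₃ hS h1 h2)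
    (fun S hS h1 => epi_sectOn_map U hS h1) M hM k

end Main

end Groth.Agent.Lib.Helper19.SiteFlasque
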