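import Groth.Agent.Lib.Helper34.NullHom
import Groth.Agent.Lib.Helper94.ModFlat
import Groth.Agent.Lib.Helper94.JShriekFlat

/-!
# `Γ_Z ℋom(M, -) ≅ ℋom(M_Z, -)` on a ringed site (helper19)

Namespace `Groth.Agent.Lib.Helper19.SiteHomNull`.
`quotOnTensIso : quotOn O U ⋙ tensR O M ≅ tensR O (M_Z)` (`A_Z ⊗ M ≅ A ⊗ M_Z`, both being the
reflection of `A ⊗ M` into modules null on `U`), `sheafHomSectOnQuotIso`.
-/

set_option autoImplicit false
universe u
open CategoryTheory CategoryTheory.Limits Opposite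

namespace Groth.Agent.Lib.Helper19.SiteHomNull

section Abstract

variable {A B : Type*} [Category A] [Abelian A] [Category B] [Abelian B]
  (F : A ⥤ B) [F.Additive] [PreservesFiniteColimits F]

/-- a right exact functor sends a cokernel sequence to a right exact sequence: descent -/
theorem exists_desc_map_cokernel {X Y : A} (f : X ⟶ Y) {Z : B} (g : F.obj Y ⟶ Z)
    (hg : F.map f ≫ g = 0) : ∃ g' : F.obj (cokernel f) ⟶ Z, F.map (cokernel.π f) ≫ g' = g := by
  let S : ShortComplex A := ShortComplex.mk f (cokernel.π f) (cokernel.condition f)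
  have hS : S.Exact := ShortComplex.exact_of_g_is_cokernel _ (cokernelIsCokernel f)
  have hepi : Epi S.g := inferInstanceAs (Epi (cokernel.π f))
  have hF : PreservesFiniteColimits F := inferInstance
  have key := ((Functor.preservesFiniteColimits_tfae F).out 3 1).1 hF
  obtain ⟨hex, hepi'⟩ := key S ⟨hS, hepi⟩
  haveI : Epi (S.map F).g := hepi'
  exact ⟨hex.desc g hg, hex.g_desc g hg⟩

instance epi_map_cokernel_π {X Y : A} (f : X ⟶ Y) : Epi (F.map (cokernel.π f)) := by
  let S : ShortComplex A := ShortComplex.mk f (cokernel.π f) (cokernel.condition f)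
  have hS : S.Exact := ShortComplex.exact_of_g_is_cokernel _ (cokernelIsCokernel f)
  have hepi : Epi S.g := inferInstanceAs (Epi (cokernel.π f))
  have hF : PreservesFiniteColimits F := inferInstance
  have key := ((Functor.preservesFiniteColimits_tfae F).out 3 1).1 hF
  exact (key S ⟨hS, hepi⟩).2

end Abstract

open ModSite Groth.Agent.Lib.Helper94.JShriek Groth.Agent.Lib.Helper94.ModTensorW
  Groth.Agent.Lib.Helper94.ModTensor Groth.Agent.Lib.Helper94.ModOver
  Groth.Agent.Lib.Helper94.ModFlat Groth.Agent.Lib.Helper34.NullTorsion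
  Groth.Agent.Lib.Helper34.NullHom

variable {C : Type u} [SmallCategory C] {J : GrothendieckTopology C} {O : Sheaf J CommRingCat.{u}}
  {U : C}

lemma isNullOn_of_iso {B B' : Mod O} (e : B ≅ B') (hB : IsNullOn O U B) : IsNullOn O U B' :=
  IsZero.of_iso hB ((restr O U).mapIso e.symm)

/-- maps from `j_! G ⊗ M` to a module null on `U` vanish -/
lemma tensR_extZero_hom_eq_zero {B : Mod O} (hB : IsNullOn O U B) (M : Mod O)
    {G : Mod (O.over U)} (f : (tensR O M).obj ((extZero O U).obj G) ⟶ B) : f = 0 := by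
  let e := (extZeroTensRIso O U M).app G
  have h1 : e.hom ≫ f = 0 := extZero_hom_eq_zero hB _
  have : f = e.inv ≫ e.hom ≫ f := by rw [e.inv_hom_id_assoc]
  rw [this, h1, comp_zero]

/-- maps from `A ⊗ j_! G` to a module null on `U` vanish -/
lemma tensL_extZero_hom_eq_zero {B : Mod O} (hB : IsNullOn O U B) (A : Mod O)
    {G : Mod (O.over U)} (f : (tensL O A).obj ((extZero O U).obj G) ⟶ B) : f = 0 := by
  let e := (tensLIsoTensR O A).app ((extZero O U).obj G)
  have h1 : e.inv ≫ f = 0 := tensR_extZero_hom_eq_zero hB A _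
  have : f = e.hom ≫ e.inv ≫ f := by rw [e.hom_inv_id_assoc]
  rw [this, h1, comp_zero]

/-- `A ⊗ B` is null on `U` if `B` is -/
theorem isNullOn_tensL {B : Mod O} (hB : IsNullOn O U B) (A : Mod O) :
    IsNullOn O U ((tensL O A).obj B) :=
  isNullOn_of_iso ((tensLIsoTensR O A).app B).symm (isNullOn_tensR hB A)

variable (U) (M : Mod O)

/-- `A ⊗ M ⟶ A_Z ⊗ M` -/
noncomputable def p (A : Mod O) :
    ((tensorBi O).obj A).obj M ⟶ (tensR O M).obj ((quotOn O U).obj A) :=
  (tensR O M).map (qπ O U A)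

/-- `A ⊗ M ⟶ A ⊗ M_Z` -/
noncomputable def r (A : Mod O) :
    ((tensorBi O).obj A).obj M ⟶ (tensL O A).obj ((quotOn O U).obj M) :=
  (tensL O A).map (qπ O U M)

instance (A : Mod O) : Epi (p U M A) :=
  inferInstanceAs (Epi ((tensR O M).map (cokernel.π ((extZeroAdj O U).counit.app A))))

instance (A : Mod O) : Epi (r U M A) :=
  inferInstanceAs (Epi ((tensL O A).map (cokernel.π ((extZeroAdj O U).counit.app M))))

variable [HasPushOver O U]

lemma exists_u (A : Mod O) :
    ∃ u : (tensR O M).obj ((quotOn O U).obj A) ⟶ (tensL O A).obj ((quotOn O U).obj M),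
      p U M A ≫ u = r U M A :=
  exists_desc_map_cokernel (tensR O M) ((extZeroAdj O U).counit.app A) (r U M A)
    (tensR_extZero_hom_eq_zero (isNullOn_tensL (ExtSupp.isNullOn_quotOn O U M) A) M _)

lemma exists_v (A : Mod O) :
    ∃ v : (tensL O A).obj ((quotOn O U).obj M) ⟶ (tensR O M).obj ((quotOn O U).obj A),
      r U M A ≫ v = p U M A :=
  exists_desc_map_cokernel (tensL O A) ((extZeroAdj O U).counit.app M) (p U M A)
    (tensL_extZero_hom_eq_zero (isNullOn_tensR (ExtSupp.isNullOn_quotOn O U A) M) A _)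

/-- `A_Z ⊗ M ⟶ A ⊗ M_Z` -/
noncomputable def u (A : Mod O) :
    (tensR O M).obj ((quotOn O U).obj A) ⟶ (tensL O A).obj ((quotOn O U).obj M) :=
  (exists_u U M A).choose

/-- `A ⊗ M_Z ⟶ A_Z ⊗ M` -/
noncomputable def v (A : Mod O) :
    (tensL O A).obj ((quotOn O U).obj M) ⟶ (tensR O M).obj ((quotOn O U).obj A) :=
  (exists_v U M A).choose

@[reassoc]
lemma p_u (A : Mod O) : p U M A ≫ u U M A = r U M A := (exists_u U M A).choose_spec

@[reassoc]
lemma r_v (A : Mod O) : r U M A ≫ v U M A = p U M A := (exists_v U M A).choose_spec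

lemma u_v (A : Mod O) : u U M A ≫ v U M A = 𝟙 _ := by
  rw [← cancel_epi (p U M A), p_u_assoc, r_v, Category.comp_id]

lemma v_u (A : Mod O) : v U M A ≫ u U M A = 𝟙 _ := by
  rw [← cancel_epi (r U M A), r_v_assoc, p_u, Category.comp_id]

omit [HasPushOver O U] in
lemma p_naturality {A A' : Mod O} (g : A ⟶ A') :
    p U M A ≫ (tensR O M).map ((quotOn O U).map g) = (tensR O M).map g ≫ p U M A' := by
  unfold p
  rw [← Functor.map_comp, ← Functor.map_comp, qπ_naturality]

omit [HasPushOver O U] in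
lemma r_naturality {A A' : Mod O} (g : A ⟶ A') :
    r U M A ≫ (tensR O ((quotOn O U).obj M)).map g = (tensR O M).map g ≫ r U M A' :=
  ((tensorBi O).map g).naturality (qπ O U M)

/-- `A_Z ⊗ M ≅ A ⊗ M_Z`, naturally in `A` -/
noncomputable def quotOnTensIso :
    quotOn O U ⋙ tensR O M ≅ tensR O ((quotOn O U).obj M) :=
  NatIso.ofComponents (fun A => ⟨u U M A, v U M A, u_v U M A, v_u U M A⟩) (by
    intro A A' g
    dsimp only [Functor.comp_obj, Functor.comp_map]
    rw [← cancel_epi (p U M A), p_u_assoc, ← Category.assoc, p_naturality, Category.assoc, p_u,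
      r_naturality])

variable [HasSheafHom M] [HasSheafHom ((quotOn O U).obj M)]

/-- `Γ_Z ℋom(M, -) ≅ ℋom(M_Z, -)` -/
noncomputable def sheafHomSectOnQuotIso :
    sheafHom M ⋙ sectOn O U ≅ sheafHom ((quotOn O U).obj M) :=
  (((quotOnSectOnAdj O U).comp (sheafHomAdj M)).ofNatIsoLeft (quotOnTensIso U M)).rightAdjointUniq
    (sheafHomAdj ((quotOn O U).obj M))

end Groth.Agent.Lib.Helper19.SiteHomNull
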