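import Groth.Agent.Lib.Helper19.SiteFlasque
import Groth.Agent.Lib.Helper19.SiteLocCoh
import Groth.Agent.Lib.Cohomology.Helper3_RDerComp2

/-!
# Local cohomology sheaves on a ringed site commute with exact functors (helper19)

Namespace `Groth.Agent.Lib.Helper19.SiteLocCohComm`.
* `nonempty_rightDerived_comm` : abstract: `Γ₁ ⋙ Φ ≅ Φ ⋙ Γ₂`, `Φ` exact sending injectives to
  `Γ₂`-acyclics ⇒ `RⁿΓ₁ ⋙ Φ ≅ Φ ⋙ RⁿΓ₂`.
* `nonempty_sectOn_comp_iso` : `Γ_Z ⋙ Φ ≅ Φ ⋙ Γ_{Z'}` for a functor `Φ` between module categories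
  of two ringed sites which is "the identity on sections".
-/

set_option autoImplicit false
universe u
open CategoryTheory CategoryTheory.Limits Opposite

namespace Groth.Agent.Lib.Helper19.SiteLocCohComm

section Abstract

universe v₁ u₁ v₂ u₂

variable {A : Type u₁} [Category.{v₁} A] [Abelian A] [HasInjectiveResolutions A]
  {B : Type u₂} [Category.{v₂} B] [Abelian B] [HasInjectiveResolutions B]
  (Γ₁ : A ⥤ A) [Γ₁.Additive] [PreservesFiniteLimits Γ₁]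
  (Γ₂ : B ⥤ B) [Γ₂.Additive] [PreservesFiniteLimits Γ₂]
  (Φ : A ⥤ B) [Φ.Additive] [PreservesFiniteLimits Φ] [PreservesFiniteColimits Φ]

open Groth.Agent.Lib.Cohomology

theorem nonempty_rightDerived_comm (e : Γ₁ ⋙ Φ ≅ Φ ⋙ Γ₂)
    (hacyc : ∀ (n : ℕ) (I : A), Injective I →
      IsZero ((Γ₂.rightDerived (n + 1)).obj (Φ.obj I))) (q : ℕ) :
    Nonempty (Γ₁.rightDerived q ⋙ Φ ≅ Φ ⋙ Γ₂.rightDerived q) := by
  haveI := Groth.Agent.Lib.Helper34.SS.enoughInjectives_of_hasInjectiveResolutions A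
  haveI := Groth.Agent.Lib.Helper34.SS.enoughInjectives_of_hasInjectiveResolutions B
  obtain ⟨e1⟩ := RDerComp.nonempty_rightDerived_post_iso Γ₁ Φ q
  obtain ⟨e2⟩ := RDerComp.nonempty_rightDerived_comp_iso Φ Γ₂ hacyc q
  exact ⟨e1.symm ≪≫ RDerComp.rightDerivedIso e q ≪≫ e2⟩

end Abstract

section Level0

open ModSite Groth.Agent.Lib.Helper34.NullTorsion Groth.Agent.Lib.Helper34.NullLocal
  Groth.Agent.Lib.Helper19.SiteFlasque

variable {C₁ : Type u} [SmallCategory C₁] {J₁ : GrothendieckTopology C₁}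
  {O₁ : Sheaf J₁ CommRingCat.{u}} (U₁ : C₁) [HasPushOver O₁ U₁]
  {C₂ : Type u} [SmallCategory C₂] {J₂ : GrothendieckTopology C₂}
  {O₂ : Sheaf J₂ CommRingCat.{u}} (U₂ : C₂) [HasPushOver O₂ U₂]
  (Φ : Mod O₁ ⥤ Mod O₂) [Φ.PreservesMonomorphisms]
  (ob : C₂ → C₁)
  (σ : ∀ (N : Mod O₁) (Y : C₂), sect (Φ.obj N) Y → sect N (ob Y))
  (hσ : ∀ N Y, Function.Bijective (σ N Y))
  (hσ0 : ∀ N Y, σ N Y 0 = 0)
  (hσn : ∀ {N N' : Mod O₁} (f : N ⟶ N') (Y : C₂) (s : sect (Φ.obj N) Y),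
    σ N' Y (app (Φ.map f) Y s) = app f (ob Y) (σ N Y s))
  (hnull : ∀ W₂ : C₂, (W₂ ⟶ U₂) → Nonempty (ob W₂ ⟶ U₁))
  (hres : ∀ (N : Mod O₁) (V₂ : C₂) (s : sect (Φ.obj N) V₂),
    (∀ (W₂ : C₂) (h₂ : W₂ ⟶ V₂), Nonempty (W₂ ⟶ U₂) → res (Φ.obj N) h₂ s = 0) →
    ∀ (W₁ : C₁) (h₁ : W₁ ⟶ ob V₂), Nonempty (W₁ ⟶ U₁) → res N h₁ (σ N V₂ s) = 0)

omit [HasPushOver O₂ U₂] [Φ.PreservesMonomorphisms] in
include hσ hσ0 hnull in
lemma isNullOn_map_sectOn (N : Mod O₁) :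
    IsNullOn O₂ U₂ (Φ.obj ((sectOn O₁ U₁).obj N)) := by
  rw [ExtSupp.isNullOn_iff]
  intro W a x
  obtain ⟨a'⟩ := hnull W a
  apply (hσ _ W).1
  rw [hσ0]
  exact eq_zero_of_isNullOn U₁ (isNullOn_sectOn O₁ U₁ N) a' _

/-- the comparison map `Φ(Γ_Z N) ⟶ Γ_{Z'}(Φ N)` -/
noncomputable def θ (N : Mod O₁) :
    Φ.obj ((sectOn O₁ U₁).obj N) ⟶ (sectOn O₂ U₂).obj (Φ.obj N) :=
  sectOnLift (isNullOn_map_sectOn U₁ U₂ Φ ob σ hσ hσ0 hnull N) (Φ.map (sι O₁ U₁ N))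

lemma θ_ι (N : Mod O₁) :
    θ U₁ U₂ Φ ob σ hσ hσ0 hnull N ≫ sι O₂ U₂ (Φ.obj N) = Φ.map (sι O₁ U₁ N) :=
  sectOnLift_ι _ _

instance mono_θ (N : Mod O₁) : Mono (θ U₁ U₂ Φ ob σ hσ hσ0 hnull N) := by
  have : Mono (θ U₁ U₂ Φ ob σ hσ hσ0 hnull N ≫ sι O₂ U₂ (Φ.obj N)) := by
    rw [θ_ι]
    infer_instance
  exact mono_of_mono _ (sι O₂ U₂ (Φ.obj N))

include hσn hres in
theorem epi_θ (N : Mod O₁) : Epi (θ U₁ U₂ Φ ob σ hσ hσ0 hnull N) := by
  have hsurj : ∀ (V : C₂) (y : sect ((sectOn O₂ U₂).obj (Φ.obj N)) V),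
      ∃ b : sect (Φ.obj ((sectOn O₁ U₁).obj N)) V,
        app (θ U₁ U₂ Φ ob σ hσ hσ0 hnull N) V b = y := by
    intro V y
    let β := app (sι O₂ U₂ (Φ.obj N)) V y
    have hβ : ∀ (W₂ : C₂) (h₂ : W₂ ⟶ V), Nonempty (W₂ ⟶ U₂) → res (Φ.obj N) h₂ β = 0 :=
      fun W₂ h₂ ⟨a⟩ => res_sι_eq_zero U₂ (Φ.obj N) h₂ a y
    obtain ⟨b', hb'⟩ := exists_sectOn_section U₁ N (σ N V β) (hres N V β hβ)
    obtain ⟨b, hb⟩ := (hσ ((sectOn O₁ U₁).obj N) V).2 b'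
    refine ⟨b, ?_⟩
    apply app_injective_of_mono (sι O₂ U₂ (Φ.obj N)) V
    rw [← app_comp, θ_ι]
    apply (hσ N V).1
    rw [hσn, hb, hb']
  apply Abelian.epi_of_cokernel_π_eq_zero
  apply hom_eq_zero_of_app
  intro V y
  obtain ⟨b, rfl⟩ := hsurj V y
  rw [← app_comp, cokernel.condition]
  rfl

include hσ hσ0 hnull hσn hres in
/-- `Γ_Z ⋙ Φ ≅ Φ ⋙ Γ_{Z'}` -/
theorem nonempty_sectOn_comp_iso :
    Nonempty (sectOn O₁ U₁ ⋙ Φ ≅ Φ ⋙ sectOn O₂ U₂) := by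
  have hiso : ∀ N, IsIso (θ U₁ U₂ Φ ob σ hσ hσ0 hnull N) := fun N => by
    haveI := epi_θ U₁ U₂ Φ ob σ hσ hσ0 hσn hnull hres N
    exact isIso_of_mono_of_epi _
  refine ⟨NatIso.ofComponents (fun N => asIso (θ U₁ U₂ Φ ob σ hσ hσ0 hnull N)) ?_⟩
  intro N N' g
  apply sectOn_hom_ext
  dsimp only [Functor.comp_obj, Functor.comp_map, asIso_hom]
  rw [Category.assoc, θ_ι, Category.assoc, sι_naturality, ← Category.assoc, θ_ι,
    ← Functor.map_comp, ← Functor.map_comp, sι_naturality]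

end Level0

section RestrictScalars

open ModSite Groth.Agent.Lib.Helper34.NullTorsion Groth.Agent.Lib.Helper34.NullLocal
  Groth.Agent.Lib.Helper19.SiteFlasque

variable {C : Type u} [SmallCategory C] {J : GrothendieckTopology C}
  {O O' : Sheaf J CommRingCat.{u}} (φ : O ⟶ O')

/-- restriction of scalars along a morphism of structure sheaves -/
noncomputable abbrev ρ : Mod O' ⥤ Mod O :=
  SheafOfModules.restrictScalars ((sheafCompose J (forget₂ CommRingCat.{u} RingCat.{u})).map φ)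

lemma ρ_exact_map (S : ShortComplex (Mod O')) (hS : S.ShortExact) :
    (S.map (ρ φ)).Exact ∧ Mono ((ρ φ).map S.f) ∧ Epi ((ρ φ).map S.g) := by
  haveI := Groth.Agent.Lib.Helper94.ModSiteBasic.toSheaf_preservesFiniteColimits (ringSh O)
  haveI := Groth.Agent.Lib.Helper94.ModSiteBasic.toSheaf_preservesFiniteColimits (ringSh O')
  have hS' : (S.map (SheafOfModules.toSheaf (ringSh O'))).ShortExact :=
    hS.map_of_exact (SheafOfModules.toSheaf (ringSh O'))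
  refine ⟨?_, ?_, ?_⟩
  · apply (SheafOfModules.toSheaf (ringSh O)).reflects_exact_of_faithful
    exact hS'.exact
  · have : Mono ((SheafOfModules.toSheaf (ringSh O)).map ((ρ φ).map S.f)) := hS'.mono_f
    exact (SheafOfModules.toSheaf (ringSh O)).mono_of_mono_map this
  · have : Epi ((SheafOfModules.toSheaf (ringSh O)).map ((ρ φ).map S.g)) := hS'.epi_g
    exact (SheafOfModules.toSheaf (ringSh O)).epi_of_epi_map this

instance : PreservesFiniteLimits (ρ φ) :=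
  (Functor.preservesFiniteLimits_iff_forall_exact_map_and_mono (ρ φ)).2
    (fun S hS => ⟨(ρ_exact_map φ S hS).1, (ρ_exact_map φ S hS).2.1⟩)

instance : PreservesFiniteColimits (ρ φ) :=
  (Functor.preservesFiniteColimits_iff_forall_exact_map_and_epi (ρ φ)).2
    (fun S hS => ⟨(ρ_exact_map φ S hS).1, (ρ_exact_map φ S hS).2.2⟩)

variable (U : C) [HasPushOver O U] [HasPushOver O' U]

/-- `Γ_Z` commutes with restriction of scalars -/
theorem nonempty_sectOn_ρ_iso : Nonempty (sectOn O' U ⋙ ρ φ ≅ ρ φ ⋙ sectOn O U) :=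
  nonempty_sectOn_comp_iso (O₁ := O') (O₂ := O) U U (ρ φ) id (fun _ _ s => s)
    (fun _ _ => Function.bijective_id) (fun _ _ => rfl) (fun _ _ _ => rfl)
    (fun _ a => ⟨a⟩) (fun _ _ _ h W₁ h₁ ha => h W₁ h₁ ha)

/-- `ℋ^q_Z` commutes with restriction of scalars -/
theorem nonempty_HZsh_ρ_iso [HasInjectiveResolutions (Mod O)] [HasInjectiveResolutions (Mod O')]
    (q : ℕ) : Nonempty (HZsh O' U q ⋙ ρ φ ≅ ρ φ ⋙ HZsh O U q) := by
  obtain ⟨e⟩ := nonempty_sectOn_ρ_iso φ U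
  exact nonempty_rightDerived_comm (sectOn O' U) (sectOn O U) (ρ φ) e
    (fun n I _ => isZero_HZsh_succ_of_isTotallyAcyclic U ((ρ φ).obj I)
      (CechMod.isTotallyAcyclic_toSheaf_of_injective (ringSh O') I) n) q

end RestrictScalars

section Localise

open ModSite Groth.Agent.Lib.Helper34.NullTorsion Groth.Agent.Lib.Helper34.NullLocal
  Groth.Agent.Lib.Helper19.SiteFlasque Groth.Agent.Lib.Helper19.SiteLocCoh

variable {C : Type u} [SmallCategory C] {J : GrothendieckTopology C}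
  (O : Sheaf J CommRingCat.{u}) [HasBinaryProducts C] (U X : C)
  [HasPushOver (O.over X) (Over.mk (Limits.prod.snd : U ⨯ X ⟶ X))]

/-- `Γ_Z` commutes with localisation -/
theorem nonempty_sectOn_restr_iso :
    Nonempty (sectOn O U ⋙ restr O X ≅
      restr O X ⋙ sectOn (O.over X) (Over.mk (Limits.prod.snd : U ⨯ X ⟶ X))) :=
  nonempty_sectOn_comp_iso (O₁ := O) (O₂ := O.over X) U
    (Over.mk (Limits.prod.snd : U ⨯ X ⟶ X)) (restr O X) (fun Y => Y.left) (fun _ _ s => s)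
    (fun _ _ => Function.bijective_id) (fun _ _ => rfl) (fun _ _ _ => rfl)
    (fun _ a => ⟨a.left ≫ Limits.prod.fst⟩)
    (fun N V₂ s h W₁ h₁ ⟨a⟩ =>
      h (Over.mk (h₁ ≫ V₂.hom)) (Over.homMk h₁ rfl)
        ⟨Over.homMk (prod.lift a (h₁ ≫ V₂.hom)) (prod.lift_snd _ _)⟩)

/-- `ℋ^q_Z` commutes with localisation -/
theorem nonempty_HZsh_restr_iso [HasInjectiveResolutions (Mod O)]
    [HasInjectiveResolutions (Mod (O.over X))] (q : ℕ) :
    Nonempty (HZsh O U q ⋙ restr O X ≅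
      restr O X ⋙ HZsh (O.over X) (Over.mk (Limits.prod.snd : U ⨯ X ⟶ X)) q) := by
  obtain ⟨e⟩ := nonempty_sectOn_restr_iso O U X
  exact nonempty_rightDerived_comm (sectOn O U)
    (sectOn (O.over X) (Over.mk (Limits.prod.snd : U ⨯ X ⟶ X))) (restr O X) e
    (fun n I _ => Functor.isZero_rightDerived_obj_injective_succ _ n _) q

end Localise

end Groth.Agent.Lib.Helper19.SiteLocCohComm
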