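import Groth.Agent.Lib.Helper19.TracePage
import Groth.Prelude.Def_SpSeq

/-!
helper19: traces on the limit page and on the abutment of a spectral sequence of `ℂ[X]`-modules.
-/

set_option autoImplicit false
universe u

open CategoryTheory CategoryTheory.Limits
open Groth.Agent.Lib.Helper19.TraceSES Groth.Agent.Lib.Helper19.TracePage

namespace Groth.Agent.Lib.Helper19.TraceAbut

variable {M : ℤ × ℤ → PM.{u}} {N : ℕ} {a c : ℕ → ℝ} {b d : ℕ → ℕ}

theorem Bdd.isZero_of (hM : Bdd M N a c b d) (pq : ℤ × ℤ)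
    (h : pq.1 < 0 ∨ pq.2 < 0 ∨ (N : ℤ) < pq.2) : IsZero (M pq) := by
  by_cases hq : pq.1 < 0 ∨ pq.2 < 0
  · exact hM.quad pq hq
  · push Not at hq
    have hN : (N : ℤ) < pq.2 := by
      rcases h with h | h | h
      · omega
      · omega
      · exact h
    have e : pq = ((pq.1.toNat : ℤ), (pq.2.toNat : ℤ)) :=
      Prod.ext (Int.toNat_of_nonneg hq.1).symm (Int.toNat_of_nonneg hq.2).symm
    rw [e]
    exact hM.van _ _ (by omega)

section Cx

variable {v : ℤ × ℤ} (K : HomologicalComplex PM.{u} (ComplexShape.up' v))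

theorem tr_imF_eq_zero (S : ShortComplex PM.{u}) (hf : S.f = 0) : tr (imF S) = 0 := by
  apply tr_eq_zero_of_isZero
  have : Subsingleton (LinearMap.range S.f.hom) := by
    rw [hf]
    exact ⟨fun x y => by
      obtain ⟨x, ⟨x', hx⟩⟩ := x
      obtain ⟨y, ⟨y', hy⟩⟩ := y
      apply Subtype.ext
      show x = y
      rw [← hx, ← hy]; rfl⟩
  exact ModuleCat.isZero_of_subsingleton _

theorem tr_imG_eq_zero (S : ShortComplex PM.{u}) (hg : S.g = 0) : tr (imG S) = 0 := by
  apply tr_eq_zero_of_isZero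
  have : Subsingleton (LinearMap.range S.g.hom) := by
    rw [hg]
    exact ⟨fun x y => by
      obtain ⟨x, ⟨x', hx⟩⟩ := x
      obtain ⟨y, ⟨y', hy⟩⟩ := y
      apply Subtype.ext
      show x = y
      rw [← hx, ← hy]; rfl⟩
  exact ModuleCat.isZero_of_subsingleton _

theorem tr_X_eq_of_d_zero (j : ℤ × ℤ) [Module.Finite ℂ (rs.obj (K.X j))]
    (h1 : K.d (j - v) j = 0) (h2 : K.d j (j + v) = 0) :
    tr (K.X j) = tr (K.homology j) := by
  have hfin : Module.Finite ℂ (rs.obj (K.sc j).X₂) := ‹Module.Finite ℂ (rs.obj (K.X j))›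
  have h := tr_X₂ (K.sc j)
  have hn : (ComplexShape.up' v).next j = j + v := (ComplexShape.up' v).next_eq' rfl
  have hp : (ComplexShape.up' v).prev j = j - v :=
    (ComplexShape.up' v).prev_eq' (show j - v + v = j by abel)
  have hf : (K.sc j).f = 0 := by
    show K.d ((ComplexShape.up' v).prev j) j = 0
    rw [hp]; exact h1
  have hg : (K.sc j).g = 0 := by
    show K.d j ((ComplexShape.up' v).next j) = 0
    rw [hn]; exact h2
  rw [tr_imF_eq_zero _ hf, tr_imG_eq_zero _ hg, zero_add, add_zero] at h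
  exact h

end Cx

section SS

variable (E : E₂CohomologicalSpectralSequence PM.{u})

theorem bdd_all (h2 : Bdd (fun pq => (E.page 2 le_rfl).X pq) N a c b d)
    (ha : ∀ q, 0 ≤ a q) (hc : ∀ p, 0 ≤ c p) (hsum : Summable fun p : ℕ => c p * (d p : ℝ))
    (r : ℤ) (hr : 2 ≤ r) :
    Bdd (fun pq => (E.page r hr).X pq) N a c b d ∧
      ∑' pq : ℕ × ℕ, sgn (emb pq) * tr ((E.page r hr).X (emb pq)) =
        ∑' pq : ℕ × ℕ, sgn (emb pq) * tr ((E.page 2 le_rfl).X (emb pq)) := by
  induction r, hr using Int.leInduction with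
  | base => exact ⟨h2, rfl⟩
  | succ r hr ih =>
    exact ⟨bdd_succ E r hr ih.1, (tsum_succ_nat E r hr ih.1 ha hc hsum).trans ih.2⟩

theorem d_eq_zero_of_ge (r : ℤ) (hr : 2 ≤ r)
    (hB : Bdd (fun pq => (E.page r hr).X pq) N a c b d) (hrN : (N : ℤ) + 2 ≤ r)
    (pq pq' : ℤ × ℤ) : (E.page r hr).d pq pq' = 0 := by
  by_cases hrel : (ComplexShape.up' (⟨r, 1 - r⟩ : ℤ × ℤ)).Rel pq pq'
  · by_cases hsrc : IsZero ((E.page r hr).X pq)
    · exact hsrc.eq_of_src _ _
    · have hq : pq.2 ≤ (N : ℤ) := by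
        by_contra hn
        exact hsrc (Bdd.isZero_of hB pq (Or.inr (Or.inr (by omega))))
      have hrel' : pq + (r, 1 - r) = pq' := hrel
      have h2 : pq'.2 = pq.2 + (1 - r) := by rw [← hrel']; rfl
      exact (hB.quad pq' (Or.inr (by omega))).eq_of_tgt _ _
  · exact (E.page r hr).shape _ _ hrel

theorem tr_page_eq_of_stationary (pq : ℤ × ℤ)
    (hfin : ∀ (r : ℤ) (hr : 2 ≤ r), Module.Finite ℂ (rs.obj ((E.page r hr).X pq)))
    (r₁ : ℤ) (h₁ : 2 ≤ r₁) (r₂ : ℤ) (h₁₂ : r₁ ≤ r₂)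
    (hst : ∀ (r' : ℤ) (h : 2 ≤ r'), r₁ ≤ r' → r' < r₂ →
      (E.page r' h).d (pq - (r', 1 - r')) pq = 0 ∧ (E.page r' h).d pq (pq + (r', 1 - r')) = 0) :
    tr ((E.page r₁ h₁).X pq) = tr ((E.page r₂ (h₁.trans h₁₂)).X pq) := by
  induction r₂, h₁₂ using Int.leInduction with
  | base => rfl
  | succ r₂ h₁₂ ih =>
    have ih' := ih (fun r' h h1 h2 => hst r' h h1 (by omega))
    rw [ih']
    have := hfin r₂ (h₁.trans h₁₂)
    obtain ⟨e1, e2⟩ := hst r₂ (h₁.trans h₁₂) h₁₂ (by omega)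
    rw [tr_X_eq_of_d_zero (E.page r₂ (h₁.trans h₁₂)) pq e1 e2]
    exact tr_eq_of_iso (E.iso r₂ (r₂ + 1) pq rfl (h₁.trans h₁₂))

end SS

section Fil

variable {X : PM.{u}} (F : ℤ → Subobject X) (hF : Antitone F)

/-- the short exact sequence `F (p+1) → F p → gr^p` -/
noncomputable def grSC (p : ℤ) : ShortComplex PM.{u} :=
  ShortComplex.mk ((F (p + 1)).ofLE (F p) (hF (Int.le_add_one le_rfl)))
    (cokernel.π ((F (p + 1)).ofLE (F p) (hF (Int.le_add_one le_rfl)))) (cokernel.condition _)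

theorem grSC_shortExact (p : ℤ) : (grSC F hF p).ShortExact where
  exact := ShortComplex.exact_cokernel _
  mono_f := by dsimp [grSC]; infer_instance
  epi_g := by dsimp [grSC]; infer_instance

theorem isZero_of_eq_bot (p : ℤ) (h : F p = ⊥) : IsZero ((F p : PM.{u})) := by
  rw [h]
  exact (isZero_zero _).of_iso Subobject.botCoeIsoZero

theorem finite_fil (hgr : ∀ p, Module.Finite ℂ (rs.obj (SpSeq.grPiece F hF p)))
    (b : ℤ) (hb : F b = ⊥) (p : ℤ) : Module.Finite ℂ (rs.obj (F p : PM.{u})) := by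
  by_cases hp : b ≤ p
  · exact finite_of_isZero (isZero_of_eq_bot F p (le_bot_iff.1 (hb ▸ hF hp)))
  · have hp' : p ≤ b := by omega
    induction p, hp' using Int.leInductionDown with
    | base => exact finite_of_isZero (isZero_of_eq_bot F b hb)
    | pred p hp' ih =>
      by_cases hpb : b ≤ p
      · have : p = b := le_antisymm hp' hpb
        subst this
        have h1 : Module.Finite ℂ (rs.obj (grSC F hF (p - 1)).X₃) := hgr (p - 1)
        have h2 : Module.Finite ℂ (rs.obj (grSC F hF (p - 1)).X₁) := by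
          show Module.Finite ℂ (rs.obj (F (p - 1 + 1) : PM.{u}))
          rw [sub_add_cancel]
          exact finite_of_isZero (isZero_of_eq_bot F p hb)
        exact finite_X₂_of_shortExact _ (grSC_shortExact F hF (p - 1))
      · have ih' := ih hpb
        have h1 : Module.Finite ℂ (rs.obj (grSC F hF (p - 1)).X₃) := hgr (p - 1)
        have h2 : Module.Finite ℂ (rs.obj (grSC F hF (p - 1)).X₁) := by
          show Module.Finite ℂ (rs.obj (F (p - 1 + 1) : PM.{u}))
          rw [sub_add_cancel]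
          exact ih'
        exact finite_X₂_of_shortExact _ (grSC_shortExact F hF (p - 1))

theorem tr_fil_step (hgr : ∀ p, Module.Finite ℂ (rs.obj (SpSeq.grPiece F hF p)))
    (b : ℤ) (hb : F b = ⊥) (p : ℤ) :
    tr (F p : PM.{u}) = tr (F (p + 1) : PM.{u}) + tr (SpSeq.grPiece F hF p) := by
  have : Module.Finite ℂ (rs.obj (grSC F hF p).X₂) := finite_fil F hF hgr b hb p
  exact tr_shortExact _ (grSC_shortExact F hF p)

theorem tr_fil_telescope (hgr : ∀ p, Module.Finite ℂ (rs.obj (SpSeq.grPiece F hF p)))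
    (b : ℤ) (hb : F b = ⊥) (m : ℤ) (k : ℕ) :
    tr (F m : PM.{u}) = tr (F (m + k) : PM.{u}) +
      ∑ i ∈ Finset.range k, tr (SpSeq.grPiece F hF (m + i)) := by
  induction k with
  | zero => simp
  | succ k ih =>
    rw [ih, Finset.sum_range_succ, tr_fil_step F hF hgr b hb (m + k)]
    have : m + (k : ℤ) + 1 = m + ((k + 1 : ℕ) : ℤ) := by push_cast; ring
    rw [this]; ring

theorem tr_top (a : ℤ) (ha : F a = ⊤) : tr (F a : PM.{u}) = tr X := by
  rw [ha]
  exact tr_eq_of_iso (asIso (⊤ : Subobject X).arrow)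

theorem finite_of_fil (hgr : ∀ p, Module.Finite ℂ (rs.obj (SpSeq.grPiece F hF p)))
    (a b : ℤ) (ha : F a = ⊤) (hb : F b = ⊥) : Module.Finite ℂ (rs.obj X) := by
  have h := finite_fil F hF hgr b hb a
  rw [ha] at h
  exact finite_of_iso (asIso (⊤ : Subobject X).arrow)

theorem tr_eq_sum_gr (hgr : ∀ p, Module.Finite ℂ (rs.obj (SpSeq.grPiece F hF p)))
    (a b : ℤ) (ha : F a = ⊤) (hb : F b = ⊥) (m : ℤ) (k : ℕ) (hm : m ≤ a) (hk : b ≤ m + k) :
    tr X = ∑ i ∈ Finset.range k, tr (SpSeq.grPiece F hF (m + i)) := by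
  have h1 : F m = ⊤ := top_le_iff.1 (ha ▸ hF hm)
  have h2 : F (m + k) = ⊥ := le_bot_iff.1 (hb ▸ hF hk)
  rw [← tr_top F m h1, tr_fil_telescope F hF hgr b hb m k,
    tr_eq_zero_of_isZero (isZero_of_eq_bot F _ h2), zero_add]

end Fil

section Anti

open Finset

variable {α : Type*} [NormedAddCommGroup α]

theorem summable_sum_antidiagonal (G : ℕ × ℕ → α) (h : Summable G) :
    Summable fun n => ∑ kl ∈ antidiagonal n, G kl := by
  have h' : Summable fun x : Σ n : ℕ, antidiagonal n => G (x.2 : ℕ × ℕ) :=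
    Finset.HasAntidiagonal.sigmaAntidiagonalEquivProd.summable_iff.2 h
  conv => congr; ext; rw [← Finset.sum_finset_coe, ← tsum_fintype (L := .unconditional _)]
  exact h'.sigma' fun n => (hasSum_fintype _).summable

theorem tsum_sum_antidiagonal (G : ℕ × ℕ → α) (h : Summable G) :
    ∑' n, ∑ kl ∈ antidiagonal n, G kl = ∑' kl, G kl := by
  have h' : Summable fun x : Σ n : ℕ, antidiagonal n => G (x.2 : ℕ × ℕ) :=
    Finset.HasAntidiagonal.sigmaAntidiagonalEquivProd.summable_iff.2 h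
  conv_lhs => congr; ext; rw [← Finset.sum_finset_coe, ← tsum_fintype (L := .unconditional _)]
  rw [← Finset.HasAntidiagonal.sigmaAntidiagonalEquivProd.tsum_eq G]
  exact (h'.tsum_sigma' (fun n => (hasSum_fintype _).summable)).symm

end Anti

section Abut

variable (E : E₂CohomologicalSpectralSequence PM.{u}) (H : ℤ → PM.{u})
  (abut : SpSeq.Abutment E H)

theorem finite_gr_congr (m n : ℤ) (h : m = n) (p : ℤ)
    (hm : Module.Finite ℂ (rs.obj (SpSeq.grPiece (abut.fil m) (abut.anti m) p))) :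
    Module.Finite ℂ (rs.obj (SpSeq.grPiece (abut.fil n) (abut.anti n) p)) := by
  subst h; exact hm

theorem tr_gr_congr (m n : ℤ) (h : m = n) (p : ℤ) :
    tr (SpSeq.grPiece (abut.fil m) (abut.anti m) p) =
      tr (SpSeq.grPiece (abut.fil n) (abut.anti n) p) := by
  subst h; rfl

variable (h2 : Bdd (fun pq => (E.page 2 le_rfl).X pq) N a c b d)
  (ha : ∀ q, 0 ≤ a q) (hc : ∀ p, 0 ≤ c p) (hsum : Summable fun p : ℕ => c p * (d p : ℝ))

include h2 ha hc hsum

theorem tr_limit (pq : ℤ × ℤ) :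
    tr ((E.page (abut.rk pq) (abut.stat pq).1).X pq) =
      tr ((E.page ((N : ℤ) + 2) (by omega)).X pq) := by
  have hfin : ∀ (r : ℤ) (hr : 2 ≤ r), Module.Finite ℂ (rs.obj ((E.page r hr).X pq)) :=
    fun r hr => (bdd_all E h2 ha hc hsum r hr).1.fin pq
  by_cases hle : abut.rk pq ≤ (N : ℤ) + 2
  · exact tr_page_eq_of_stationary E pq hfin (abut.rk pq) (abut.stat pq).1 ((N : ℤ) + 2) hle
      (fun r' h h1 _ => (abut.stat pq).2 r' h h1)
  · have hle' : (N : ℤ) + 2 ≤ abut.rk pq := by omega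
    exact (tr_page_eq_of_stationary E pq hfin ((N : ℤ) + 2) (by omega) (abut.rk pq) hle'
      (fun r' h h1 _ => ⟨d_eq_zero_of_ge E r' h (bdd_all E h2 ha hc hsum r' h).1 h1 _ _,
        d_eq_zero_of_ge E r' h (bdd_all E h2 ha hc hsum r' h).1 h1 _ _⟩)).symm

theorem finite_gr (n p : ℤ) :
    Module.Finite ℂ (rs.obj (SpSeq.grPiece (abut.fil n) (abut.anti n) p)) := by
  refine finite_gr_congr E H abut (p + (n - p)) n (by ring) p ?_
  have : Module.Finite ℂ (rs.obj ((E.page (abut.rk (p, n - p)) (abut.stat (p, n - p)).1).X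
      (p, n - p))) :=
    (bdd_all E h2 ha hc hsum _ _).1.fin (p, n - p)
  exact finite_of_iso (abut.β (p, n - p))

theorem tr_gr (n p : ℤ) :
    tr (SpSeq.grPiece (abut.fil n) (abut.anti n) p) =
      tr ((E.page ((N : ℤ) + 2) (by omega)).X (p, n - p)) := by
  rw [← tr_gr_congr E H abut (p + (n - p)) n (by ring) p,
    ← tr_limit E H abut h2 ha hc hsum (p, n - p)]
  exact (tr_eq_of_iso (abut.β (p, n - p))).symm

theorem tr_H (n : ℕ) (hfin : abut.IsFinite n) :
    Module.Finite ℂ (rs.obj (H n)) ∧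
      tr (H n) = ∑ ij ∈ Finset.HasAntidiagonal.antidiagonal n,
        tr ((E.page ((N : ℤ) + 2) (by omega)).X (emb ij)) := by
  obtain ⟨⟨a₀, ha₀⟩, ⟨b₀, hb₀⟩⟩ := hfin
  have hgr := finite_gr E H abut h2 ha hc hsum (n : ℤ)
  refine ⟨finite_of_fil (abut.fil n) (abut.anti n) hgr a₀ b₀ ha₀ hb₀, ?_⟩
  have hBR := (bdd_all E h2 ha hc hsum ((N : ℤ) + 2) (by omega)).1
  have key := tr_eq_sum_gr (abut.fil n) (abut.anti n) hgr a₀ b₀ ha₀ hb₀
    (-(a₀.natAbs : ℤ)) (a₀.natAbs + (n + 1) + b₀.natAbs) (by omega) (by omega)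
  rw [key, Finset.sum_range_add, Finset.sum_range_add]
  have z1 : ∑ x ∈ Finset.range a₀.natAbs,
      tr (SpSeq.grPiece (abut.fil n) (abut.anti n) (-(a₀.natAbs : ℤ) + (x : ℤ))) = 0 := by
    refine Finset.sum_eq_zero (fun x hx => ?_)
    rw [Finset.mem_range] at hx
    rw [tr_gr E H abut h2 ha hc hsum]
    exact tr_eq_zero_of_isZero (hBR.quad _ (Or.inl (by simp only; omega)))
  have z3 : ∑ x ∈ Finset.range b₀.natAbs,
      tr (SpSeq.grPiece (abut.fil n) (abut.anti n)
        (-(a₀.natAbs : ℤ) + ((a₀.natAbs + (n + 1) + x : ℕ) : ℤ))) = 0 := by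
    refine Finset.sum_eq_zero (fun x _ => ?_)
    rw [tr_gr E H abut h2 ha hc hsum]
    exact tr_eq_zero_of_isZero (hBR.quad _ (Or.inr (by simp only; push_cast; omega)))
  rw [z1, z3, zero_add, add_zero,
    Finset.Nat.sum_antidiagonal_eq_sum_range_succ
      (fun i j => tr ((E.page ((N : ℤ) + 2) (by omega)).X (emb (i, j)))) n]
  refine Finset.sum_congr rfl (fun x hx => ?_)
  rw [Finset.mem_range] at hx
  rw [tr_gr E H abut h2 ha hc hsum]
  have e : ((-(a₀.natAbs : ℤ) + ((a₀.natAbs + x : ℕ) : ℤ)),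
      (n : ℤ) - (-(a₀.natAbs : ℤ) + ((a₀.natAbs + x : ℕ) : ℤ))) = emb (x, n - x) := by
    simp only [emb]
    refine Prod.ext ?_ ?_
    · simp only; push_cast; ring
    · simp only; push_cast; omega
  rw [e]

end Abut

end Groth.Agent.Lib.Helper19.TraceAbut
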