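import Groth.Agent.Lib.Helper19.TraceSES
import Groth.Agent.S14280

/-!
helper19: alternating sums of traces over the pages of a spectral sequence of `ℂ[X]`-modules.
-/

set_option autoImplicit false
universe u

open CategoryTheory CategoryTheory.Limits
open Groth.Agent.Lib.Helper19.TraceSES

namespace Groth.Agent.Lib.Helper19.TracePage

/-- `ℂ[X]`-modules -/
abbrev PM : Type (u + 1) := ModuleCat.{u} (Polynomial ℂ)

/-- the sign `(-1)^(p+q)` -/
noncomputable def sgn (pq : ℤ × ℤ) : ℂ := (-1 : ℂ) ^ (pq.1 + pq.2)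

lemma sgn_add (pq v : ℤ × ℤ) (hv : v.1 + v.2 = 1) : sgn (pq + v) = - sgn pq := by
  unfold sgn
  have : (pq + v).1 + (pq + v).2 = (pq.1 + pq.2) + 1 := by
    simp only [Prod.fst_add, Prod.snd_add]; omega
  rw [this, zpow_add₀ (by norm_num), zpow_one]; ring

lemma sgn_nat (p q : ℕ) : sgn ((p : ℤ), (q : ℤ)) = (-1 : ℂ) ^ (p + q) := by
  unfold sgn
  show (-1 : ℂ) ^ ((p : ℤ) + (q : ℤ)) = _
  rw [← Nat.cast_add, zpow_natCast]

lemma norm_sgn (pq : ℤ × ℤ) : ‖sgn pq‖ = 1 := by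
  unfold sgn; rw [norm_zpow]; simp

/-- the embedding of the first quadrant -/
def emb (pq : ℕ × ℕ) : ℤ × ℤ := ((pq.1 : ℤ), (pq.2 : ℤ))

lemma emb_injective : Function.Injective emb := by
  rintro ⟨a, b⟩ ⟨c, d⟩ h
  simp only [emb, Prod.mk.injEq, Nat.cast_inj] at h
  exact Prod.ext h.1 h.2

lemma notMem_range_emb (pq : ℤ × ℤ) (h : pq ∉ Set.range emb) : pq.1 < 0 ∨ pq.2 < 0 := by
  by_contra hn
  push Not at hn
  apply h
  refine ⟨(pq.1.toNat, pq.2.toNat), ?_⟩
  simp only [emb]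
  exact Prod.ext (Int.toNat_of_nonneg hn.1) (Int.toNat_of_nonneg hn.2)

/-- the boundedness condition on a bigraded `ℂ[X]`-module -/
structure Bdd (M : ℤ × ℤ → PM.{u}) (N : ℕ) (a c : ℕ → ℝ) (b d : ℕ → ℕ) : Prop where
  quad : ∀ pq : ℤ × ℤ, pq.1 < 0 ∨ pq.2 < 0 → IsZero (M pq)
  fin : ∀ pq : ℤ × ℤ, Module.Finite ℂ (rs.obj (M pq))
  van : ∀ p q : ℕ, N < q → IsZero (M ((p : ℤ), (q : ℤ)))
  eig : ∀ (p q : ℕ) (μ : ℂ), Module.End.HasEigenvalue (phi (M ((p : ℤ), (q : ℤ)))) μ →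
    ‖μ‖ ≤ a q * c p
  rank : ∀ p q : ℕ, Module.finrank ℂ (rs.obj (M ((p : ℤ), (q : ℤ)))) ≤ b q * d p

variable {M M' : ℤ × ℤ → PM.{u}} {N : ℕ} {a c : ℕ → ℝ} {b d : ℕ → ℕ}

/-- a family of "subquotients" of a bounded family is bounded -/
theorem Bdd.of_le (hM : Bdd M N a c b d)
    (h0 : ∀ pq, IsZero (M pq) → IsZero (M' pq))
    (hfin : ∀ pq, Module.Finite ℂ (rs.obj (M pq)) → Module.Finite ℂ (rs.obj (M' pq)))
    (heig : ∀ pq μ, Module.Finite ℂ (rs.obj (M pq)) → Module.End.HasEigenvalue (phi (M' pq)) μ →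
      Module.End.HasEigenvalue (phi (M pq)) μ)
    (hrank : ∀ pq, Module.Finite ℂ (rs.obj (M pq)) →
      Module.finrank ℂ (rs.obj (M' pq)) ≤ Module.finrank ℂ (rs.obj (M pq))) :
    Bdd M' N a c b d where
  quad pq h := h0 pq (hM.quad pq h)
  fin pq := hfin pq (hM.fin pq)
  van p q h := h0 _ (hM.van p q h)
  eig p q μ h := hM.eig p q μ (heig _ μ (hM.fin _) h)
  rank p q := (hrank _ (hM.fin _)).trans (hM.rank p q)

theorem Bdd.summable_norm (hM : Bdd M N a c b d) (ha : ∀ q, 0 ≤ a q) (hc : ∀ p, 0 ≤ c p)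
    (hsum : Summable fun p : ℕ => c p * (d p : ℝ)) :
    Summable fun pq : ℕ × ℕ => ‖tr (M (emb pq))‖ := by
  have : ∀ p q : ℕ, FiniteDimensional ℂ ↑(rs.obj (M ((p : ℤ), (q : ℤ)))) := fun p q => hM.fin _
  exact Groth.Agent.S14280.result (fun p q => ↑(rs.obj (M ((p : ℤ), (q : ℤ)))))
    (fun p q => phi (M ((p : ℤ), (q : ℤ)))) N a c b d ha hc
    (fun p q h => (ModuleCat.subsingleton_of_isZero (hM.van p q h) : Subsingleton ↑(M ((p : ℤ), (q : ℤ)))))
    (fun p q μ h => hM.eig p q μ h) (fun p q => hM.rank p q) hsum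

theorem Bdd.summable_nat (hM : Bdd M N a c b d) (ha : ∀ q, 0 ≤ a q) (hc : ∀ p, 0 ≤ c p)
    (hsum : Summable fun p : ℕ => c p * (d p : ℝ)) :
    Summable fun pq : ℕ × ℕ => sgn (emb pq) * tr (M (emb pq)) := by
  refine Summable.of_norm ?_
  refine (hM.summable_norm ha hc hsum).congr (fun pq => ?_)
  rw [norm_mul, norm_sgn, one_mul]

theorem Bdd.tr_eq_zero (hM : Bdd M N a c b d) (pq : ℤ × ℤ) (h : pq ∉ Set.range emb) :
    tr (M pq) = 0 :=
  tr_eq_zero_of_isZero (hM.quad pq (notMem_range_emb pq h))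

theorem Bdd.summable_int (hM : Bdd M N a c b d) (ha : ∀ q, 0 ≤ a q) (hc : ∀ p, 0 ≤ c p)
    (hsum : Summable fun p : ℕ => c p * (d p : ℝ)) :
    Summable fun pq : ℤ × ℤ => sgn pq * tr (M pq) := by
  refine (emb_injective.summable_iff ?_).1 (hM.summable_nat ha hc hsum)
  intro pq h
  rw [hM.tr_eq_zero pq h, mul_zero]

theorem Bdd.tsum_int (hM : Bdd M N a c b d) :
    ∑' pq : ℤ × ℤ, sgn pq * tr (M pq) = ∑' pq : ℕ × ℕ, sgn (emb pq) * tr (M (emb pq)) := by
  refine (emb_injective.tsum_eq ?_).symm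
  intro pq h
  by_contra hn
  apply h
  show sgn pq * tr (M pq) = 0
  rw [hM.tr_eq_zero pq hn, mul_zero]

theorem tsum_telescope (T T' β : ℤ × ℤ → ℂ) (v : ℤ × ℤ) (hv : v.1 + v.2 = 1)
    (hid : ∀ pq, T pq = β pq + T' pq + β (pq + v))
    (hβ : Summable fun pq => sgn pq * β pq) (hT' : Summable fun pq => sgn pq * T' pq) :
    ∑' pq, sgn pq * T pq = ∑' pq, sgn pq * T' pq := by
  set g : ℤ × ℤ → ℂ := fun pq => sgn pq * β pq with hg
  have hshift : Summable fun pq => g (pq + v) := (Equiv.addRight v).summable_iff.2 hβ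
  have hts : ∑' pq, g (pq + v) = ∑' pq, g pq := (Equiv.addRight v).tsum_eq g
  have hpt : ∀ pq, sgn pq * T pq = sgn pq * T' pq + (g pq - g (pq + v)) := by
    intro pq
    simp only [hg]
    rw [hid pq, sgn_add pq v hv]; ring
  rw [tsum_congr hpt, Summable.tsum_add hT' (hβ.sub hshift), Summable.tsum_sub hβ hshift, hts,
    sub_self, add_zero]

section Page

variable {v : ℤ × ℤ} (K : HomologicalComplex PM.{u} (ComplexShape.up' v))

/-- the boundaries arriving at position `j` -/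
noncomputable abbrev bd (j : ℤ × ℤ) : PM.{u} := imF (K.sc j)

theorem tr_range_congr_left (i i' j : ℤ × ℤ) (h : i = i') :
    tr (ModuleCat.of (Polynomial ℂ) (LinearMap.range (K.d i j).hom)) =
      tr (ModuleCat.of (Polynomial ℂ) (LinearMap.range (K.d i' j).hom)) := by
  subst h; rfl

theorem tr_range_congr_right (i j j' : ℤ × ℤ) (h : j = j') :
    tr (ModuleCat.of (Polynomial ℂ) (LinearMap.range (K.d i j).hom)) =
      tr (ModuleCat.of (Polynomial ℂ) (LinearMap.range (K.d i j').hom)) := by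
  subst h; rfl

theorem tr_X (j : ℤ × ℤ) [Module.Finite ℂ (rs.obj (K.X j))] :
    tr (K.X j) = tr (bd K j) + tr (K.homology j) + tr (bd K (j + v)) := by
  have hfin : Module.Finite ℂ (rs.obj (K.sc j).X₂) := ‹Module.Finite ℂ (rs.obj (K.X j))›
  have h := tr_X₂ (K.sc j)
  have hn : (ComplexShape.up' v).next j = j + v := (ComplexShape.up' v).next_eq' rfl
  have hp : (ComplexShape.up' v).prev (j + v) = j := (ComplexShape.up' v).prev_eq' rfl
  have e : tr (imG (K.sc j)) = tr (bd K (j + v)) :=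
    (tr_range_congr_right K j _ _ hn).trans (tr_range_congr_left K _ _ _ hp.symm)
  rw [← e]
  exact h

end Page

section Iso

variable {A B : PM.{u}} (e : A ≅ B)

include e in
theorem injective_of_iso_hom : Function.Injective e.hom.hom := by
  intro x y h
  have := congrArg e.inv.hom h
  have hx : e.inv.hom (e.hom.hom x) = x := congrArg (fun t => t.hom x) e.hom_inv_id
  have hy : e.inv.hom (e.hom.hom y) = y := congrArg (fun t => t.hom y) e.hom_inv_id
  rw [hx, hy] at this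
  exact this

end Iso

section SS

variable (E : E₂CohomologicalSpectralSequence PM.{u}) (r : ℤ) (hr : 2 ≤ r)

theorem bdd_succ (h : Bdd (fun pq => (E.page r hr).X pq) N a c b d) :
    Bdd (fun pq => (E.page (r + 1) (Int.le_add_one hr)).X pq) N a c b d := by
  refine h.of_le ?_ ?_ ?_ ?_
  · intro pq h0
    have : IsZero ((E.page r hr).homology pq) :=
      ShortComplex.isZero_homology_of_isZero_X₂ _ h0
    exact this.of_iso (E.iso r (r + 1) pq rfl hr).symm
  · intro pq hf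
    have hf' : Module.Finite ℂ (rs.obj ((E.page r hr).sc pq).X₂) := hf
    have hh : Module.Finite ℂ (rs.obj ((E.page r hr).homology pq)) :=
      finite_homology ((E.page r hr).sc pq)
    exact finite_of_injective (E.iso r (r + 1) pq rfl hr).inv
      (injective_of_iso_hom (E.iso r (r + 1) pq rfl hr).symm)
  · intro pq μ hf hμ
    have hf' : Module.Finite ℂ (rs.obj ((E.page r hr).sc pq).X₂) := hf
    exact eig_homology ((E.page r hr).sc pq) μ
      (eig_of_injective (E.iso r (r + 1) pq rfl hr).inv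
        (injective_of_iso_hom (E.iso r (r + 1) pq rfl hr).symm) μ hμ)
  · intro pq hf
    have hf' : Module.Finite ℂ (rs.obj ((E.page r hr).sc pq).X₂) := hf
    have hh : Module.Finite ℂ (rs.obj ((E.page r hr).homology pq)) :=
      finite_homology ((E.page r hr).sc pq)
    exact (finrank_le_of_injective (E.iso r (r + 1) pq rfl hr).inv
      (injective_of_iso_hom (E.iso r (r + 1) pq rfl hr).symm)).trans
      (finrank_homology_le ((E.page r hr).sc pq))

theorem bdd_bd (h : Bdd (fun pq => (E.page r hr).X pq) N a c b d) :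
    Bdd (fun pq => bd (E.page r hr) pq) N a c b d := by
  refine h.of_le ?_ ?_ ?_ ?_
  · intro pq h0
    exact isZero_imF ((E.page r hr).sc pq) h0
  · intro pq hf
    have hf' : Module.Finite ℂ (rs.obj ((E.page r hr).sc pq).X₂) := hf
    exact finite_imF ((E.page r hr).sc pq)
  · intro pq μ hf hμ
    exact eig_imF ((E.page r hr).sc pq) μ hμ
  · intro pq hf
    have hf' : Module.Finite ℂ (rs.obj ((E.page r hr).sc pq).X₂) := hf
    exact finrank_imF_le ((E.page r hr).sc pq)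

theorem tsum_succ_int (h : Bdd (fun pq => (E.page r hr).X pq) N a c b d)
    (ha : ∀ q, 0 ≤ a q) (hc : ∀ p, 0 ≤ c p) (hsum : Summable fun p : ℕ => c p * (d p : ℝ)) :
    ∑' pq : ℤ × ℤ, sgn pq * tr ((E.page r hr).X pq) =
      ∑' pq : ℤ × ℤ, sgn pq * tr ((E.page (r + 1) (Int.le_add_one hr)).X pq) := by
  refine tsum_telescope _ _ (fun pq => tr (bd (E.page r hr) pq)) (r, 1 - r) (by simp) ?_
    ((bdd_bd E r hr h).summable_int ha hc hsum) ((bdd_succ E r hr h).summable_int ha hc hsum)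
  intro pq
  have := h.fin pq
  rw [tr_X (E.page r hr) pq, tr_eq_of_iso (E.iso r (r + 1) pq rfl hr)]

theorem tsum_succ_nat (h : Bdd (fun pq => (E.page r hr).X pq) N a c b d)
    (ha : ∀ q, 0 ≤ a q) (hc : ∀ p, 0 ≤ c p) (hsum : Summable fun p : ℕ => c p * (d p : ℝ)) :
    ∑' pq : ℕ × ℕ, sgn (emb pq) * tr ((E.page (r + 1) (Int.le_add_one hr)).X (emb pq)) =
      ∑' pq : ℕ × ℕ, sgn (emb pq) * tr ((E.page r hr).X (emb pq)) := by
  rw [← (bdd_succ E r hr h).tsum_int, ← h.tsum_int]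
  exact (tsum_succ_int E r hr h ha hc hsum).symm

end SS

end Groth.Agent.Lib.Helper19.TracePage
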