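import Mathlib

/-!
helper19: additivity of traces / eigenvalue bounds / finrank along short exact sequences of
finite-dimensional vector spaces with compatible endomorphisms.
-/

set_option autoImplicit false
universe u

namespace Groth.Agent.Lib.Helper19.TraceSES

section LinAlg

variable {K : Type*} [Field K]
variable {A B C : Type*} [AddCommGroup A] [Module K A] [AddCommGroup B] [Module K B]
  [AddCommGroup C] [Module K C]

theorem trace_eq_add_of_exact [FiniteDimensional K B] (i : A →ₗ[K] B) (p : B →ₗ[K] C)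
    (hi : Function.Injective i) (hp : Function.Surjective p) (hex : Function.Exact i p)
    (fA : A →ₗ[K] A) (fB : B →ₗ[K] B) (fC : C →ₗ[K] C)
    (h1 : i ∘ₗ fA = fB ∘ₗ i) (h2 : p ∘ₗ fB = fC ∘ₗ p) :
    LinearMap.trace K B fB = LinearMap.trace K A fA + LinearMap.trace K C fC := by
  have : FiniteDimensional K A := FiniteDimensional.of_injective i hi
  have : FiniteDimensional K C := FiniteDimensional.of_surjective p hp
  obtain ⟨π, hπ⟩ := LinearMap.exists_leftInverse_of_injective i (LinearMap.ker_eq_bot.2 hi)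
  obtain ⟨s0, hs0⟩ := LinearMap.exists_rightInverse_of_surjective p (LinearMap.range_eq_top.2 hp)
  have hpi : p ∘ₗ i = 0 := by
    ext a
    exact hex.apply_apply_eq_zero a
  let s : C →ₗ[K] B := s0 - i ∘ₗ π ∘ₗ s0
  have hps : p ∘ₗ s = LinearMap.id := by
    ext c
    have h0 : p (i (π (s0 c))) = 0 := hex.apply_apply_eq_zero _
    have h1' : p (s0 c) = c := LinearMap.congr_fun hs0 c
    simp only [s, LinearMap.comp_apply, LinearMap.sub_apply, LinearMap.id_apply, map_sub, h0, h1',
      sub_zero]
  have hsum : i ∘ₗ π + s ∘ₗ p = LinearMap.id := by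
    ext b
    have hb : p (s0 (p b) - b) = 0 := by
      rw [map_sub]
      have := LinearMap.congr_fun hs0 (p b)
      simp only [LinearMap.comp_apply, LinearMap.id_apply] at this
      rw [this, sub_self]
    obtain ⟨a, ha⟩ := (hex _).1 hb
    have h3 : i (π (s0 (p b) - b)) = s0 (p b) - b := by
      rw [← ha]
      congr 1
      exact LinearMap.congr_fun hπ a
    rw [map_sub, map_sub] at h3
    simp only [s, LinearMap.add_apply, LinearMap.comp_apply, LinearMap.sub_apply,
      LinearMap.id_apply]
    have h4 : i (π b) + (s0 (p b) - i (π (s0 (p b)))) - b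
        = (s0 (p b) - b) - (i (π (s0 (p b))) - i (π b)) := by abel
    exact sub_eq_zero.1 (by rw [h4, h3, sub_self])
  have e1 : LinearMap.trace K B ((fB ∘ₗ i) ∘ₗ π) = LinearMap.trace K A fA := by
    rw [LinearMap.trace_comp_comm' π (fB ∘ₗ i), ← h1, ← LinearMap.comp_assoc, hπ,
      LinearMap.id_comp]
  have e2 : LinearMap.trace K B ((fB ∘ₗ s) ∘ₗ p) = LinearMap.trace K C fC := by
    rw [LinearMap.trace_comp_comm' p (fB ∘ₗ s), ← LinearMap.comp_assoc, h2,
      LinearMap.comp_assoc, hps, LinearMap.comp_id]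
  calc LinearMap.trace K B fB
      = LinearMap.trace K B (fB ∘ₗ (i ∘ₗ π + s ∘ₗ p)) := by rw [hsum, LinearMap.comp_id]
    _ = LinearMap.trace K B ((fB ∘ₗ i) ∘ₗ π) + LinearMap.trace K B ((fB ∘ₗ s) ∘ₗ p) := by
        rw [LinearMap.comp_add, map_add, LinearMap.comp_assoc, LinearMap.comp_assoc]
    _ = LinearMap.trace K A fA + LinearMap.trace K C fC := by rw [e1, e2]

theorem hasEigenvalue_of_injective (i : A →ₗ[K] B) (hi : Function.Injective i)
    (fA : A →ₗ[K] A) (fB : B →ₗ[K] B) (h1 : i ∘ₗ fA = fB ∘ₗ i) (μ : K)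
    (h : Module.End.HasEigenvalue fA μ) : Module.End.HasEigenvalue fB μ := by
  obtain ⟨v, hv⟩ := h.exists_hasEigenvector
  refine Module.End.hasEigenvalue_of_hasEigenvector (x := i v) ⟨?_, ?_⟩
  · rw [Module.End.mem_eigenspace_iff]
    have := LinearMap.congr_fun h1 v
    simp only [LinearMap.comp_apply] at this
    rw [← this, hv.apply_eq_smul, map_smul]
  · intro h0
    exact hv.2 (hi (by rw [h0, map_zero]))

theorem hasEigenvalue_of_surjective [FiniteDimensional K B] (p : B →ₗ[K] C)
    (hp : Function.Surjective p)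
    (fB : B →ₗ[K] B) (fC : C →ₗ[K] C) (h2 : p ∘ₗ fB = fC ∘ₗ p) (μ : K)
    (h : Module.End.HasEigenvalue fC μ) : Module.End.HasEigenvalue fB μ := by
  have : FiniteDimensional K C := FiniteDimensional.of_surjective p hp
  by_contra hB
  have hker : LinearMap.ker (fB - μ • (1 : Module.End K B)) = ⊥ := by
    by_contra hne
    exact hB (by rw [Module.End.hasEigenvalue_iff, Module.End.eigenspace_def]; exact hne)
  have hinj : Function.Injective (fB - μ • (1 : Module.End K B)) :=
    LinearMap.ker_eq_bot.1 hker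
  have hsurj : Function.Surjective (fB - μ • (1 : Module.End K B)) :=
    LinearMap.injective_iff_surjective.1 hinj
  have hcomm : p ∘ₗ (fB - μ • (1 : Module.End K B)) =
      (fC - μ • (1 : Module.End K C)) ∘ₗ p := by
    ext b
    have := LinearMap.congr_fun h2 b
    simp only [LinearMap.comp_apply] at this
    simp [LinearMap.sub_apply, this]
  have hsurjC : Function.Surjective (fC - μ • (1 : Module.End K C)) := by
    intro c
    obtain ⟨b, rfl⟩ := hp c
    obtain ⟨b', rfl⟩ := hsurj b
    exact ⟨p b', (LinearMap.congr_fun hcomm b').symm⟩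
  have hinjC : Function.Injective (fC - μ • (1 : Module.End K C)) :=
    LinearMap.injective_iff_surjective.2 hsurjC
  rw [Module.End.hasEigenvalue_iff, Module.End.eigenspace_def] at h
  exact h (LinearMap.ker_eq_bot.2 hinjC)

theorem finrank_eq_add_of_exact [FiniteDimensional K B] (i : A →ₗ[K] B) (p : B →ₗ[K] C)
    (hi : Function.Injective i) (hp : Function.Surjective p) (hex : Function.Exact i p) :
    Module.finrank K B = Module.finrank K A + Module.finrank K C := by
  have h := LinearMap.finrank_range_add_finrank_ker p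
  rw [LinearMap.range_eq_top.2 hp, finrank_top] at h
  have hk : LinearMap.ker p = LinearMap.range i := (LinearMap.exact_iff.1 hex)
  rw [hk, LinearMap.finrank_range_of_inj hi] at h
  omega

theorem finite_of_exact (i : A →ₗ[K] B) (p : B →ₗ[K] C)
    (hp : Function.Surjective p) (hex : Function.Exact i p)
    [FiniteDimensional K A] [FiniteDimensional K C] : FiniteDimensional K B := by
  have hk : LinearMap.ker p = LinearMap.range i := (LinearMap.exact_iff.1 hex)
  have h1 : Module.Finite K (LinearMap.ker p) := by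
    rw [hk]; infer_instance
  have h2 : Module.Finite K (B ⧸ LinearMap.ker p) :=
    Module.Finite.equiv (LinearMap.quotKerEquivOfSurjective p hp).symm
  exact Module.Finite.of_submodule_quotient (LinearMap.ker p)

end LinAlg

section PolyMod

open CategoryTheory

/-- restriction of scalars from `ℂ[X]` to `ℂ` -/
noncomputable abbrev rs : ModuleCat.{u} (Polynomial ℂ) ⥤ ModuleCat.{u} ℂ :=
  ModuleCat.restrictScalars (algebraMap ℂ (Polynomial ℂ))

/-- multiplication by `X`, as a `ℂ`-linear endomorphism -/
noncomputable abbrev phi (M : ModuleCat.{u} (Polynomial ℂ)) : (rs.obj M) →ₗ[ℂ] (rs.obj M) :=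
  (rs.map ((Polynomial.X : Polynomial ℂ) • 𝟙 M)).hom

/-- the trace of multiplication by `X` -/
noncomputable abbrev tr (M : ModuleCat.{u} (Polynomial ℂ)) : ℂ :=
  LinearMap.trace ℂ (rs.obj M) (phi M)

variable {M N P : ModuleCat.{u} (Polynomial ℂ)}

/-- the underlying `ℂ`-linear map of a morphism -/
noncomputable abbrev lin (g : M ⟶ N) : rs.obj M →ₗ[ℂ] rs.obj N := (rs.map g).hom

lemma lin_comm (g : M ⟶ N) : lin g ∘ₗ phi M = phi N ∘ₗ lin g := by
  ext x
  show g.hom ((Polynomial.X : Polynomial ℂ) • x) = (Polynomial.X : Polynomial ℂ) • g.hom x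
  exact map_smul _ _ _

theorem finite_of_injective (g : M ⟶ N) (hg : Function.Injective g.hom)
    [Module.Finite ℂ (rs.obj N)] : Module.Finite ℂ (rs.obj M) :=
  FiniteDimensional.of_injective (lin g) hg

theorem finite_of_surjective (g : M ⟶ N) (hg : Function.Surjective g.hom)
    [Module.Finite ℂ (rs.obj M)] : Module.Finite ℂ (rs.obj N) :=
  FiniteDimensional.of_surjective (lin g) hg

theorem finrank_le_of_injective (g : M ⟶ N) (hg : Function.Injective g.hom)
    [Module.Finite ℂ (rs.obj N)] :
    Module.finrank ℂ (rs.obj M) ≤ Module.finrank ℂ (rs.obj N) :=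
  LinearMap.finrank_le_finrank_of_injective (f := lin g) hg

theorem finrank_le_of_surjective (g : M ⟶ N) (hg : Function.Surjective g.hom)
    [Module.Finite ℂ (rs.obj M)] :
    Module.finrank ℂ (rs.obj N) ≤ Module.finrank ℂ (rs.obj M) := by
  have h := LinearMap.finrank_range_le (lin g)
  rwa [LinearMap.range_eq_top.2 (show Function.Surjective (lin g) from hg), finrank_top] at h

theorem eig_of_injective (g : M ⟶ N) (hg : Function.Injective g.hom) (μ : ℂ)
    (h : Module.End.HasEigenvalue (phi M) μ) : Module.End.HasEigenvalue (phi N) μ :=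
  hasEigenvalue_of_injective (lin g) hg (phi M) (phi N) (lin_comm g) μ h

theorem eig_of_surjective (g : M ⟶ N) (hg : Function.Surjective g.hom)
    [Module.Finite ℂ (rs.obj M)] (μ : ℂ)
    (h : Module.End.HasEigenvalue (phi N) μ) : Module.End.HasEigenvalue (phi M) μ :=
  hasEigenvalue_of_surjective (lin g) hg (phi M) (phi N) (lin_comm g) μ h

theorem tr_eq_add (f : M ⟶ N) (g : N ⟶ P) (hf : Function.Injective f.hom)
    (hg : Function.Surjective g.hom) (hex : Function.Exact f.hom g.hom)
    [Module.Finite ℂ (rs.obj N)] : tr N = tr M + tr P :=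
  trace_eq_add_of_exact (lin f) (lin g) hf hg hex (phi M) (phi N) (phi P) (lin_comm f) (lin_comm g)

theorem tr_eq_of_iso (e : M ≅ N) : tr M = tr N := by
  let e' : rs.obj M ≃ₗ[ℂ] rs.obj N := (rs.mapIso e).toLinearEquiv
  have h : e'.conj (phi M) = phi N := by
    ext x
    rw [LinearEquiv.conj_apply]
    show e.hom.hom ((Polynomial.X : Polynomial ℂ) • e.inv.hom x) = (Polynomial.X : Polynomial ℂ) • x
    rw [map_smul]
    congr 1
    exact congrArg (fun t => t.hom x) e.inv_hom_id
  show LinearMap.trace ℂ _ (phi M) = LinearMap.trace ℂ _ (phi N)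
  rw [← h, LinearMap.trace_conj']

theorem tr_eq_zero_of_isZero (h : Limits.IsZero M) : tr M = 0 := by
  have hs : Subsingleton M := ModuleCat.subsingleton_of_isZero h
  have : phi M = 0 := by
    ext x
    exact @Subsingleton.elim _ hs _ _
  show LinearMap.trace ℂ _ (phi M) = 0
  rw [this, map_zero]

theorem finite_of_exact' (f : M ⟶ N) (g : N ⟶ P)
    (hg : Function.Surjective g.hom) (hex : Function.Exact f.hom g.hom)
    [Module.Finite ℂ (rs.obj M)] [Module.Finite ℂ (rs.obj P)] : Module.Finite ℂ (rs.obj N) :=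
  finite_of_exact (lin f) (lin g) hg hex

theorem tr_shortExact (S : ShortComplex (ModuleCat.{u} (Polynomial ℂ))) (hS : S.ShortExact)
    [Module.Finite ℂ (rs.obj S.X₂)] : tr S.X₂ = tr S.X₁ + tr S.X₃ :=
  tr_eq_add S.f S.g hS.moduleCat_injective_f hS.moduleCat_surjective_g
    ((ShortComplex.ShortExact.moduleCat_exact_iff_function_exact S).1 hS.exact)

theorem finite_X₂_of_shortExact (S : ShortComplex (ModuleCat.{u} (Polynomial ℂ)))
    (hS : S.ShortExact) [Module.Finite ℂ (rs.obj S.X₁)] [Module.Finite ℂ (rs.obj S.X₃)] :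
    Module.Finite ℂ (rs.obj S.X₂) :=
  finite_of_exact' S.f S.g hS.moduleCat_surjective_g
    ((ShortComplex.ShortExact.moduleCat_exact_iff_function_exact S).1 hS.exact)

theorem finite_of_isZero (h : Limits.IsZero M) : Module.Finite ℂ (rs.obj M) := by
  have hs : Subsingleton M := ModuleCat.subsingleton_of_isZero h
  have : Subsingleton ↑(rs.obj M) := hs
  infer_instance

theorem finite_of_iso (e : M ≅ N) [Module.Finite ℂ (rs.obj M)] : Module.Finite ℂ (rs.obj N) :=
  Module.Finite.equiv (rs.mapIso e).toLinearEquiv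

end PolyMod

section Homology

open CategoryTheory

variable (S : ShortComplex (ModuleCat.{u} (Polynomial ℂ)))

/-- the image of `S.f`, as a `ℂ[X]`-module -/
noncomputable abbrev imF : ModuleCat.{u} (Polynomial ℂ) :=
  ModuleCat.of (Polynomial ℂ) (LinearMap.range S.f.hom)

/-- the image of `S.g`, as a `ℂ[X]`-module -/
noncomputable abbrev imG : ModuleCat.{u} (Polynomial ℂ) :=
  ModuleCat.of (Polynomial ℂ) (LinearMap.range S.g.hom)

/-- the kernel of `S.g`, as a `ℂ[X]`-module -/
noncomputable abbrev kerG : ModuleCat.{u} (Polynomial ℂ) :=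
  ModuleCat.of (Polynomial ℂ) (LinearMap.ker S.g.hom)

noncomputable def rangeToCyclesEquiv :
    LinearMap.range S.moduleCatToCycles ≃ₗ[Polynomial ℂ] LinearMap.range S.f.hom :=
  LinearEquiv.ofBijective
    (LinearMap.codRestrict (LinearMap.range S.f.hom)
      ((LinearMap.ker S.g.hom).subtype ∘ₗ (LinearMap.range S.moduleCatToCycles).subtype)
      (by rintro ⟨_, ⟨x, rfl⟩⟩; exact ⟨x, rfl⟩))
    ⟨by
      intro a b hab
      have h := congrArg Subtype.val hab
      exact Subtype.ext (Subtype.ext h),
     by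
      rintro ⟨_, ⟨x, rfl⟩⟩
      exact ⟨⟨S.moduleCatToCycles x, ⟨x, rfl⟩⟩, rfl⟩⟩

theorem tr_X₂ [Module.Finite ℂ (rs.obj S.X₂)] :
    tr S.X₂ = tr (imF S) + tr S.homology + tr (imG S) := by
  -- (1) ker g → X₂ → range g
  have h1 : tr S.X₂ = tr (kerG S) + tr (imG S) :=
    tr_eq_add (M := kerG S) (N := S.X₂) (P := imG S)
      (ModuleCat.ofHom (LinearMap.ker S.g.hom).subtype)
      (ModuleCat.ofHom S.g.hom.rangeRestrict)
      (fun a b h => Subtype.ext h)
      (LinearMap.surjective_rangeRestrict _)
      (by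
        intro y
        constructor
        · intro hy
          have : S.g.hom y = 0 := congrArg Subtype.val hy
          exact ⟨⟨y, this⟩, rfl⟩
        · rintro ⟨⟨z, hz⟩, rfl⟩
          exact Subtype.ext hz)
  have : Module.Finite ℂ (rs.obj (kerG S)) :=
    finite_of_injective (M := kerG S) (N := S.X₂)
      (ModuleCat.ofHom (LinearMap.ker S.g.hom).subtype) (fun a b h => Subtype.ext h)
  -- (2) range toCycles → ker g → quotient
  have h2 : tr (kerG S) = tr (ModuleCat.of (Polynomial ℂ) (LinearMap.range S.moduleCatToCycles)) +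
      tr S.moduleCatLeftHomologyData.H :=
    tr_eq_add (M := ModuleCat.of (Polynomial ℂ) (LinearMap.range S.moduleCatToCycles))
      (N := kerG S) (P := S.moduleCatLeftHomologyData.H)
      (ModuleCat.ofHom (LinearMap.range S.moduleCatToCycles).subtype)
      (ModuleCat.ofHom (LinearMap.range S.moduleCatToCycles).mkQ)
      (fun a b h => Subtype.ext h)
      (Submodule.mkQ_surjective _)
      (LinearMap.exact_subtype_mkQ _)
  have h3 : tr S.moduleCatLeftHomologyData.H = tr S.homology :=
    (tr_eq_of_iso S.moduleCatHomologyIso).symm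
  have h4 : tr (ModuleCat.of (Polynomial ℂ) (LinearMap.range S.moduleCatToCycles)) = tr (imF S) :=
    tr_eq_of_iso (rangeToCyclesEquiv S).toModuleIso
  rw [h1, h2, h3, h4]

theorem injective_iCycles : Function.Injective S.iCycles.hom :=
  (ModuleCat.mono_iff_injective _).1 inferInstance

theorem surjective_homologyπ : Function.Surjective S.homologyπ.hom :=
  (ModuleCat.epi_iff_surjective _).1 inferInstance

theorem finite_cycles [Module.Finite ℂ (rs.obj S.X₂)] : Module.Finite ℂ (rs.obj S.cycles) :=
  finite_of_injective S.iCycles (injective_iCycles S)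

theorem finite_homology [Module.Finite ℂ (rs.obj S.X₂)] : Module.Finite ℂ (rs.obj S.homology) :=
  have := finite_cycles S
  finite_of_surjective S.homologyπ (surjective_homologyπ S)

theorem finrank_homology_le [Module.Finite ℂ (rs.obj S.X₂)] :
    Module.finrank ℂ (rs.obj S.homology) ≤ Module.finrank ℂ (rs.obj S.X₂) :=
  have := finite_cycles S
  (finrank_le_of_surjective S.homologyπ (surjective_homologyπ S)).trans
    (finrank_le_of_injective S.iCycles (injective_iCycles S))

theorem eig_homology [Module.Finite ℂ (rs.obj S.X₂)] (μ : ℂ)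
    (h : Module.End.HasEigenvalue (phi S.homology) μ) : Module.End.HasEigenvalue (phi S.X₂) μ :=
  have := finite_cycles S
  eig_of_injective S.iCycles (injective_iCycles S) μ
    (eig_of_surjective S.homologyπ (surjective_homologyπ S) μ h)

theorem finite_imF [Module.Finite ℂ (rs.obj S.X₂)] : Module.Finite ℂ (rs.obj (imF S)) :=
  finite_of_injective (M := imF S) (N := S.X₂)
    (ModuleCat.ofHom (LinearMap.range S.f.hom).subtype) (fun a b h => Subtype.ext h)

theorem finrank_imF_le [Module.Finite ℂ (rs.obj S.X₂)] :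
    Module.finrank ℂ (rs.obj (imF S)) ≤ Module.finrank ℂ (rs.obj S.X₂) :=
  finrank_le_of_injective (M := imF S) (N := S.X₂)
    (ModuleCat.ofHom (LinearMap.range S.f.hom).subtype) (fun a b h => Subtype.ext h)

theorem eig_imF (μ : ℂ)
    (h : Module.End.HasEigenvalue (phi (imF S)) μ) : Module.End.HasEigenvalue (phi S.X₂) μ :=
  eig_of_injective (M := imF S) (N := S.X₂)
    (ModuleCat.ofHom (LinearMap.range S.f.hom).subtype) (fun a b h => Subtype.ext h) μ h

theorem isZero_imF (h : Limits.IsZero S.X₂) : Limits.IsZero (imF S) := by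
  have hs : Subsingleton S.X₂ := ModuleCat.subsingleton_of_isZero h
  have : Subsingleton (LinearMap.range S.f.hom) := ⟨fun a b => Subtype.ext (Subsingleton.elim _ _)⟩
  exact ModuleCat.isZero_of_subsingleton _

end Homology

end Groth.Agent.Lib.Helper19.TraceSES
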